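import Cfsg.Agent.Lib.SelfCentThree.Main
import Cfsg.Agent.Lib.CoprimeGen

/-!
Simple groups with a self-centralising Sylow 3-subgroup of order nine and a single class of elements of order
three: elementary facts, and the passage to groups with a self-centralising element of order three.
-/

set_option autoImplicit false
set_option linter.unusedSectionVars false

namespace CfsgLib.KFactNine

open CfsgLib.SelfCentThree
open scoped commutatorElement

universe u

variable {G : Type u} [Group G]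

/-- The setting. -/
structure One (G : Type u) [Group G] : Prop where
  /-- simple -/
  simple : IsSimpleGroup G
  /-- not commutative -/
  nc : ¬ IsMulCommutative G
  /-- centralizers of elements of order three -/
  cube : ∀ x y : G, orderOf x = 3 → Commute x y → y ^ 3 = 1
  /-- one class -/
  conj : ∀ x y : G, orderOf x = 3 → orderOf y = 3 → IsConj x y
  /-- nine divides the order -/
  nine : 9 ∣ Nat.card G
  /-- twenty-seven does not -/
  not27 : ¬ 27 ∣ Nat.card G

/-- An element of order three in the setting. -/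
structure P3 (x : G) : Prop where
  /-- the setting -/
  one : One G
  /-- order three -/
  ord : orderOf x = 3

variable {x : G}

theorem P3.pow_three (h : P3 x) : x ^ 3 = 1 := h.ord ▸ pow_orderOf_eq_one x

theorem P3.ne_one (h : P3 x) : x ≠ 1 := fun e => by have := h.ord; rw [e, orderOf_one] at this; omega

theorem P3.of_order (h : P3 x) {y : G} (hy : orderOf y = 3) : P3 y := ⟨h.one, hy⟩

theorem P3.inv (h : P3 x) : P3 x⁻¹ := ⟨h.one, by rw [orderOf_inv, h.ord]⟩

theorem P3.conj (h : P3 x) (g : G) : P3 (g * x * g⁻¹) :=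
  ⟨h.one, by rw [show g * x * g⁻¹ = MulAut.conj g x from rfl, MulEquiv.orderOf_eq, h.ord]⟩

theorem P3.order_of_isConj (h : P3 x) {y : G} (hy : IsConj x y) : orderOf y = 3 := by
  obtain ⟨c, rfl⟩ := isConj_iff.1 hy
  exact (h.conj c).ord

theorem P3.fpf (h : P3 x) {K : Subgroup G} (hK : Three' K) : ∀ k ∈ K, Commute x k → k = 1 := by
  intro k hk hc
  have h3 := h.one.cube x k h.ord hc
  haveI := Fact.mk Nat.prime_three
  by_contra hk1
  exact hK (orderOf_eq_prime h3 hk1 ▸ Subgroup.orderOf_dvd_natCard K hk)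

theorem P3.of_three (h : P3 x) {k : G} (h3 : k ^ 3 = 1) (hk : k ≠ 1) : P3 k :=
  haveI := Fact.mk Nat.prime_three
  h.of_order (orderOf_eq_prime h3 hk)

variable [Finite G]

theorem P3.normalizer_data (h : P3 x) {K : Subgroup G} (hK : Three' K) (hxK : Inv' x K) :
    ∃ hx : x ∈ Subgroup.normalizer (K : Set G),
      (K.subgroupOf (Subgroup.normalizer (K : Set G))).Normal ∧
      ∀ k ∈ K.subgroupOf (Subgroup.normalizer (K : Set G)),
        Commute (⟨x, hx⟩ : Subgroup.normalizer (K : Set G)) k → k = 1 :=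
  ⟨inv'_iff_mem_normalizer.1 hxK, Subgroup.normal_in_normalizer, fun k hk hc =>
    Subtype.ext (h.fpf hK k.1 hk (hc.map (Subgroup.subtype _)))⟩

theorem P3.preimage (h : P3 x) {K : Subgroup G} (hK : Three' K) (hxK : Inv' x K) {v : G} (hv : v ∈ K) :
    ∃ n ∈ K, n⁻¹ * (x * n * x⁻¹) = v := by
  obtain ⟨hx, hn, hf⟩ := h.normalizer_data hK hxK
  haveI := hn
  obtain ⟨n, hn, e⟩ := FpfThree.exists_preimage (d := (⟨x, hx⟩ : Subgroup.normalizer (K : Set G))) hf
    (v := ⟨v, Subgroup.le_normalizer hv⟩) hv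
  exact ⟨n.1, hn, congrArg Subtype.val e⟩

theorem P3.orbit_prod (h : P3 x) {K : Subgroup G} (hK : Three' K) (hxK : Inv' x K) {v : G} (hv : v ∈ K) :
    v * (x * v * x⁻¹) * (x * x * v * (x * x)⁻¹) = 1 := by
  obtain ⟨hx, hn, hf⟩ := h.normalizer_data hK hxK
  haveI := hn
  exact congrArg Subtype.val (FpfThree.orbit_prod (d := (⟨x, hx⟩ : Subgroup.normalizer (K : Set G)))
    (Subtype.ext h.pow_three) hf (v := ⟨v, Subgroup.le_normalizer hv⟩) hv)

theorem P3.comm_orbit (h : P3 x) {K : Subgroup G} (hK : Three' K) (hxK : Inv' x K) {v : G} (hv : v ∈ K) :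
    Commute v (x * v * x⁻¹) := by
  obtain ⟨hx, hn, hf⟩ := h.normalizer_data hK hxK
  haveI := hn
  exact (FpfThree.comm_orbit (d := (⟨x, hx⟩ : Subgroup.normalizer (K : Set G)))
    (Subtype.ext h.pow_three) hf (v := ⟨v, Subgroup.le_normalizer hv⟩) hv).map (Subgroup.subtype _)

theorem P3.class_two (h : P3 x) {K : Subgroup G} (hK : IsPGroup 2 K) (hxK : Inv' x K) {a b c : G}
    (ha : a ∈ K) (hb : b ∈ K) (hc : c ∈ K) : Commute c ⁅a, b⁆ := by
  have hK' : Three' K := fun h3 => by
    haveI : Fact (Nat.Prime 2) := ⟨Nat.prime_two⟩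
    obtain ⟨n, hn⟩ := IsPGroup.iff_card.1 hK
    rw [hn] at h3
    have := Nat.prime_three.dvd_of_dvd_pow h3
    norm_num at this
  obtain ⟨hx, hn, hf⟩ := h.normalizer_data hK' hxK
  haveI := hn
  have := (FpfThree.class_two (d := (⟨x, hx⟩ : Subgroup.normalizer (K : Set G))) (Subtype.ext h.pow_three) hf
    (hK.comap_of_injective _ (Subgroup.subtype_injective _)) ⟨a, Subgroup.le_normalizer ha⟩ ha
    ⟨b, Subgroup.le_normalizer hb⟩ hb ⟨c, Subgroup.le_normalizer hc⟩ hc).map (Subgroup.subtype _)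
  simpa [commutatorElement_def] using this

/-- Every element of the coset `Kx` is conjugate to `x` under `K`. -/
theorem P3.coset_conj (h : P3 x) {K : Subgroup G} (hK : Three' K) (hxK : Inv' x K) {v : G} (hv : v ∈ K) :
    ∃ n ∈ K, n * x * n⁻¹ = v * x := by
  obtain ⟨n, hn, e⟩ := h.preimage hK hxK hv
  refine ⟨n⁻¹, inv_mem hn, ?_⟩
  rw [← e]
  group

/-- No nontrivial subgroup of order prime to three is normalized by two independent commuting elements. -/
theorem P3.eq_bot_of_two (h : P3 x) {K : Subgroup G} (hK : Three' K) (hxK : Inv' x K) {y : G}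
    (hyK : Inv' y K) (hc : Commute x y) (hy : y ∉ Subgroup.zpowers x) : K = ⊥ := by
  classical
  have hy3 := h.one.cube x y h.ord hc
  set A := Subgroup.closure ({x, y} : Set G) with hA
  haveI hAc : IsMulCommutative A := Subgroup.isMulCommutative_closure (by
    rintro a (rfl | rfl) b (rfl | rfl)
    exacts [rfl, hc.eq, hc.eq.symm, rfl])
  have hA3 : ∀ a ∈ A, a ^ 3 = 1 := closure_pow (by
    rintro a (rfl | rfl) b (rfl | rfl)
    exacts [Commute.refl _, hc, hc.symm, Commute.refl _]) (by rintro a (rfl | rfl); exacts [h.pow_three, hy3])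
  have hxA : x ∈ A := Subgroup.subset_closure (by simp)
  have hyA : y ∈ A := Subgroup.subset_closure (by simp)
  have hncyc : ¬ IsCyclic A := by
    intro hcy
    obtain ⟨g, hg⟩ := hcy.exists_generator
    have hle : Nat.card A ≤ 3 := by
      rw [← orderOf_eq_card_of_forall_mem_zpowers hg, ← Subgroup.orderOf_coe]
      exact Nat.le_of_dvd (by norm_num) (orderOf_dvd_of_pow_eq_one (hA3 _ g.2))
    have hxl : Subgroup.zpowers x = A := Subgroup.eq_of_le_of_card_ge (Subgroup.zpowers_le.2 hxA)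
      (by rw [Nat.card_zpowers, h.ord]; exact hle)
    exact hy (hxl.symm ▸ hyA)
  have hAN : A ≤ Subgroup.normalizer (K : Set G) := by
    rw [hA, Subgroup.closure_le]
    rintro a (rfl | rfl)
    exacts [inv'_iff_mem_normalizer.1 hxK, inv'_iff_mem_normalizer.1 hyK]
  have hcop : (Nat.card A).Coprime (Nat.card K) := by
    refine Nat.coprime_of_dvd fun p hp hpA hpK => hK ?_
    have := prime_dvd_card_pow hA3 hp hpA
    exact ((Nat.prime_dvd_prime_iff_eq hp Nat.prime_three).1 this) ▸ hpK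
  rw [eq_bot_iff, ← CfsgLib.coprime_generated_by_centralizers hncyc hAN hcop]
  refine iSup₂_le fun a ha k hk => ?_
  obtain ⟨hkK, hka⟩ := Subgroup.mem_inf.1 hk
  exact Subgroup.mem_bot.2 ((h.of_three (hA3 a ha.1) ha.2).fpf hK k hkK
    (Subgroup.mem_centralizer_singleton_iff.1 hka).symm)

/-- Inside the normalizer of a nontrivial subgroup of order prime to three, `x` is self-centralizing. -/
theorem P3.loc (h : P3 x) {K : Subgroup G} (hK : Three' K) (h1 : K ≠ ⊥) {H : Subgroup G}
    (hH : H ≤ Subgroup.normalizer (K : Set G)) (hx : x ∈ H) : SC3 (⟨x, hx⟩ : H) where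
  ord := by rw [Subgroup.orderOf_mk, h.ord]
  cent y hy := by
    by_contra hne
    refine h1 (h.eq_bot_of_two hK (inv'_iff_mem_normalizer.2 (hH hx)) (inv'_iff_mem_normalizer.2 (hH y.2))
      (hy.map H.subtype) fun hz => hne ?_)
    obtain ⟨k, hk⟩ := Subgroup.mem_zpowers_iff.1 hz
    exact Subgroup.mem_zpowers_iff.2 ⟨k, Subtype.ext (by simpa using hk)⟩

theorem P3.loc' (h : P3 x) {K : Subgroup G} (hK : Three' K) (hxK : Inv' x K) (h1 : K ≠ ⊥) :
    SC3 (⟨x, inv'_iff_mem_normalizer.1 hxK⟩ : Subgroup.normalizer (K : Set G)) :=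
  h.loc hK h1 le_rfl _

/-- The normalizer has one of the three shapes. -/
theorem P3.tri (h : P3 x) {K : Subgroup G} (hK : Three' K) (hxK : Inv' x K) (h1 : K ≠ ⊥) :
    Tri (Subgroup.normalizer (K : Set G)) :=
  tri_of_sc3 _ _ _ rfl (h.loc' hK hxK h1)

theorem P3.card_mod_three (h : P3 x) {K : Subgroup G} (hK : Three' K) (hxK : Inv' x K) :
    Nat.card K % 3 = 1 := by
  by_cases h1 : K = ⊥
  · rw [h1, Subgroup.card_bot]
  · have e := Nat.card_congr (Subgroup.subgroupOfEquivOfLe (Subgroup.le_normalizer (H := K))).toEquiv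
    rw [← e]
    exact (h.loc' hK hxK h1).card_mod_three (fun d => hK (e ▸ d)) fun k => by
      simp only [Subgroup.mem_subgroupOf, Subgroup.coe_mul, Subgroup.coe_inv]; exact hxK _

theorem P3.nilpotent (h : P3 x) {K : Subgroup G} (hK : Three' K) (hxK : Inv' x K) : Group.IsNilpotent K := by
  by_cases h1 : K = ⊥
  · subst h1; infer_instance
  · set e := Subgroup.subgroupOfEquivOfLe (Subgroup.le_normalizer (H := K))
    haveI := (h.loc' hK hxK h1).nilpotent
      (fun d => hK ((Nat.card_congr e.toEquiv) ▸ d : 3 ∣ Nat.card K)) fun k => by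
        simp only [Subgroup.mem_subgroupOf, Subgroup.coe_mul, Subgroup.coe_inv]; exact hxK _
    exact Group.nilpotent_of_mulEquiv e

theorem P3.ne_top (h : P3 x) {K : Subgroup G} (hK : Three' K) (h1 : K ≠ ⊥) :
    Subgroup.normalizer (K : Set G) ≠ ⊤ := by
  intro e
  haveI := h.one.simple
  rcases (Subgroup.normalizer_eq_top_iff.1 e).eq_bot_or_eq_top with e1 | e1
  · exact h1 e1
  · exact hK (by rw [e1, Subgroup.card_top, ← h.ord]; exact orderOf_dvd_natCard x)

/-- The centralizer of an element of order three has order nine. -/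
theorem P3.card_cent (h : P3 x) : Nat.card (Subgroup.centralizer ({x} : Set G)) = 9 := by
  haveI := Fact.mk Nat.prime_three
  set C := Subgroup.centralizer ({x} : Set G)
  have hC3 : ∀ y ∈ C, y ^ 3 = 1 := fun y hy =>
    h.one.cube x y h.ord (Subgroup.mem_centralizer_singleton_iff.1 hy).symm
  have hCp : IsPGroup 3 C := fun y => ⟨1, Subtype.ext (by simpa using hC3 y.1 y.2)⟩
  obtain ⟨P, hP⟩ := (IsPGroup.of_card (p := 3) (n := 1) (G := Subgroup.zpowers x)
    (by rw [Nat.card_zpowers, h.ord, pow_one])).exists_le_sylow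
  have hP9 : Nat.card (P : Subgroup G) = 9 := by
    obtain ⟨n, hn⟩ := IsPGroup.iff_card.1 P.2
    have h1 : 9 ≤ Nat.card (P : Subgroup G) := Nat.le_of_dvd Nat.card_pos
      (P.pow_dvd_card_of_pow_dvd_card (n := 2) h.one.nine)
    have h2 : n < 3 := by
      by_contra h0
      exact h.one.not27 (((pow_dvd_pow 3 (show 3 ≤ n by omega)).trans hn.symm.dvd).trans
        (P : Subgroup G).card_subgroup_dvd_card)
    rw [hn] at h1 ⊢
    interval_cases n <;> simp_all
  haveI hPc : IsMulCommutative (P : Subgroup G) :=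
    ⟨⟨IsPGroup.commutative_of_card_eq_prime_sq (p := 3) (by rw [hP9]; norm_num)⟩⟩
  have hPC : (P : Subgroup G) ≤ C := fun y hy => Subgroup.mem_centralizer_singleton_iff.2
    (congrArg Subtype.val (hPc.is_comm.comm ⟨y, hy⟩ ⟨x, hP (Subgroup.mem_zpowers x)⟩))
  rw [← P.3 hCp hPC] at hP9
  exact hP9

/-- An involution inverting `x`. -/
theorem P3.exists_inverting (h : P3 x) : ∃ t : G, t ^ 2 = 1 ∧ t * x * t⁻¹ = x⁻¹ := by
  obtain ⟨g, hg⟩ := isConj_iff.1 (h.one.conj x x⁻¹ h.ord h.inv.ord)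
  have hg2 : Commute x (g ^ 2) := by
    have : g ^ 2 * x * (g ^ 2)⁻¹ = x := by
      rw [show g ^ 2 * x * (g ^ 2)⁻¹ = g * (g * x * g⁻¹) * g⁻¹ by rw [pow_two]; group, hg,
        show g * x⁻¹ * g⁻¹ = (g * x * g⁻¹)⁻¹ by group, hg, inv_inv]
    exact (mul_inv_eq_iff_eq_mul.1 this).symm
  refine ⟨g ^ 3, ?_, ?_⟩
  · rw [← pow_mul, show 3 * 2 = 2 * 3 from rfl, pow_mul]
    exact h.one.cube x _ h.ord hg2
  · rw [show g ^ 3 * x * (g ^ 3)⁻¹ = g * (g ^ 2 * x * (g ^ 2)⁻¹) * g⁻¹ by rw [pow_succ', mul_inv_rev]; group,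
      show g ^ 2 * x * (g ^ 2)⁻¹ = x by rw [← hg2.eq, mul_inv_cancel_right], hg]

end CfsgLib.KFactNine
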