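import Mathlib

/-!
The arithmetic of the degrees of the characters which do not vanish on the elements of order three.
-/

set_option autoImplicit false

namespace CfsgLib.KFactNine

/-- The weighted sum. -/
def T (n : ℕ) (L : List (ℕ × ℤ)) : ℤ := (L.map fun p => p.2 ^ 3 * ((n / p.1 : ℕ) : ℤ)).sum

/-- The sum of the squares of the values. -/
def Q (L : List (ℕ × ℤ)) : ℤ := (L.map fun p => p.2 * p.2).sum

/-- The signed sum of the degrees. -/
def F (L : List (ℕ × ℤ)) : ℤ := (L.map fun p => p.2 * (p.1 : ℤ)).sum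

/-- One degree with its value. -/
structure Entry (n q a b : ℕ) (p : ℕ × ℤ) : Prop where
  /-- not zero -/
  ne : p.2 ≠ 0
  /-- not linear -/
  two : 2 ≤ p.1
  /-- congruence -/
  cong : ((p.1 : ℤ) - p.2) % 9 = 0
  /-- form -/
  form : ∃ i j, i ≤ a ∧ j ≤ b ∧ p.1 = 2 ^ i * q ^ j
  /-- square bound -/
  sq : p.1 * p.1 ≤ n

/-- The data of the column. -/
structure Good (n q a b : ℕ) (L : List (ℕ × ℤ)) : Prop where
  /-- entries -/
  entry : ∀ p ∈ L, Entry n q a b p
  /-- norm -/
  norm : Q L = 8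
  /-- orthogonality -/
  orth : 1 + F L = 0

theorem T_cons (n : ℕ) (p : ℕ × ℤ) (L : List (ℕ × ℤ)) : T n (p :: L) = p.2 ^ 3 * ((n / p.1 : ℕ) : ℤ) + T n L := by
  simp [T]

theorem Q_cons (p : ℕ × ℤ) (L : List (ℕ × ℤ)) : Q (p :: L) = p.2 * p.2 + Q L := by simp [Q]

theorem F_cons (p : ℕ × ℤ) (L : List (ℕ × ℤ)) : F (p :: L) = p.2 * (p.1 : ℤ) + F L := by simp [F]

theorem Q_nonneg (L : List (ℕ × ℤ)) : 0 ≤ Q L := by
  induction L with
  | nil => simp [Q]
  | cons p L ih => rw [Q_cons]; nlinarith [mul_self_nonneg p.2]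

theorem sq_le_Q {L : List (ℕ × ℤ)} {p : ℕ × ℤ} (h : p ∈ L) : p.2 * p.2 ≤ Q L := by
  induction L with
  | nil => simp at h
  | cons r L ih =>
    rw [Q_cons]
    rcases List.mem_cons.1 h with rfl | h
    · have := Q_nonneg L; omega
    · have := ih h; nlinarith [mul_self_nonneg r.2]

theorem Good.values {n q a b : ℕ} {L : List (ℕ × ℤ)} (g : Good n q a b L) {p : ℕ × ℤ} (hp : p ∈ L) :
    p.2 = 1 ∨ p.2 = -1 ∨ p.2 = 2 ∨ p.2 = -2 := by
  have h := sq_le_Q hp
  rw [g.norm] at h
  have := (g.entry p hp).ne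
  have h1 : p.2 ≤ 2 := by nlinarith
  have h2 : -2 ≤ p.2 := by nlinarith
  omega

/-- The number of entries of absolute value two. -/
def twos (L : List (ℕ × ℤ)) : ℤ := (L.map fun p => if p.2 % 2 = 0 then 1 else 0).sum

/-- The mass of the negative entries. -/
def neg (L : List (ℕ × ℤ)) : ℤ := (L.map fun p => if p.2 < 0 then p.2 * p.2 else 0).sum

theorem twos_cons (p : ℕ × ℤ) (L : List (ℕ × ℤ)) :
    twos (p :: L) = (if p.2 % 2 = 0 then 1 else 0) + twos L := by simp [twos]

theorem neg_cons (p : ℕ × ℤ) (L : List (ℕ × ℤ)) :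
    neg (p :: L) = (if p.2 < 0 then p.2 * p.2 else 0) + neg L := by simp [neg]

theorem Good.twos_le {n q a b : ℕ} {L : List (ℕ × ℤ)} (g : Good n q a b L) : twos L ≤ 1 := by
  have key : ∀ L : List (ℕ × ℤ), (∀ p ∈ L, p.2 = 1 ∨ p.2 = -1 ∨ p.2 = 2 ∨ p.2 = -2) →
      (4 * twos L ≤ Q L) ∧ (4 * twos L = Q L → 2 ∣ F L) := by
    intro L
    induction L with
    | nil => intro _; simp [twos, Q, F]
    | cons p L ih =>
      intro h
      obtain ⟨h1, h2⟩ := ih fun r hr => h r (List.mem_cons_of_mem _ hr)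
      rw [twos_cons, Q_cons, F_cons]
      rcases h p List.mem_cons_self with e | e | e | e <;> rw [e] <;>
        simp only [show ((1 : ℤ) % 2 = 0) = False by norm_num, show ((-1 : ℤ) % 2 = 0) = False by norm_num,
          show ((2 : ℤ) % 2 = 0) = True by norm_num, show ((-2 : ℤ) % 2 = 0) = True by norm_num, if_true, if_false]
      · exact ⟨by omega, fun h3 => absurd h3 (by omega)⟩
      · exact ⟨by omega, fun h3 => absurd h3 (by omega)⟩
      · exact ⟨by omega, fun h3 => dvd_add ⟨(p.1 : ℤ), by ring⟩ (h2 (by omega))⟩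
      · exact ⟨by omega, fun h3 => dvd_add ⟨-(p.1 : ℤ), by ring⟩ (h2 (by omega))⟩
  obtain ⟨h1, h2⟩ := key L fun p hp => g.values hp
  rw [g.norm] at h1 h2
  by_contra h
  obtain ⟨k, hk⟩ := h2 (by omega)
  have := g.orth
  omega

theorem Good.neg_le {n q a b : ℕ} {L : List (ℕ × ℤ)} (g : Good n q a b L) : neg L ≤ 7 := by
  have key : ∀ L : List (ℕ × ℤ), (∀ p ∈ L, 2 ≤ p.1 ∧ p.2 ≠ 0) →
      neg L ≤ Q L ∧ (neg L = Q L → F L ≤ 0 ∧ (L ≠ [] → F L ≤ -2)) := by
    intro L
    induction L with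
    | nil => intro _; simp [neg, Q, F]
    | cons p L ih =>
      intro h
      obtain ⟨h1, h2⟩ := ih fun r hr => h r (List.mem_cons_of_mem _ hr)
      obtain ⟨hp, hp0⟩ := h p List.mem_cons_self
      rw [neg_cons, Q_cons, F_cons]
      have hp2 : (2 : ℤ) ≤ (p.1 : ℤ) := by exact_mod_cast hp
      rcases lt_or_gt_of_ne hp0 with hlt | hgt
      · rw [if_pos hlt]
        refine ⟨by omega, fun h3 => ?_⟩
        obtain ⟨h4, -⟩ := h2 (by omega)
        have h5 : p.2 * (p.1 : ℤ) ≤ -2 := by nlinarith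
        exact ⟨by omega, fun _ => by omega⟩
      · rw [if_neg (by omega)]
        refine ⟨by nlinarith, fun h3 => ?_⟩
        have : 0 < p.2 * p.2 := mul_pos hgt hgt
        omega
  obtain ⟨h1, h2⟩ := key L fun p hp => ⟨(g.entry p hp).two, (g.entry p hp).ne⟩
  rw [g.norm] at h1 h2
  by_contra h
  have hL : L ≠ [] := fun e => by have := g.norm; rw [e] at this; simp [Q] at this
  have := (h2 (by omega)).2 hL
  have := g.orth
  omega

theorem div_bound {n f k : ℕ} (h : k ≤ f) : (k : ℤ) * ((n / f : ℕ) : ℤ) ≤ (n : ℤ) := by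
  exact_mod_cast le_trans (Nat.mul_le_mul_right _ h) (Nat.mul_div_le n f)

theorem seven_smooth {n a b : ℕ} {p : ℕ × ℤ} (h : Entry n 7 a b p) : p.1 ≠ 10 ∧ p.1 ≠ 19 := by
  obtain ⟨i, j, -, -, e⟩ := h.form
  have : ∀ r : ℕ, r.Prime → r ≠ 2 → r ≠ 7 → ¬ r ∣ p.1 := fun r hr h2 h7 hd => by
    rw [e] at hd
    rcases hr.dvd_mul.1 hd with hd | hd
    · exact h2 ((Nat.prime_dvd_prime_iff_eq hr Nat.prime_two).1 (hr.dvd_of_dvd_pow hd))
    · exact h7 ((Nat.prime_dvd_prime_iff_eq hr (by norm_num)).1 (hr.dvd_of_dvd_pow hd))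
  exact ⟨fun e => this 5 (by norm_num) (by norm_num) (by norm_num) (by omega),
    fun e => this 19 (by norm_num) (by norm_num) (by norm_num) (by omega)⟩

/-- A lower bound for the weighted sum. -/
theorem Good.lower {n q a b : ℕ} {L : List (ℕ × ℤ)} (g : Good n q a b L) (hq : q.Prime) (hq2 : q ≠ 2)
    (hdvd : ∀ p ∈ L, p.1 ∣ n) {N : ℕ} (hN : 0 < N) (he : (81 * N : ℤ) = n + T n L) : n ≤ 648 * N := by
  by_cases h7 : ∃ p ∈ L, p.2 = -2 ∧ p.1 = 7
  · exfalso
    obtain ⟨p, hp, hp2, hp7⟩ := h7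
    have hq7 : q = 7 := by
      obtain ⟨i, j, -, -, e⟩ := (g.entry p hp).form
      rw [hp7] at e
      have hi : i = 0 := by
        by_contra h0
        have h2 : 2 ∣ (7 : ℕ) := e ▸ (dvd_pow_self 2 h0).mul_right _
        norm_num at h2
      rw [hi, pow_zero, one_mul] at e
      exact ((Nat.prime_dvd_prime_iff_eq (by norm_num) hq).1 ((show Nat.Prime 7 by norm_num).dvd_of_dvd_pow
        (e ▸ dvd_rfl : (7 : ℕ) ∣ q ^ j))).symm
    subst hq7
    obtain ⟨s, t, rfl⟩ := List.mem_iff_append.1 hp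
    have key : ∀ l : List (ℕ × ℤ), (∀ r ∈ l, Entry n 7 a b r ∧ (r.2 = 1 ∨ r.2 = -1 ∨ r.2 = 2 ∨ r.2 = -2)) →
        twos l = 0 → 28 * T n l ≤ n * Q l := by
      intro l
      induction l with
      | nil => intro _ _; simp [T, Q]
      | cons r l ih =>
        intro h h0
        rw [twos_cons] at h0
        have ht : 0 ≤ twos l := by
          refine List.sum_nonneg fun x hx => ?_
          obtain ⟨r', -, rfl⟩ := List.mem_map.1 hx
          split_ifs <;> norm_num
        obtain ⟨hr, hv⟩ := h r List.mem_cons_self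
        split_ifs at h0 with hev
        · omega
        have ih' := ih (fun r' h' => h r' (List.mem_cons_of_mem _ h')) (by omega)
        rw [T_cons, Q_cons]
        have hdb : ∀ k : ℕ, k ≤ r.1 → (k : ℤ) * ((n / r.1 : ℕ) : ℤ) ≤ (n : ℤ) := fun k hk => div_bound hk
        have hnn : (0 : ℤ) ≤ ((n / r.1 : ℕ) : ℤ) := by positivity
        generalize ((n / r.1 : ℕ) : ℤ) = X at hdb hnn ⊢
        have hn0 : (0 : ℤ) ≤ (n : ℤ) := by positivity
        rcases hv with e | e | e | e <;> rw [e] at hev ⊢ <;> norm_num at hev <;> norm_num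
        · have h28 : 28 ≤ r.1 := by
            have hc := hr.cong
            rw [e] at hc
            have := hr.two
            have := seven_smooth hr
            omega
          have := hdb 28 h28
          push_cast at this
          linarith
        · linarith
    have htw := g.twos_le
    have hsplit : twos (s ++ p :: t) = twos (s ++ t) + 1 := by
      simp [twos, List.sum_append, hp2]; ring
    have hQ : Q (s ++ p :: t) = Q (s ++ t) + 4 := by simp [Q, List.sum_append, hp2]; ring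
    have hT : T n (s ++ p :: t) = T n (s ++ t) + -8 * ((n / 7 : ℕ) : ℤ) := by
      simp [T, List.sum_append, hp2, hp7]; ring
    have h0 : 0 ≤ twos (s ++ t) := by
      refine List.sum_nonneg fun x hx => ?_
      obtain ⟨r', -, rfl⟩ := List.mem_map.1 hx
      split_ifs <;> norm_num
    have hmem : ∀ r ∈ s ++ t, r ∈ s ++ p :: t := fun r hr => by simp at hr ⊢; tauto
    have hk := key (s ++ t) (fun r hr => ⟨g.entry r (hmem r hr), g.values (hmem r hr)⟩) (by omega)
    have hn7 : ((n / 7 : ℕ) : ℤ) * 7 = n := by exact_mod_cast Nat.div_mul_cancel (hp7 ▸ hdvd p hp)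
    rw [g.norm] at hQ
    rw [show Q (s ++ t) = 4 by omega] at hk
    have : (0 : ℤ) < N := by exact_mod_cast hN
    linarith
  · push Not at h7
    have key : ∀ l : List (ℕ × ℤ), (∀ r ∈ l, Entry n q a b r ∧ (r.2 = 1 ∨ r.2 = -1 ∨ r.2 = 2 ∨ r.2 = -2) ∧
        (r.2 = -2 → r.1 ≠ 7)) → 0 ≤ 8 * T n l + n * neg l := by
      intro l
      induction l with
      | nil => intro _; simp [T, neg]
      | cons r l ih =>
        intro h
        have ih' := ih fun r' h' => h r' (List.mem_cons_of_mem _ h')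
        obtain ⟨hr, hv, h7⟩ := h r List.mem_cons_self
        rw [T_cons, neg_cons]
        have hdb : ∀ k : ℕ, k ≤ r.1 → (k : ℤ) * ((n / r.1 : ℕ) : ℤ) ≤ (n : ℤ) := fun k hk => div_bound hk
        have hnn : (0 : ℤ) ≤ ((n / r.1 : ℕ) : ℤ) := by positivity
        generalize ((n / r.1 : ℕ) : ℤ) = X at hdb hnn ⊢
        have h2 := hr.two
        have hc := hr.cong
        rcases hv with e | e | e | e <;> rw [e] at hc ⊢ <;> norm_num
        · linarith
        · have := hdb 8 (by omega)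
          push_cast at this
          linarith
        · linarith
        · have := h7 e
          have := hdb 16 (by omega)
          push_cast at this
          linarith
    have h1 := key L fun r hr => ⟨g.entry r hr, g.values hr, fun e => h7 r hr e⟩
    have h2 : (n : ℤ) * neg L ≤ n * 7 := mul_le_mul_of_nonneg_left g.neg_le (by positivity)
    have : (n : ℤ) ≤ 648 * N := by linarith
    exact_mod_cast this

/-- For `q = 5` a small weighted sum needs a degree at most eight. -/
theorem Good.small_degree {n a b : ℕ} {L : List (ℕ × ℤ)} (g : Good n 5 a b L) {N : ℕ}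
    (he : (81 * N : ℤ) = n + T n L) (hs : 81 * N * 1000 ≤ 450 * n) (hn : 0 < n) : ∃ p ∈ L, p.1 ≤ 8 := by
  by_contra hall
  push Not at hall
  have key : ∀ l : List (ℕ × ℤ), (∀ r ∈ l, Entry n 5 a b r ∧ (r.2 = 1 ∨ r.2 = -1 ∨ r.2 = 2 ∨ r.2 = -2) ∧ 8 < r.1) →
      0 ≤ 160 * T n l + n * (2 * neg l + 72 * twos l) := by
    intro l
    induction l with
    | nil => intro _; simp [T, neg, twos]
    | cons r l ih =>
      intro h
      have ih' := ih fun r' h' => h r' (List.mem_cons_of_mem _ h')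
      obtain ⟨hr, hv, h8⟩ := h r List.mem_cons_self
      rw [T_cons, neg_cons, twos_cons]
      have hdb : ∀ k : ℕ, k ≤ r.1 → (k : ℤ) * ((n / r.1 : ℕ) : ℤ) ≤ (n : ℤ) := fun k hk => div_bound hk
      have hnn : (0 : ℤ) ≤ ((n / r.1 : ℕ) : ℤ) := by positivity
      generalize ((n / r.1 : ℕ) : ℤ) = X at hdb hnn ⊢
      have hn0 : (0 : ℤ) ≤ (n : ℤ) := by positivity
      have hc := hr.cong
      rcases hv with e | e | e | e <;> rw [e] at hc ⊢ <;> norm_num
      · linarith
      · have hno : ∀ s : ℕ, s.Prime → s ≠ 2 → s ≠ 5 → ¬ s ∣ r.1 := fun s hs h2 h5 hd => by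
          obtain ⟨i, j, -, -, e'⟩ := hr.form
          rw [e'] at hd
          rcases hs.dvd_mul.1 hd with hd | hd
          · exact h2 ((Nat.prime_dvd_prime_iff_eq hs Nat.prime_two).1 (hs.dvd_of_dvd_pow hd))
          · exact h5 ((Nat.prime_dvd_prime_iff_eq hs (by norm_num)).1 (hs.dvd_of_dvd_pow hd))
        have h80 : 80 ≤ r.1 := by
          rcases (show r.1 = 17 ∨ r.1 = 26 ∨ r.1 = 35 ∨ r.1 = 44 ∨ r.1 = 53 ∨ r.1 = 62 ∨ r.1 = 71 ∨ 80 ≤ r.1 by omega)
            with e' | e' | e' | e' | e' | e' | e' | e'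
          · exact absurd (e' ▸ dvd_rfl) (hno 17 (by norm_num) (by norm_num) (by norm_num))
          · exact absurd (e' ▸ ⟨2, rfl⟩) (hno 13 (by norm_num) (by norm_num) (by norm_num))
          · exact absurd (e' ▸ ⟨5, rfl⟩) (hno 7 (by norm_num) (by norm_num) (by norm_num))
          · exact absurd (e' ▸ ⟨4, rfl⟩) (hno 11 (by norm_num) (by norm_num) (by norm_num))
          · exact absurd (e' ▸ dvd_rfl) (hno 53 (by norm_num) (by norm_num) (by norm_num))
          · exact absurd (e' ▸ ⟨2, rfl⟩) (hno 31 (by norm_num) (by norm_num) (by norm_num))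
          · exact absurd (e' ▸ dvd_rfl) (hno 71 (by norm_num) (by norm_num) (by norm_num))
          · exact e'
        have := hdb 80 h80
        push_cast at this
        linarith
      · linarith
      · have := hdb 16 (by omega)
        push_cast at this
        linarith
  have h1 := key L fun r hr => ⟨g.entry r hr, g.values hr, hall r hr⟩
  have h2 : (n : ℤ) * (2 * neg L + 72 * twos L) ≤ n * 86 :=
    mul_le_mul_of_nonneg_left (by have := g.neg_le; have := g.twos_le; omega) (by positivity)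
  have h3 : (81 * N * 1000 : ℤ) ≤ 450 * n := by exact_mod_cast hs
  have h4 : (0 : ℤ) < n := by exact_mod_cast hn
  linarith

end CfsgLib.KFactNine
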