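import Cfsg.Agent.Lib.KFactNine.Basic
import Cfsg.Agent.Lib.KFactNine.Numeric
import Cfsg.Agent.Lib.NineCC.Chars
import Cfsg.Agent.Lib.KFactThree.Basic

/-!
The column of an element of order three and the number of its factorisations into two conjugates.
-/

set_option autoImplicit false
set_option linter.unusedSectionVars false
set_option linter.style.haveILetI false

namespace CfsgLib.KFactNine

open Cfsg CfsgLib.CharTheory CfsgLib.SelfCentThree CfsgLib.Blocks
open scoped ComplexConjugate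

universe u

variable {G : Type u} [Group G] [Finite G] {x : G}

/-- The elements `m` for which `m x⁻¹` and its complement to `x` are both conjugate to `x`. -/
def prods (x : G) : Set G := {m | IsConj x (m * x⁻¹) ∧ IsConj x ((m * x⁻¹)⁻¹ * x)}

/-- The number of such elements. -/
noncomputable def cnt (x : G) : ℕ := (prods x).ncard

theorem card_pairs (x : G) :
    Nat.card {p : G × G // IsConj x p.1 ∧ IsConj x p.2 ∧ p.1 * p.2 = x} = cnt x := by
  rw [cnt, ← Nat.card_coe_set_eq]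
  refine Nat.card_congr
    { toFun := fun p => ⟨p.1.1 * x, by
        show IsConj x (p.1.1 * x * x⁻¹) ∧ _
        rw [mul_inv_cancel_right]
        refine ⟨p.2.1, ?_⟩
        rw [show p.1.1⁻¹ * x = p.1.2 by rw [inv_mul_eq_iff_eq_mul]; exact p.2.2.2.symm]
        exact p.2.2.1⟩
      invFun := fun m => ⟨(m.1 * x⁻¹, (m.1 * x⁻¹)⁻¹ * x), m.2.1, m.2.2, mul_inv_cancel_left _ _⟩
      left_inv := fun p => Subtype.ext (Prod.ext (mul_inv_cancel_right _ _) (by
        show (p.1.1 * x * x⁻¹)⁻¹ * x = p.1.2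
        rw [mul_inv_cancel_right, inv_mul_eq_iff_eq_mul]; exact p.2.2.2.symm))
      right_inv := fun m => Subtype.ext (inv_mul_cancel_right _ _) }

theorem P3.one_mem_prods (h : P3 x) : (1 : G) ∈ prods x :=
  ⟨by rw [one_mul]; exact h.one.conj _ _ h.ord h.inv.ord, by
    rw [one_mul, inv_inv]
    have h2 : x * x = x⁻¹ := eq_inv_of_mul_eq_one_left (by rw [← pow_three']; exact h.pow_three)
    rw [h2]
    exact h.one.conj _ _ h.ord h.inv.ord⟩

theorem P3.cnt_pos (h : P3 x) : 0 < cnt x := (Set.ncard_pos (Set.toFinite _)).2 ⟨1, h.one_mem_prods⟩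

/-- Elements of the normalized subgroups occur. -/
theorem P3.mem_prods (h : P3 x) {M : Subgroup G} (hM : Three' M) (hxM : Inv' x M) {m : G} (hm : m ∈ M) :
    m ∈ prods x := by
  obtain ⟨n, -, en⟩ := h.inv.coset_conj hM (inv'_inv hxM) hm
  obtain ⟨n', -, en'⟩ := h.inv.coset_conj hM (inv'_inv hxM) (inv_mem hm)
  have hx1 : IsConj x x⁻¹ := h.one.conj _ _ h.ord h.inv.ord
  refine ⟨hx1.trans (isConj_iff.2 ⟨n, en⟩), hx1.trans (isConj_iff.2 ⟨x * n', ?_⟩)⟩
  rw [show x * n' * x⁻¹ * (x * n')⁻¹ = x * (n' * x⁻¹ * n'⁻¹) * x⁻¹ by group, en', mul_inv_rev, inv_inv]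
  have h2 : x⁻¹ * x⁻¹ = x := eq_comm.1 (by
    rw [← mul_inv_rev, show x * x = x⁻¹ from eq_inv_of_mul_eq_one_left (by rw [← pow_three']; exact h.pow_three),
      inv_inv])
  rw [mul_assoc x, mul_assoc m⁻¹, h2, ← mul_assoc]

/-- Every such element commutes with `x` or lies in a normalized subgroup of order prime to three. -/
theorem P3.prods_cases (h : P3 x) {m : G} (hm : m ∈ prods x) :
    Commute x m ∨ ∃ K : Subgroup G, Three' K ∧ Inv' x K ∧ m ∈ K := by
  obtain ⟨hy, hy'⟩ := hm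
  have cube : ∀ w : G, IsConj x w → w * w * w = 1 := fun w hw => by
    rw [← pow_three', ← h.order_of_isConj hw, pow_orderOf_eq_one]
  set y := m * x⁻¹ with hydef
  have hmy : m = y * x := by rw [hydef, inv_mul_cancel_right]
  clear_value y
  subst hmy
  have hy3 := cube y hy
  have hw3 := cube _ hy'
  set m := y * x with hm
  set b := x * m * x⁻¹ with hb
  set c := x⁻¹ * m * x with hc
  have hx3 : x * x * x = 1 := by rw [mul_assoc, ← _root_.pow_three, h.pow_three]
  have i3 : x⁻¹ = x * x := (eq_inv_of_mul_eq_one_left hx3).symm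
  have e1 : m * c * b = 1 := by
    rw [hm, hb, hc, hm]
    calc y * x * (x⁻¹ * (y * x) * x) * (x * (y * x) * x⁻¹) = y * y * (x * x * x) * y := by group
      _ = 1 := by rw [hx3, mul_one, hy3]
  have e2 : c * b * m = 1 := by
    calc c * b * m = m⁻¹ * (m * c * b) * m := by group
      _ = 1 := by rw [e1]; group
  have e3 : b * c * m = 1 := by
    rw [hm, hb, hc, hm]
    have h1 : (y⁻¹ * x)⁻¹ * (y⁻¹ * x)⁻¹ * (y⁻¹ * x)⁻¹ = 1 := by
      rw [← mul_inv_rev, ← mul_inv_rev, ← mul_assoc, hw3, inv_one]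
    calc x * (y * x) * x⁻¹ * (x⁻¹ * (y * x) * x) * (y * x)
        = x * y * (x⁻¹ * y) * (x * x * y) * x := by group
      _ = x * (y * (x⁻¹ * y) * (x⁻¹ * y)) * x := by rw [← i3]; group
      _ = x * (x * ((y⁻¹ * x)⁻¹ * (y⁻¹ * x)⁻¹ * (y⁻¹ * x)⁻¹)) * x := by group
      _ = 1 := by rw [h1, mul_one, hx3]
  have hbc : Commute c b := by
    have := e2.trans e3.symm
    exact mul_right_cancel this
  have hconj : ∀ u v : G, Commute u v → Commute (x * u * x⁻¹) (x * v * x⁻¹) := fun u v e => by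
    have := e.map (MulAut.conj x).toMonoidHom
    simpa using this
  have hxc : x * c * x⁻¹ = m := by rw [hc]; group
  have hxb : x * b * x⁻¹ = c := by
    rw [hb, hc, show x * (x * m * x⁻¹) * x⁻¹ = x * x * m * (x * x)⁻¹ by group, ← i3, inv_inv]
  have hcm : Commute c m := by
    have := hconj b c hbc.symm
    rwa [hxb, hxc] at this
  have hmb : Commute m b := by
    have := hconj c m hcm
    rwa [hxc, ← hb] at this
  have hS : ∀ u ∈ ({m, b, c} : Set G), ∀ v ∈ ({m, b, c} : Set G), Commute u v := by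
    rintro u (rfl | rfl | rfl) v (rfl | rfl | rfl)
    exacts [Commute.refl _, hmb, hcm.symm, hmb.symm, Commute.refl _, hbc.symm, hcm, hbc, Commute.refl _]
  set K := Subgroup.closure ({m, b, c} : Set G) with hK
  haveI : IsMulCommutative K := Subgroup.isMulCommutative_closure fun u hu v hv => (hS u hu v hv).eq
  have hxK : Inv' x K := by
    refine inv'_of_le fun k hk => ?_
    induction hk using Subgroup.closure_induction with
    | mem u hu =>
      rcases hu with rfl | rfl | rfl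
      · exact Subgroup.subset_closure (by simp [hb])
      · rw [hxb]; exact Subgroup.subset_closure (by simp)
      · rw [hxc]; exact Subgroup.subset_closure (by simp)
    | one => simp
    | mul u v _ _ ihu ihv => rw [show x * (u * v) * x⁻¹ = (x * u * x⁻¹) * (x * v * x⁻¹) by group]; exact mul_mem ihu ihv
    | inv u _ ihu => rw [show x * u⁻¹ * x⁻¹ = (x * u * x⁻¹)⁻¹ by group]; exact inv_mem ihu
  have hmK : m ∈ K := Subgroup.subset_closure (by simp)
  by_cases hK3 : Three' K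
  · exact Or.inr ⟨K, hK3, hxK, hmK⟩
  left
  haveI : Fact (Nat.Prime 3) := ⟨Nat.prime_three⟩
  obtain ⟨k, hk⟩ := exists_prime_orderOf_dvd_card' (G := K) 3 (not_not.1 hK3)
  have hcube : ∀ u : K, (u : G) ^ 3 = 1 := fun u => h.one.cube k u (by rw [Subgroup.orderOf_coe, hk])
    (congrArg Subtype.val (mul_comm' k u))
  have hKp : IsPGroup 3 K := fun u => ⟨1, Subtype.ext (by simpa using hcube u)⟩
  have hZp : IsPGroup 3 (Subgroup.zpowers x) := IsPGroup.of_card (n := 1) (by rw [Nat.card_zpowers, h.ord, pow_one])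
  have hP := hKp.to_sup_of_normal_left' hZp (Subgroup.zpowers_le.2 (inv'_iff_mem_normalizer.1 hxK))
  obtain ⟨n, hn⟩ := IsPGroup.iff_card.1 hP
  have hn2 : n ≤ 2 := by
    by_contra h0
    exact h.one.not27 (((pow_dvd_pow 3 (show 3 ≤ n by omega)).trans hn.symm.dvd).trans
      (K ⊔ Subgroup.zpowers x).card_subgroup_dvd_card)
  have hab : ∀ u ∈ K ⊔ Subgroup.zpowers x, ∀ v ∈ K ⊔ Subgroup.zpowers x, Commute u v := by
    intro u hu v hv
    rcases (show n = 0 ∨ n = 1 ∨ n = 2 by omega) with rfl | rfl | rfl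
    · rw [pow_zero, Subgroup.card_eq_one] at hn
      rw [hn, Subgroup.mem_bot] at hu
      rw [hu]; exact Commute.one_left v
    · rw [pow_one] at hn
      haveI := isCyclic_of_prime_card hn
      exact congrArg Subtype.val (IsCyclic.commGroup.mul_comm
        (⟨u, hu⟩ : (K ⊔ Subgroup.zpowers x : Subgroup G)) ⟨v, hv⟩)
    · exact congrArg Subtype.val (IsPGroup.commutative_of_card_eq_prime_sq hn
        (⟨u, hu⟩ : (K ⊔ Subgroup.zpowers x : Subgroup G)) ⟨v, hv⟩)
  exact hab x (le_sup_right (a := K) (Subgroup.mem_zpowers x)) m (le_sup_left (b := Subgroup.zpowers x) hmK)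

/-- The column of `x`. -/
theorem P3.column (h : P3 x) {q a b : ℕ} (hq : q.Prime) (hq3 : q ≠ 3)
    (hcard : Nat.card G = 9 * 2 ^ a * q ^ b) :
    ∃ L : List (ℕ × ℤ), Good (Nat.card G) q a b L ∧ (∀ p ∈ L, p.1 ∣ Nat.card G) ∧
      (81 * cnt x : ℤ) = (Nat.card G : ℤ) + T (Nat.card G) L ∧
      ∀ p ∈ L, ∃ ρ : Representation ℂ G (Fin p.1 → ℂ), ∀ g, ρ g = 1 → g = 1 := by
  classical
  haveI := Fintype.ofFinite G
  haveI := h.one.simple
  have hx3 := h.pow_three
  have hr : IsConj x x⁻¹ := h.one.conj _ _ h.ord h.inv.ord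
  set v : IrrCharacter G → ℤ := NineCC.val hx3 hr with hv
  set d : IrrCharacter G → ℕ := fun χ => charDegree (χ : G → ℂ) with hd
  have hval : ∀ χ : IrrCharacter G, (χ : G → ℂ) x = (v χ : ℂ) := NineCC.val_spec hx3 hr
  have hdeg : ∀ χ : IrrCharacter G, (χ : G → ℂ) 1 = (d χ : ℂ) := fun χ => (irr_charDegree_cast χ).symm
  set o := oneIrr G with ho
  have ho1 : v o = 1 ∧ d o = 1 := by
    have e1 : ((v o : ℤ) : ℂ) = 1 := by rw [← hval]; rfl
    have e2 : ((d o : ℕ) : ℂ) = 1 := by rw [← hdeg]; rfl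
    exact ⟨by exact_mod_cast e1, by exact_mod_cast e2⟩
  have hnorm : ∑ χ, v χ * v χ = 9 := by
    have e := sum_irr_mul_conj x x
    rw [if_pos (IsConj.refl x), h.card_cent] at e
    simp only [hval, map_intCast] at e
    exact_mod_cast e
  have horth : ∑ χ, v χ * (d χ : ℤ) = 0 := by
    have e := sum_irr_apply_mul_degree x
    rw [if_neg h.ne_one] at e
    simp only [hval, hdeg] at e
    exact_mod_cast e
  have hsq : ∀ χ : IrrCharacter G, d χ * d χ ≤ Nat.card G := by
    intro χ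
    have e := sum_irr_degree_sq (G := G)
    simp only [hdeg] at e
    have e' : ∑ χ, d χ ^ 2 = Nat.card G := by exact_mod_cast e
    rw [← sq, ← e']
    exact Finset.single_le_sum (f := fun χ => d χ ^ 2) (fun i _ => Nat.zero_le _) (Finset.mem_univ χ)
  have hdvd : ∀ χ : IrrCharacter G, d χ ∣ Nat.card G := charDegree_dvd_card
  have hcong : ∀ χ : IrrCharacter G, (9 : ℤ) ∣ (d χ : ℤ) + 8 * v χ := by
    intro χ
    set C := Subgroup.centralizer ({x} : Set G)
    haveI := Fintype.ofFinite C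
    obtain ⟨z, hz⟩ := NineCC.sum_subgroup_dvd χ C
    have hC : ∀ s : C, s ≠ 1 → (χ : G → ℂ) s = (v χ : ℂ) := fun s hs => by
      rw [← hval]
      have h3 := h.one.cube x s h.ord (Subgroup.mem_centralizer_singleton_iff.1 s.2).symm
      exact (isClassFunction_iff_isConj.mp (isClassFunction_irr χ.2) x s (h.one.conj x s h.ord
        (h.of_three h3 fun e => hs (Subtype.ext e)).ord)).symm
    have hc9 : Fintype.card C = 9 := by rw [← Nat.card_eq_fintype_card]; exact h.card_cent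
    have hsum : ∑ s : C, (χ : G → ℂ) s = (d χ : ℂ) + 8 * (v χ : ℂ) := by
      rw [← Finset.add_sum_erase _ _ (Finset.mem_univ (1 : C)), Subgroup.coe_one, hdeg,
        Finset.sum_congr rfl fun s hs => hC s (Finset.mem_erase.1 hs).1, Finset.sum_const,
        Finset.card_erase_of_mem (Finset.mem_univ _), Finset.card_univ, hc9]
      simp
    rw [hsum, h.card_cent] at hz
    exact ⟨z, by exact_mod_cast hz⟩
  set S := (Finset.univ.erase o).filter fun χ => v χ ≠ 0 with hS
  have hred : ∀ g : IrrCharacter G → ℤ, (∀ χ, v χ = 0 → g χ = 0) →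
      ∑ χ, g χ = g o + ∑ χ ∈ S, g χ := fun g hg => by
    rw [← Finset.add_sum_erase _ _ (Finset.mem_univ o), hS,
      Finset.sum_filter_of_ne (p := fun χ => v χ ≠ 0) fun χ _ hne hv0 => hne (hg χ hv0)]
  have hlist : ∀ g : ℕ × ℤ → ℤ, ((S.toList.map fun χ => (d χ, v χ)).map g).sum = ∑ χ ∈ S, g (d χ, v χ) := by
    intro g
    rw [List.map_map, Finset.sum_map_toList]
    rfl
  refine ⟨S.toList.map fun χ => (d χ, v χ), ⟨?_, ?_, ?_⟩, ?_, ?_, ?_⟩
  · intro p hp
    obtain ⟨χ, hχ, rfl⟩ := List.mem_map.1 hp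
    rw [Finset.mem_toList, hS, Finset.mem_filter, Finset.mem_erase] at hχ
    have hle : v χ * v χ ≤ 8 := by
      have e := hred (fun χ => v χ * v χ) fun χ h0 => by simp [h0]
      rw [hnorm, ho1.1] at e
      have := Finset.single_le_sum (f := fun χ => v χ * v χ) (s := S) (fun i _ => mul_self_nonneg _)
        (by rw [hS, Finset.mem_filter, Finset.mem_erase]; exact hχ)
      omega
    have hv2 : v χ ≤ 2 := by nlinarith
    have hv2' : -2 ≤ v χ := by nlinarith
    have h9 := hcong χ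
    refine ⟨hχ.2, KFactThree.two_le_degree h.one.nc hχ.1.1, ?_, ?_, hsq χ⟩
    · show ((d χ : ℤ) - v χ) % 9 = 0
      omega
    · have h3 : ¬ 3 ∣ d χ := fun h3 => by
        have : (3 : ℤ) ∣ (d χ : ℤ) := by exact_mod_cast h3
        have := hχ.2
        omega
      have hd' : d χ ∣ 9 * (2 ^ a * q ^ b) := by rw [← mul_assoc, ← hcard]; exact hdvd χ
      have hco : Nat.Coprime (d χ) 9 := by
        rw [show (9 : ℕ) = 3 ^ 2 by norm_num]
        exact (((Nat.prime_three.coprime_iff_not_dvd).2 h3).symm).pow_right 2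
      obtain ⟨f₁, f₂, h1, h2, e⟩ := (Nat.dvd_mul).1 (hco.dvd_of_dvd_mul_left hd')
      obtain ⟨i, hi, rfl⟩ := (Nat.dvd_prime_pow Nat.prime_two).1 h1
      obtain ⟨j, hj, rfl⟩ := (Nat.dvd_prime_pow hq).1 h2
      exact ⟨i, j, hi, hj, e.symm⟩
  · rw [Q, hlist]
    have e := hred (fun χ => v χ * v χ) fun χ h0 => by simp [h0]
    rw [hnorm, ho1.1] at e
    simp only at e ⊢
    omega
  · rw [F, hlist]
    have e := hred (fun χ => v χ * (d χ : ℤ)) fun χ h0 => by simp [h0]
    rw [horth, ho1.1, ho1.2] at e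
    push_cast at e ⊢
    omega
  · intro p hp
    obtain ⟨χ, -, rfl⟩ := List.mem_map.1 hp
    exact hdvd χ
  · rw [T, hlist]
    have e := NineCC.count_eq x x
    rw [card_pairs] at e
    have hk : 9 * Nat.card {y : G // IsConj x y} = Nat.card G := by
      rw [← card_isConj_mul_card_centralizer x, h.card_cent, mul_comm]
    set k := Nat.card {y : G // IsConj x y}
    have hterm : ∀ χ : IrrCharacter G, (χ : G → ℂ) x * (χ : G → ℂ) x * (χ : G → ℂ) x⁻¹ / (χ : G → ℂ) 1 *
        (Nat.card G : ℂ) = ((v χ ^ 3 * ((Nat.card G / d χ : ℕ) : ℤ) : ℤ) : ℂ) := by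
      intro χ
      rw [← (isClassFunction_iff_isConj.mp (isClassFunction_irr χ.2) x x⁻¹ hr), hval, hdeg]
      have h0 : (d χ : ℂ) ≠ 0 := Nat.cast_ne_zero.2 (irr_charDegree_pos χ).ne'
      have hm : ((Nat.card G / d χ : ℕ) : ℂ) * (d χ : ℂ) = (Nat.card G : ℂ) := by
        exact_mod_cast Nat.div_mul_cancel (hdvd χ)
      rw [Int.cast_mul, Int.cast_pow, Int.cast_natCast, ← hm]
      field_simp
    have hG : (Nat.card G : ℂ) ≠ 0 := Nat.cast_ne_zero.2 Nat.card_pos.ne'
    have hk' : (9 : ℂ) * k = Nat.card G := by exact_mod_cast hk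
    have e2 : (81 * cnt x : ℂ) = ((∑ χ, v χ ^ 3 * ((Nat.card G / d χ : ℕ) : ℤ) : ℤ) : ℂ) := by
      rw [Int.cast_sum, ← Finset.sum_congr rfl fun χ _ => hterm χ, ← Finset.sum_mul]
      apply mul_left_cancel₀ hG
      calc (Nat.card G : ℂ) * (81 * cnt x) = 81 * ((Nat.card G : ℂ) * cnt x) := by ring
        _ = (9 * (k : ℂ)) * (9 * (k : ℂ)) *
            ∑ χ : IrrCharacter G, (χ : G → ℂ) x * (χ : G → ℂ) x * (χ : G → ℂ) x⁻¹ / (χ : G → ℂ) 1 := by
          rw [e]; ring
        _ = _ := by rw [hk']; ring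
    have e3 : (81 * cnt x : ℤ) = ∑ χ, v χ ^ 3 * ((Nat.card G / d χ : ℕ) : ℤ) := by exact_mod_cast e2
    rw [e3, hred _ fun χ h0 => by simp [h0], ho1.1, ho1.2]
    simp
  · intro p hp
    obtain ⟨χ, hχ, rfl⟩ := List.mem_map.1 hp
    rw [Finset.mem_toList, hS, Finset.mem_filter, Finset.mem_erase] at hχ
    obtain ⟨m, ρ, -, hρ⟩ := χ.2
    have hm : d χ = m := by
      have e : ((d χ : ℕ) : ℂ) = (m : ℂ) := by
        rw [← hdeg, ← hρ, Representation.char_one, Module.finrank_fin_fun]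
      exact_mod_cast e
    show ∃ ρ' : Representation ℂ G (Fin (d χ) → ℂ), ∀ g, ρ' g = 1 → g = 1
    rw [hm]
    refine ⟨ρ, fun g hg => KFactThree.faithful hχ.1.1 ?_⟩
    rw [← hρ]
    show LinearMap.trace ℂ _ (ρ g) = LinearMap.trace ℂ _ (ρ 1)
    rw [hg]; simp

end CfsgLib.KFactNine
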