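import Cfsg.Agent.Lib.KFactNine.TI
import Cfsg.Agent.Lib.KFactNine.Count

/-!
Classes of maximal subgroups under the normalizer of the axis, and the count they bound.
-/

set_option autoImplicit false
set_option linter.unusedSectionVars false
set_option linter.style.haveILetI false

namespace CfsgLib.KFactNine

open CfsgLib.SelfCentThree

universe u

variable {G : Type u} [Group G] [Finite G] {x : G}

theorem Rel.trans {M L K : Subgroup G} (h : Rel x M L) (h' : Rel x L K) : Rel x M K := by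
  obtain ⟨g, hg, rfl⟩ := h
  obtain ⟨g', hg', rfl⟩ := h'
  exact ⟨g' * g, mul_mem hg' hg, map_conj_mul g' g M⟩

theorem Rel.card {M L : Subgroup G} (h : Rel x M L) : Nat.card L = Nat.card M := by
  obtain ⟨g, -, rfl⟩ := h
  exact map_conj_card g M

/-- The centralizer and the axis. -/
theorem P3.cent_le_axis (h : P3 x) : Subgroup.centralizer ({x} : Set G) ≤ axis x := fun c hc =>
  axis_of_conj (Or.inl (mul_inv_eq_iff_eq_mul.2 (Subgroup.mem_centralizer_singleton_iff.1 hc)))

theorem P3.eighteen_le_axis (h : P3 x) : 18 ≤ Nat.card (axis x) := by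
  obtain ⟨t, -, ht⟩ := h.exists_inverting
  obtain ⟨k, hk⟩ := Subgroup.card_dvd_of_le h.cent_le_axis
  rw [h.card_cent] at hk
  have hlt : 9 < Nat.card (axis x) := lt_of_not_ge fun hle => by
    have e := Subgroup.eq_of_le_of_card_ge h.cent_le_axis (by rw [h.card_cent]; exact hle)
    have htc : t ∈ Subgroup.centralizer ({x} : Set G) := by rw [e]; exact axis_of_conj (Or.inr ht)
    have e1 : t * x * t⁻¹ = x := mul_inv_eq_iff_eq_mul.2 (Subgroup.mem_centralizer_singleton_iff.1 htc)
    rw [ht] at e1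
    have h2 : x ^ 2 = 1 := by rw [pow_two]; exact mul_eq_one_iff_inv_eq.2 e1
    have := orderOf_dvd_of_pow_eq_one h2
    rw [h.ord] at this
    norm_num at this
  omega

/-- A maximal subgroup has a conjugate other than itself under the centralizer of `x`. -/
theorem P3.exists_other (h : P3 x) {M P : Subgroup G} {q : ℕ} (hM : Max x M) (hP : Part x M P q) :
    ∃ L, Max x L ∧ Rel x M L ∧ L ≠ M := by
  by_contra hcon
  push Not at hcon
  have hle : Subgroup.centralizer ({x} : Set G) ≤ Subgroup.normalizer (M : Set G) := fun c hc => by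
    have hr : Rel x M (M.map (MulAut.conj c).toMonoidHom) := ⟨c, h.cent_le_axis hc, rfl⟩
    exact inv'_iff_mem_normalizer.1 (inv'_iff_map.2 (hcon _ (hr.max h hM) hr))
  have hd := h.card_cent ▸ Subgroup.card_dvd_of_le hle
  have hd2 : 9 ∣ 6 * Nat.card M := hd.trans hP.card_dvd_six
  exact hM.three' (by omega)

/-- The elements of the conjugates of a maximal subgroup. -/
def block (x : G) (M : Subgroup G) : Set G := {m | m ≠ 1 ∧ ∃ L, Rel x M L ∧ m ∈ L}

theorem block_card_le (M : Subgroup G) :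
    (block x M).ncard ≤ Set.ncard {L | Rel x M L} * (Nat.card M - 1) := by
  classical
  haveI := Fintype.ofFinite G
  let f : (Σ L : {L : Subgroup G // Rel x M L}, {m : (L.1 : Subgroup G) // m ≠ 1}) → block x M := fun p =>
    ⟨(p.2.1 : G), fun e => p.2.2 (Subtype.ext e), p.1.1, p.1.2, p.2.1.2⟩
  have hf : Function.Surjective f := by
    rintro ⟨m, hm, L, hL, hmL⟩
    exact ⟨⟨⟨L, hL⟩, ⟨⟨m, hmL⟩, fun e => hm (congrArg Subtype.val e)⟩⟩, rfl⟩
  haveI := Fintype.ofFinite {L : Subgroup G // Rel x M L}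
  refine (Nat.card_coe_set_eq _).symm.trans_le ((Nat.card_le_card_of_surjective f hf).trans_eq ?_)
  rw [Nat.card_sigma, Finset.sum_congr rfl (g := fun _ => Nat.card M - 1), Finset.sum_const, smul_eq_mul,
    Finset.card_univ, ← Nat.card_eq_fintype_card, ← Nat.card_coe_set_eq]
  · rfl
  · intro L _
    rw [Nat.card_eq_fintype_card, Fintype.card_subtype_compl, Fintype.card_subtype_eq, ← Nat.card_eq_fintype_card,
      L.2.card]

theorem block_card_le_six (h : P3 x) {M : Subgroup G} (hM : Inv' x M) :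
    (block x M).ncard ≤ 6 * (Nat.card M - 1) :=
  (block_card_le M).trans (Nat.mul_le_mul_right _ (orbit_le_six h hM))

/-- The count is bounded by the blocks of representatives. -/
theorem P3.cnt_le (h : P3 x) (Rs : List (Subgroup G)) (hc : ∀ M, Max x M → ∃ L ∈ Rs, Rel x L M) :
    cnt x ≤ 9 + (Rs.map fun M => (block x M).ncard).sum := by
  classical
  have hsub : prods x ⊆ (Subgroup.centralizer ({x} : Set G) : Set G) ∪ {m | ∃ M ∈ Rs, m ∈ block x M} := by
    intro m hm
    by_cases hm1 : m = 1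
    · exact Or.inl (hm1 ▸ one_mem _)
    rcases h.prods_cases hm with hmc | ⟨K, hK, hxK, hmK⟩
    · exact Or.inl (Subgroup.mem_centralizer_singleton_iff.2 hmc.eq.symm)
    · obtain ⟨M, hM, hKM⟩ := exists_max hK hxK fun e => hm1 (Subgroup.mem_bot.1 (e ▸ hmK))
      obtain ⟨L, hL, hr⟩ := hc M hM
      exact Or.inr ⟨L, hL, hm1, M, hr, hKM hmK⟩
  have hlist : ∀ Ls : List (Subgroup G),
      {m | ∃ M ∈ Ls, m ∈ block x M}.ncard ≤ (Ls.map fun M => (block x M).ncard).sum := by
    intro Ls
    induction Ls with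
    | nil => simp
    | cons a t ih =>
      rw [List.map_cons, List.sum_cons, show {m | ∃ M ∈ a :: t, m ∈ block x M} =
        block x a ∪ {m | ∃ M ∈ t, m ∈ block x M} by ext m; simp]
      exact (Set.ncard_union_le _ _).trans (Nat.add_le_add_left ih _)
  refine (Set.ncard_le_ncard hsub (Set.toFinite _)).trans ((Set.ncard_union_le _ _).trans ?_)
  rw [← Nat.card_coe_set_eq]
  exact Nat.add_le_add (le_of_eq h.card_cent) (hlist Rs)

theorem P3.block_sub_prods (h : P3 x) {M : Subgroup G} (hM : Max x M) : block x M ⊆ prods x := by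
  rintro m ⟨-, L, hr, hmL⟩
  exact h.mem_prods (hr.max h hM).three' (hr.max h hM).inv hmL

/-- A set of at most two representatives. -/
theorem exists_two_reps (p : Subgroup G → Prop)
    (h3 : ∀ M : Fin 3 → Subgroup G, (∀ i, p (M i)) → ∃ i j, i ≠ j ∧ Rel x (M i) (M j)) :
    ∃ Rs : List (Subgroup G), Rs.length ≤ 2 ∧ (∀ M ∈ Rs, p M) ∧ ∀ M, p M → ∃ L ∈ Rs, Rel x L M := by
  by_cases h1 : ∃ A, p A
  swap
  · exact ⟨[], by simp, by simp, fun M hM => absurd ⟨M, hM⟩ h1⟩
  obtain ⟨A, hA⟩ := h1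
  by_cases h2 : ∀ M, p M → Rel x A M
  · exact ⟨[A], by simp, by simpa using hA, fun M hM => ⟨A, by simp, h2 M hM⟩⟩
  push Not at h2
  obtain ⟨B, hB, hAB⟩ := h2
  refine ⟨[A, B], by simp, by simp [hA, hB], fun M hM => ?_⟩
  obtain ⟨i, j, hij, hr⟩ := h3 ![A, B, M] (by intro i; fin_cases i <;> assumption)
  fin_cases i <;> fin_cases j <;> simp at hij hr
  · exact absurd hr hAB
  · exact ⟨A, by simp, hr⟩
  · exact absurd hr.symm hAB
  · exact ⟨B, by simp, hr⟩
  · exact ⟨A, by simp, hr.symm⟩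
  · exact ⟨B, by simp, hr.symm⟩

/-- The orbit of a maximal two-subgroup of full Sylow order with normalizer three times as large. -/
theorem P3.six_le_orbit (h : P3 x) {M : Subgroup G} (hM : Max x M)
    (hN : Nat.card (Subgroup.normalizer (M : Set G)) = 3 * Nat.card M) :
    6 ≤ Set.ncard {L | Rel x M L} := by
  classical
  set N := Subgroup.normalizer (M : Set G)
  have hxN : x ∈ N := inv'_iff_mem_normalizer.1 hM.inv
  set S := axis x ⊓ N with hS
  -- the stabilizer does not invert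
  have hnoinv : ∀ g ∈ S, g * x * g⁻¹ = x := by
    intro g hg
    rcases h.axis_cases (Subgroup.mem_inf.1 hg).1 with e | e
    · exact e
    exfalso
    haveI : (M.subgroupOf N).Normal := Subgroup.normal_in_normalizer
    have hq3 : Nat.card (N ⧸ M.subgroupOf N) = 3 := by
      have h1 := Subgroup.card_eq_card_quotient_mul_card_subgroup (M.subgroupOf N)
      rw [Nat.card_congr (Subgroup.subgroupOfEquivOfLe (Subgroup.le_normalizer (H := M))).toEquiv, hN] at h1
      exact (Nat.eq_of_mul_eq_mul_right Nat.card_pos h1).symm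
    haveI := Fact.mk Nat.prime_three
    haveI := isCyclic_of_prime_card hq3
    have hq : QuotientGroup.mk' (M.subgroupOf N) ((⟨g, (Subgroup.mem_inf.1 hg).2⟩ : N) * ⟨x, hxN⟩ *
        (⟨g, (Subgroup.mem_inf.1 hg).2⟩ : N)⁻¹ * (⟨x, hxN⟩ : N)⁻¹) = 1 := by
      rw [map_mul, map_mul, map_mul, map_inv, map_inv, IsCyclic.commGroup.mul_comm
        (QuotientGroup.mk' (M.subgroupOf N) ⟨g, (Subgroup.mem_inf.1 hg).2⟩)]
      group
    have hm := (QuotientGroup.eq_one_iff _).1 hq
    rw [Subgroup.mem_subgroupOf] at hm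
    have hm' : g * x * g⁻¹ * x⁻¹ ∈ M := hm
    rw [e] at hm'
    have hx2 : x⁻¹ * x⁻¹ = x := by
      rw [← mul_inv_rev, show x * x = x⁻¹ from eq_inv_of_mul_eq_one_left (by rw [← pow_three']; exact h.pow_three),
        inv_inv]
    rw [hx2] at hm'
    exact h.ne_one (h.fpf hM.three' x hm' (Commute.refl x))
  have hS3 : Nat.card S ≤ 3 := by
    have hle : S ≤ Subgroup.centralizer ({x} : Set G) := fun g hg =>
      Subgroup.mem_centralizer_singleton_iff.2 (mul_inv_eq_iff_eq_mul.1 (hnoinv g hg))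
    have h1 : Nat.card S ∣ 9 := h.card_cent ▸ Subgroup.card_dvd_of_le hle
    have h2 : Nat.card S ∣ 3 * Nat.card M := hN ▸ Subgroup.card_dvd_of_le inf_le_right
    by_contra hgt
    have h9 : Nat.card S = 9 := by
      obtain ⟨i, hi, e⟩ := (Nat.dvd_prime_pow Nat.prime_three).1 (show Nat.card S ∣ 3 ^ 2 by simpa using h1)
      interval_cases i <;> simp_all
    rw [h9] at h2
    exact hM.three' (by omega)
  choose r hr hrL using fun L : {L : Subgroup G // Rel x M L} => L.2
  have key : ∀ (g : G) (L : {L : Subgroup G // Rel x M L}), L.1 = M.map (MulAut.conj g).toMonoidHom →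
      M.map (MulAut.conj ((r L)⁻¹ * g)).toMonoidHom = M := fun g L e => by
    rw [← map_conj_mul, ← e, hrL L, map_conj_mul, inv_mul_cancel]
    ext k; simp [mem_map_conj]
  have hle : Nat.card (axis x) ≤ Nat.card {L : Subgroup G // Rel x M L} * Nat.card S := by
    rw [← Nat.card_prod]
    refine Nat.card_le_card_of_injective (fun g : axis x =>
      ((⟨M.map (MulAut.conj g.1).toMonoidHom, g.1, g.2, rfl⟩ : {L : Subgroup G // Rel x M L}),
        (⟨(r ⟨_, g.1, g.2, rfl⟩)⁻¹ * g.1, Subgroup.mem_inf.2 ⟨mul_mem (inv_mem (hr _)) g.2,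
          inv'_iff_mem_normalizer.1 (inv'_iff_map.2 (key g.1 _ rfl))⟩⟩ : S))) ?_
    intro g g' e
    simp only [Prod.mk.injEq] at e
    obtain ⟨e1, e2⟩ := e
    have e3 := congrArg Subtype.val e2
    simp only at e3
    rw [show r ⟨M.map (MulAut.conj g.1).toMonoidHom, g.1, g.2, rfl⟩ = r ⟨M.map (MulAut.conj g'.1).toMonoidHom, g'.1, g'.2, rfl⟩
      from congrArg r e1] at e3
    exact Subtype.ext (mul_left_cancel e3)
  have := h.eighteen_le_axis
  rw [← Nat.card_coe_set_eq]
  show 6 ≤ Nat.card {L : Subgroup G // Rel x M L}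
  nlinarith

/-- Conjugates meeting trivially fill their block. -/
theorem block_card_ge {M : Subgroup G}
    (hti : ∀ L L', Rel x M L → Rel x M L' → L ⊓ L' ≠ ⊥ → L = L') :
    Set.ncard {L | Rel x M L} * (Nat.card M - 1) ≤ (block x M).ncard := by
  classical
  haveI := Fintype.ofFinite G
  haveI := Fintype.ofFinite {L : Subgroup G // Rel x M L}
  let f : (Σ L : {L : Subgroup G // Rel x M L}, {m : (L.1 : Subgroup G) // m ≠ 1}) → block x M := fun p =>
    ⟨(p.2.1 : G), fun e => p.2.2 (Subtype.ext e), p.1.1, p.1.2, p.2.1.2⟩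
  have hf : Function.Injective f := by
    rintro ⟨⟨L, hL⟩, ⟨m, hm⟩⟩ ⟨⟨L', hL'⟩, ⟨m', hm'⟩⟩ e
    have e' : (m : G) = m' := congrArg Subtype.val e
    obtain rfl : L = L' := hti L L' hL hL' fun hb => hm (Subtype.ext ((Subgroup.eq_bot_iff_forall _).1 hb _
      (Subgroup.mem_inf.2 ⟨m.2, e' ▸ m'.2⟩)))
    obtain rfl : m = m' := Subtype.ext e'
    rfl
  refine le_of_eq_of_le ?_ ((Nat.card_le_card_of_injective f hf).trans_eq (Nat.card_coe_set_eq _))
  rw [Nat.card_sigma, Finset.sum_congr rfl (g := fun _ => Nat.card M - 1), Finset.sum_const, smul_eq_mul,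
    Finset.card_univ, ← Nat.card_eq_fintype_card, ← Nat.card_coe_set_eq]
  · rfl
  · intro L _
    rw [Nat.card_eq_fintype_card, Fintype.card_subtype_compl, Fintype.card_subtype_eq, ← Nat.card_eq_fintype_card,
      L.2.card]

/-- Two maximal subgroups meeting trivially bound the order. -/
theorem sq_le_of_trivial {M L : Subgroup G} (hcard : Nat.card L = Nat.card M) (hb : M ⊓ L = ⊥) :
    Nat.card M ^ 2 ≤ Nat.card G := by
  rw [sq]
  nth_rewrite 2 [← hcard]
  rw [← Nat.card_prod]
  refine Nat.card_le_card_of_injective (fun p : M × L => (p.1 : G) * p.2) ?_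
  rintro ⟨a, b⟩ ⟨a', b'⟩ e
  have e' : (a : G) * b = a' * b' := e
  have e1 : (a' : G)⁻¹ * a = b' * (b : G)⁻¹ := by
    rw [inv_mul_eq_iff_eq_mul, ← mul_assoc, ← e', mul_inv_cancel_right]
  have h1 := (Subgroup.eq_bot_iff_forall _).1 hb _
    (Subgroup.mem_inf.2 ⟨mul_mem (inv_mem a'.2) a.2, e1 ▸ mul_mem b'.2 (inv_mem b.2)⟩)
  rw [Prod.mk.injEq]
  refine ⟨Subtype.ext (inv_mul_eq_one.1 h1).symm, Subtype.ext ?_⟩
  rw [e1, mul_inv_eq_one] at h1
  exact h1.symm

end CfsgLib.KFactNine
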