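import Cfsg.Agent.Lib.KFactNine.Basic

/-!
The Sylow three-data, and the exclusion of the order 9792.
-/

set_option autoImplicit false
set_option linter.unusedSectionVars false
set_option linter.style.haveILetI false

namespace CfsgLib.KFactNine

open scoped Pointwise

universe u

variable {G : Type u} [Group G] [Finite G] {x : G}

theorem P3.sylow_data (h : P3 x) {q a b : ℕ} (hq : q.Prime) (hq2 : q ≠ 2) (hcard : Nat.card G = 9 * 2 ^ a * q ^ b) :
    3 ≤ a ∧ 2 ^ (a - 3) * q ^ b % 9 = 1 := by
  classical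
  haveI := Fact.mk Nat.prime_three
  set C := Subgroup.centralizer ({x} : Set G) with hC
  have hC3 : ∀ y ∈ C, y ^ 3 = 1 := fun y hy =>
    h.one.cube x y h.ord (Subgroup.mem_centralizer_singleton_iff.1 hy).symm
  obtain ⟨R, hR⟩ := (show IsPGroup 3 C from fun y => ⟨1, Subtype.ext (by simpa using hC3 y.1 y.2)⟩).exists_le_sylow
  have hR9 : Nat.card (R : Subgroup G) = 9 := by
    obtain ⟨n, hn⟩ := IsPGroup.iff_card.1 R.2
    have h1 : 9 ≤ Nat.card (R : Subgroup G) := h.card_cent ▸ Nat.le_of_dvd Nat.card_pos (Subgroup.card_dvd_of_le hR)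
    have h2 : n < 3 := by
      by_contra h0
      exact h.one.not27 (((pow_dvd_pow 3 (show 3 ≤ n by omega)).trans hn.symm.dvd).trans
        (R : Subgroup G).card_subgroup_dvd_card)
    rw [hn] at h1 ⊢
    interval_cases n <;> simp_all
  have hab : ∀ Q : Sylow 3 G, IsMulCommutative (Q : Subgroup G) := fun Q =>
    ⟨⟨IsPGroup.commutative_of_card_eq_prime_sq (p := 3) (by
      rw [Nat.card_congr (R.equiv Q).toEquiv.symm, hR9]; norm_num)⟩⟩
  haveI := hab R
  -- the centralizer of a nontrivial element of a Sylow subgroup is that subgroup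
  have hcube : ∀ k ∈ (R : Subgroup G), k ^ 3 = 1 := fun k hk => hC3 k (by
    have := Subgroup.eq_of_le_of_card_ge hR (by rw [h.card_cent, hR9])
    rw [this]; exact hk)
  have hcent : ∀ (Q : Sylow 3 G) (k : G), k ∈ (Q : Subgroup G) → P3 k →
      (Q : Subgroup G) = Subgroup.centralizer ({k} : Set G) := fun Q k hk hp => by
    haveI := hab Q
    exact Subgroup.eq_of_le_of_card_ge (fun y hy => Subgroup.mem_centralizer_singleton_iff.2
      (congrArg Subtype.val (mul_comm' (⟨y, hy⟩ : (Q : Subgroup G)) ⟨k, hk⟩)))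
      (by rw [hp.card_cent, Nat.card_congr (R.equiv Q).toEquiv.symm, hR9])
  set N := Subgroup.normalizer ((R : Subgroup G) : Set G) with hN
  have hxR : x ∈ (R : Subgroup G) := hR (Subgroup.mem_centralizer_singleton_iff.2 rfl)
  have hnconj : ∀ n ∈ N, n * x * n⁻¹ ∈ (R : Subgroup G) := fun n hn => (Subgroup.mem_normalizer_iff.1 hn x).1 hxR
  -- the normalizer permutes the eight elements transitively
  have hN72 : Nat.card N = 72 := by
    let T := {y : (R : Subgroup G) // y ≠ 1}
    let f : N → T := fun n => ⟨⟨(n : G) * x * (n : G)⁻¹, hnconj n n.2⟩, fun e =>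
      h.ne_one (conj_eq_one_iff.1 (congrArg Subtype.val e))⟩
    have hsurj : ∀ y : T, ∃ n : N, f n = y := by
      intro y
      have hy1 : (y.1 : G) ≠ 1 := fun e => y.2 (Subtype.ext e)
      obtain ⟨g, hg⟩ := isConj_iff.1 (h.one.conj x y.1 h.ord (h.of_three (hcube _ y.1.2) hy1).ord)
      obtain ⟨n, hn, e⟩ := R.conj_eq_normalizer_conj_of_mem x g⁻¹ hxR (by rw [inv_inv, hg]; exact y.1.2)
      rw [inv_inv, hg] at e
      exact ⟨⟨n⁻¹, inv_mem hn⟩, Subtype.ext (Subtype.ext (by
        show n⁻¹ * x * n⁻¹⁻¹ = (y.1 : G)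
        rw [inv_inv, e]))⟩
    choose sec hsec using hsurj
    have e : N ≃ T × (R : Subgroup G) :=
      { toFun := fun n => (f n, ⟨((sec (f n) : N) : G)⁻¹ * n, by
          rw [hcent R x hxR h, Subgroup.mem_centralizer_singleton_iff]
          have e0 := congrArg (fun y : T => ((y.1 : (R : Subgroup G)) : G)) (hsec (f n))
          change ((sec (f n) : N) : G) * x * ((sec (f n) : N) : G)⁻¹ = (n : G) * x * (n : G)⁻¹ at e0
          apply mul_inv_eq_iff_eq_mul.1
          rw [show ((sec (f n) : N) : G)⁻¹ * n * x * (((sec (f n) : N) : G)⁻¹ * n)⁻¹ =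
            ((sec (f n) : N) : G)⁻¹ * ((n : G) * x * (n : G)⁻¹) * (sec (f n) : N) by group, ← e0]
          group⟩)
        invFun := fun p => sec p.1 * ⟨p.2.1, Subgroup.le_normalizer p.2.2⟩
        left_inv := fun n => Subtype.ext (by simp)
        right_inv := fun p => by
          have e1 : f (sec p.1 * ⟨p.2.1, Subgroup.le_normalizer p.2.2⟩) = p.1 := by
            refine Eq.trans (Subtype.ext (Subtype.ext ?_)) (hsec p.1)
            show ((sec p.1 : N) : G) * p.2.1 * x * (((sec p.1 : N) : G) * p.2.1)⁻¹ = _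
            have hc : (p.2.1 : G) * x = x * p.2.1 := congrArg Subtype.val (mul_comm' p.2 ⟨x, hxR⟩)
            rw [mul_inv_rev, mul_assoc ((sec p.1 : N) : G), hc]
            show _ = ((sec p.1 : N) : G) * x * ((sec p.1 : N) : G)⁻¹
            group
          refine Prod.ext e1 (Subtype.ext ?_)
          show ((sec (f _) : N) : G)⁻¹ * _ = _
          rw [e1]
          simp }
    rw [Nat.card_congr e, Nat.card_prod, hR9]
    haveI := Fintype.ofFinite G
    rw [Nat.card_eq_fintype_card, Fintype.card_subtype_compl, Fintype.card_subtype_eq, ← Nat.card_eq_fintype_card, hR9]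
  have hidx : N.index = Nat.card (Sylow 3 G) := R.card_eq_index_normalizer.symm
  have h1 := N.card_mul_index
  rw [hN72, hcard, hidx] at h1
  -- the congruence modulo nine
  have hmod : Nat.card (Sylow 3 G) % 9 = 1 := by
    let X : SubMulAction (R : Subgroup G) (Sylow 3 G) :=
      { carrier := {Q | Q ≠ R}
        smul_mem' := fun g Q hQ e => hQ (by
          have e1 : (g : G)⁻¹ • ((g : G) • Q) = (g : G)⁻¹ • R := congrArg _ e
          rw [inv_smul_smul] at e1
          rw [e1, Sylow.smul_eq_iff_mem_normalizer]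
          exact inv_mem (Subgroup.le_normalizer g.2)) }
    have hfree : ∀ Q : X, MulAction.stabilizer (R : Subgroup G) Q = ⊥ := by
      intro Q
      rw [Subgroup.eq_bot_iff_forall]
      intro g hg
      have e : (g : G) • (Q : Sylow 3 G) = (Q : Sylow 3 G) :=
        congrArg Subtype.val (MulAction.mem_stabilizer_iff.1 hg)
      rw [Sylow.smul_eq_iff_mem_normalizer] at e
      have hmem : (g : G) ∈ (R : Subgroup G) ⊓ ((Q : Sylow 3 G) : Subgroup G) := by
        rw [← R.2.inf_normalizer_sylow (Q : Sylow 3 G)]; exact ⟨g.2, e⟩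
      by_contra hg1
      have hp := h.of_three (hcube _ g.2) fun e' => hg1 (Subtype.ext e')
      exact Q.2 (Sylow.ext ((hcent _ _ hmem.2 hp).trans (hcent R _ hmem.1 hp).symm))
    have hc := Nat.card_congr (MulAction.selfEquivOrbitsQuotientProd hfree)
    rw [Nat.card_prod, hR9] at hc
    haveI := Fintype.ofFinite (Sylow 3 G)
    have hX : Nat.card X = Nat.card (Sylow 3 G) - 1 := by
      show Nat.card {Q : Sylow 3 G // Q ≠ R} = _
      rw [Nat.card_eq_fintype_card, Fintype.card_subtype_compl, Fintype.card_subtype_eq, ← Nat.card_eq_fintype_card]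
    rw [hX] at hc
    have := Nat.card_pos (α := Sylow 3 G)
    omega
  have h8 : 8 * Nat.card (Sylow 3 G) = 2 ^ a * q ^ b := by rw [mul_assoc] at h1; omega
  have hco : Nat.Coprime (2 ^ 3) (q ^ b) :=
    Nat.Coprime.pow 3 b ((Nat.coprime_primes Nat.prime_two hq).2 (Ne.symm hq2))
  have ha : 3 ≤ a := (Nat.pow_dvd_pow_iff_le_right (show 1 < 2 by norm_num)).1
    (hco.dvd_of_dvd_mul_right (show (2 : ℕ) ^ 3 ∣ 2 ^ a * q ^ b from ⟨_, h8.symm⟩))
  refine ⟨ha, ?_⟩
  rw [show 2 ^ a = 8 * 2 ^ (a - 3) by rw [show (8 : ℕ) = 2 ^ 3 by norm_num, ← pow_add]; congr 1; omega,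
    mul_assoc] at h8
  rw [← Nat.eq_of_mul_eq_mul_left (by norm_num) h8]
  exact hmod

/-- No simple group in the setting has order 9792. -/
theorem One.not_9792 (h : One G) (hcard : Nat.card G = 9 * 2 ^ 6 * 17 ^ 1) : False := by
  classical
  haveI := h.simple
  haveI : Fact (Nat.Prime 17) := ⟨by norm_num⟩
  let Q : Sylow 17 G := default
  have hQ : Nat.card (Q : Subgroup G) = 17 := by
    rw [Q.card_eq_multiplicity, hcard, Nat.factorization_mul (by norm_num) (by norm_num), Finsupp.add_apply,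
      Nat.factorization_eq_zero_of_not_dvd (show ¬ 17 ∣ 9 * 2 ^ 6 by norm_num), pow_one,
      (show Nat.Prime 17 by norm_num).factorization_self]
    norm_num
  have hnn : ¬ (Q : Subgroup G).Normal := fun hn => by
    rcases hn.eq_bot_or_eq_top with e | e
    · rw [e, Subgroup.card_bot] at hQ; norm_num at hQ
    · rw [e, Subgroup.card_top, hcard] at hQ; norm_num at hQ
  set N := Subgroup.normalizer ((Q : Subgroup G) : Set G) with hN
  have hd : Nat.card (Sylow 17 G) ∣ 576 := by
    have h1 := (Q : Subgroup G).card_mul_index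
    rw [hQ, hcard] at h1
    have h2 : (Q : Subgroup G).index = 576 := by omega
    exact h2 ▸ Q.card_dvd_index
  have h18 : Nat.card (Sylow 17 G) = 18 := by
    have hm : Nat.card (Sylow 17 G) % 17 = 1 := card_sylow_modEq_one 17 G
    have h1 : Nat.card (Sylow 17 G) ≠ 1 := fun e => hnn (Subgroup.normalizer_eq_top_iff.1
      (Subgroup.index_eq_one.1 (Q.card_eq_index_normalizer.symm.trans e)))
    have key : ∀ d < 577, d ∣ 576 → d % 17 = 1 → d = 1 ∨ d = 18 := by decide +kernel
    exact (key _ (Nat.lt_succ_of_le (Nat.le_of_dvd (by norm_num) hd)) hd hm).resolve_left h1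
  have hN544 : Nat.card N = 544 := by
    have h1 := N.card_mul_index
    rw [show N.index = 18 from Q.card_eq_index_normalizer.symm.trans h18, hcard] at h1
    omega
  -- an involution centralizing the Sylow subgroup
  obtain ⟨t, ht2, htC⟩ : ∃ t : G, orderOf t = 2 ∧ t ∈ Subgroup.centralizer ((Q : Subgroup G) : Set G) := by
    set f := Subgroup.normalizerMonoidHom (Q : Subgroup G) with hf
    haveI : IsCyclic (Q : Subgroup G) := isCyclic_of_prime_card hQ
    have h16 : Nat.card (MulAut (Q : Subgroup G)) = 16 := by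
      rw [IsCyclic.card_mulAut, hQ, Nat.totient_prime (by norm_num)]
    have hr : Nat.card f.range ∣ 16 := h16 ▸ Subgroup.card_subgroup_dvd_card _
    have hk := f.ker.card_mul_index
    rw [Subgroup.index_ker, hN544] at hk
    have h2 : 2 ∣ Nat.card f.ker := by
      obtain ⟨i, hi, e⟩ := (Nat.dvd_prime_pow Nat.prime_two).1 (show Nat.card f.range ∣ 2 ^ 4 by simpa using hr)
      rw [e] at hk
      interval_cases i <;> omega
    haveI : Fact (Nat.Prime 2) := ⟨Nat.prime_two⟩
    obtain ⟨t, ht⟩ := exists_prime_orderOf_dvd_card' (G := f.ker) 2 h2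
    refine ⟨((t : N) : G), by rw [Subgroup.orderOf_coe, Subgroup.orderOf_coe, ht], ?_⟩
    exact Subgroup.mem_subgroupOf.1 ((Subgroup.normalizerMonoidHom_ker (Q : Subgroup G)).le t.2)
  have hts : t • Q = Q := Sylow.smul_eq_iff_mem_normalizer.2 (Subgroup.centralizer_le_normalizer _ htC)
  have hcomm : ∀ g ∈ (Q : Subgroup G), g * t = t * g := fun g hg => Subgroup.mem_centralizer_iff.1 htC g hg
  -- it fixes a second point
  obtain ⟨P, hP, hPt⟩ : ∃ P : Sylow 17 G, P ≠ Q ∧ t • P = P := by
    haveI : Fact (Nat.Prime 2) := ⟨Nat.prime_two⟩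
    have hp : IsPGroup 2 (Subgroup.zpowers t) := IsPGroup.of_card (n := 1) (by rw [Nat.card_zpowers, ht2, pow_one])
    have hm := hp.card_modEq_card_fixedPoints (Sylow 17 G)
    rw [h18] at hm
    by_contra hcon
    push Not at hcon
    have hfix : MulAction.fixedPoints (Subgroup.zpowers t) (Sylow 17 G) = {Q} := by
      ext P
      refine ⟨fun hP => ?_, ?_⟩
      · by_contra hne
        exact hcon P hne (hP ⟨t, Subgroup.mem_zpowers t⟩)
      · rintro rfl ⟨g, hg⟩
        obtain ⟨i, rfl⟩ := Subgroup.mem_zpowers_iff.1 hg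
        exact Sylow.smul_eq_iff_mem_normalizer.2 (zpow_mem (Subgroup.centralizer_le_normalizer _ htC) i)
    rw [hfix, Nat.card_coe_set_eq, Set.ncard_singleton] at hm
    have : 18 % 2 = 1 % 2 := hm
    norm_num at this
  -- so it fixes everything
  have hall : ∀ R : Sylow 17 G, t • R = R := by
    have hinj : Function.Injective (fun g : (Q : Subgroup G) => (g : G) • P) := by
      intro g g' e
      have e1 : ((g'⁻¹ * g : (Q : Subgroup G)) : G) • P = P := by
        rw [Subgroup.coe_mul, Subgroup.coe_inv, mul_smul]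
        exact inv_smul_eq_iff.2 e
      rw [Sylow.smul_eq_iff_mem_normalizer] at e1
      have hmem : ((g'⁻¹ * g : (Q : Subgroup G)) : G) ∈ (Q : Subgroup G) ⊓ (P : Subgroup G) := by
        rw [← Q.2.inf_normalizer_sylow P]; exact ⟨SetLike.coe_mem _, e1⟩
      by_contra hne
      have hne' : ((g'⁻¹ * g : (Q : Subgroup G)) : G) ≠ 1 := fun e' => hne (inv_mul_eq_one.1 (Subtype.ext e')).symm
      have hd := hQ ▸ Subgroup.card_dvd_of_le (inf_le_left : (Q : Subgroup G) ⊓ (P : Subgroup G) ≤ Q)
      rcases (Nat.Prime.eq_one_or_self_of_dvd (by norm_num) _ hd) with e' | e'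
      · exact hne' (Subgroup.mem_bot.1 (Subgroup.card_eq_one.1 e' ▸ hmem))
      · have e2 := Subgroup.eq_of_le_of_card_ge (inf_le_left : (Q : Subgroup G) ⊓ (P : Subgroup G) ≤ Q)
          (by rw [e', hQ])
        exact hP (Sylow.ext (Q.3 P.2 (inf_eq_left.1 e2)))
    intro R
    by_cases hR : R = Q
    · rw [hR, hts]
    have hnQ : ∀ g : (Q : Subgroup G), (g : G) • P ≠ Q := fun g e => hP (by
      have e1 := congrArg ((g : G)⁻¹ • ·) e
      simp only [inv_smul_smul] at e1
      rw [e1]
      exact Sylow.smul_eq_iff_mem_normalizer.2 (inv_mem (Subgroup.le_normalizer g.2)))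
    haveI := Fintype.ofFinite (Sylow 17 G)
    have hbij : Function.Bijective (fun g : (Q : Subgroup G) => (⟨(g : G) • P, hnQ g⟩ : {R : Sylow 17 G // R ≠ Q})) :=
      (Nat.bijective_iff_injective_and_card _).2 ⟨fun g g' e => hinj (congrArg Subtype.val e), by
        rw [hQ, Nat.card_eq_fintype_card (α := {R : Sylow 17 G // R ≠ Q}), Fintype.card_subtype_compl,
          Fintype.card_subtype_eq, ← Nat.card_eq_fintype_card, h18]⟩
    obtain ⟨g, hg⟩ := hbij.2 ⟨R, hR⟩
    have e : (g : G) • P = R := congrArg Subtype.val hg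
    rw [← e, ← mul_smul, ← hcomm g g.2, mul_smul, hPt]
  set π := MulAction.toPermHom G (Sylow 17 G)
  have htk : t ∈ π.ker := MonoidHom.mem_ker.2 (Equiv.ext hall)
  rcases (MonoidHom.normal_ker π).eq_bot_or_eq_top with e | e
  · rw [e, Subgroup.mem_bot] at htk
    rw [htk, orderOf_one] at ht2
    norm_num at ht2
  · refine hnn (Subgroup.normalizer_eq_top_iff.1 (eq_top_iff.2 fun g _ => ?_))
    have hg : g ∈ π.ker := e ▸ Subgroup.mem_top g
    exact Sylow.smul_eq_iff_mem_normalizer.1 (congrFun (congrArg (⇑) (MonoidHom.mem_ker.1 hg)) Q)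

end CfsgLib.KFactNine
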