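import Cfsg.Agent.Lib.KFactNine.Numeric

/-!
The finite search: only the order 9792 passes.
-/

set_option autoImplicit false

namespace CfsgLib.KFactNine

/-- The possible degrees. -/
def degs (n q a b : ℕ) : List ℕ :=
  ((List.range (a + 1)).flatMap fun i => (List.range (b + 1)).map fun j => 2 ^ i * q ^ j).filter
    fun f => decide (2 ≤ f) && decide (f * f ≤ n)

/-- The possible entries. -/
def ents (n q a b : ℕ) : List (ℕ × ℤ) :=
  (degs n q a b).flatMap fun (f : ℕ) => (([1, -1, 2, -2] : List ℤ).filter fun c => decide (((f : ℤ) - c) % 9 = 0)).map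
    fun c => (f, c)

/-- Exhaustion of the multisets of entries of given norm. -/
def reach (n lo hi : ℕ) : List (ℕ × ℤ) → ℕ → ℤ → ℤ → Bool
  | [], k, sf, si => decide (k = 0) && decide (1 + sf = 0) && decide ((81 * lo : ℕ) ≤ (n : ℤ) + si) &&
      decide ((n : ℤ) + si ≤ (81 * hi : ℕ))
  | (f, c) :: t, k, sf, si => (List.range (k / (c * c).toNat + 1)).any fun m =>
      reach n lo hi t (k - m * (c * c).toNat) (sf + (m : ℤ) * (c * (f : ℤ))) (si + (m : ℤ) * (c ^ 3 * ((n / f : ℕ) : ℤ)))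

theorem sum_split (g : ℕ × ℤ → ℤ) (e : ℕ × ℤ) (L : List (ℕ × ℤ)) :
    (L.map g).sum = (L.count e : ℤ) * g e + ((L.filter fun p => decide (p ≠ e)).map g).sum := by
  induction L with
  | nil => simp
  | cons p L ih =>
    by_cases hp : p = e
    · subst hp
      simp [ih]; ring
    · simp [hp, ih]; ring

theorem mem_ents {n q a b : ℕ} {p : ℕ × ℤ} (h : Entry n q a b p)
    (hv : p.2 = 1 ∨ p.2 = -1 ∨ p.2 = 2 ∨ p.2 = -2) : p ∈ ents n q a b := by
  obtain ⟨i, j, hi, hj, e⟩ := h.form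
  obtain ⟨f, c⟩ := p
  simp only [ents, List.mem_flatMap, List.mem_map, List.mem_filter]
  refine ⟨f, ?_, c, ⟨?_, by simpa using h.cong⟩, rfl⟩
  · simp only [degs, List.mem_filter, List.mem_flatMap, List.mem_map, List.mem_range, Bool.and_eq_true,
      decide_eq_true_eq]
    exact ⟨⟨i, by omega, j, by omega, e.symm⟩, h.two, h.sq⟩
  · rcases hv with e' | e' | e' | e' <;> (simp only at e'; subst e'; simp)

theorem reach_sound (n lo hi : ℕ) : ∀ (l L : List (ℕ × ℤ)) (k : ℕ) (sf si : ℤ),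
    (∀ p ∈ L, p ∈ l) → (∀ p ∈ L, p.2 ≠ 0) → Q L = k → 1 + (sf + F L) = 0 →
    (81 * lo : ℕ) ≤ (n : ℤ) + (si + T n L) → (n : ℤ) + (si + T n L) ≤ (81 * hi : ℕ) →
    reach n lo hi l k sf si = true := by
  intro l
  induction l with
  | nil =>
    intro L k sf si hL _ hQ hF h1 h2
    have : L = [] := List.eq_nil_iff_forall_not_mem.2 fun p hp => by simpa using hL p hp
    subst this
    simp only [Q, F, T, List.map_nil, List.sum_nil, add_zero] at hQ hF h1 h2
    have hk : k = 0 := by omega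
    simp [reach, hk, hF]; omega
  | cons e t ih =>
    intro L k sf si hL h0 hQ hF h1 h2
    obtain ⟨f, c⟩ := e
    set L' := L.filter fun p => decide (p ≠ (f, c)) with hL'
    set m := L.count (f, c) with hm
    have hsQ : Q L = (m : ℤ) * (c * c) + Q L' := sum_split (fun p => p.2 * p.2) (f, c) L
    have hsF : F L = (m : ℤ) * (c * (f : ℤ)) + F L' := sum_split (fun p => p.2 * (p.1 : ℤ)) (f, c) L
    have hsT : T n L = (m : ℤ) * (c ^ 3 * ((n / f : ℕ) : ℤ)) + T n L' :=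
      sum_split (fun p => p.2 ^ 3 * ((n / p.1 : ℕ) : ℤ)) (f, c) L
    have hcc : (((c * c).toNat : ℕ) : ℤ) = c * c := Int.toNat_of_nonneg (mul_self_nonneg c)
    have hle : m * (c * c).toNat ≤ k := by
      have := Q_nonneg L'
      have h3 : ((m * (c * c).toNat : ℕ) : ℤ) ≤ (k : ℤ) := by push_cast [hcc]; omega
      exact_mod_cast h3
    have hmk : m ≤ k / (c * c).toNat := by
      rcases Nat.eq_zero_or_pos m with e | e
      · rw [e]; exact Nat.zero_le _
      · have hc0 : c ≠ 0 := h0 (f, c) (List.count_pos_iff.1 (hm ▸ e))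
        have : 0 < (c * c).toNat := by
          have := mul_self_pos.2 hc0
          omega
        exact (Nat.le_div_iff_mul_le this).2 hle
    simp only [reach, List.any_eq_true, List.mem_range]
    refine ⟨m, by omega, ih L' _ _ _ (fun p hp => ?_) (fun p hp => h0 p (List.mem_filter.1 hp).1) ?_ ?_ ?_ ?_⟩
    · obtain ⟨hp1, hp2⟩ := List.mem_filter.1 hp
      exact (List.mem_cons.1 (hL p hp1)).resolve_left (by simpa using hp2)
    · rw [Nat.cast_sub hle, Nat.cast_mul, hcc]; omega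
    · rw [hsF] at hF; omega
    · rw [hsT] at h1; omega
    · rw [hsT] at h2; omega

/-- The bound contributed by a large two-part. -/
def bigW (a : ℕ) : ℕ := if a % 2 = 0 then 6 * (2 ^ a - 1) else 3 * (2 ^ (a - 1) - 1)

/-- The lower count given by a large two-part of full Sylow size. -/
def bigLo (a : ℕ) : ℕ := if a % 2 = 0 then 6 * (2 ^ a - 1) else 1

/-- A large two-part is possible. -/
def BigOK (a q b : ℕ) : Prop :=
  4 ≤ a ∧ (if a % 2 = 0 then 2 ^ a else 2 ^ (a - 1)) ^ 2 ≤ 9 * 2 ^ a * q ^ b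

/-- A maximal subgroup with odd part of full Sylow size is possible. -/
def QOK (m a q b : ℕ) : Prop :=
  q ^ b % 3 = 1 ∧ (m * q ^ b) ^ 2 ≤ 9 * 2 ^ a * q ^ b ∧
    ((3 * (m * q ^ b) ∣ 9 * 2 ^ a * q ^ b ∧ 9 * 2 ^ a * q ^ b / (3 * (m * q ^ b)) % q = 1) ∨
     (6 * (m * q ^ b) ∣ 9 * 2 ^ a * q ^ b ∧ 9 * 2 ^ a * q ^ b / (6 * (m * q ^ b)) % q = 1))

instance decBigOK (a q b : ℕ) : Decidable (BigOK a q b) := inferInstanceAs (Decidable (_ ∧ _))

instance decQOK (m a q b : ℕ) : Decidable (QOK m a q b) := inferInstanceAs (Decidable (_ ∧ _))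

/-- The five configurations of maximal subgroups, with the bounds they give. -/
def cfgs (a q b : ℕ) : List (Bool × ℕ × ℕ) :=
  [(true, 1, 45), (decide (BigOK a q b), bigLo a, 9 + bigW a),
    (decide (QOK 1 a q b), 1, 9 + 6 * (q ^ b - 1) + 36),
    (decide (QOK 1 a q b) && decide (BigOK a q b), 1, 9 + 6 * (q ^ b - 1) + bigW a),
    (decide (QOK 4 a q b), 1, 9 + 6 * (4 * q ^ b - 1) + 18)]

/-- The verdict on one triple. -/
def okTriple (a q b : ℕ) : Bool :=
  !(decide (2 ^ (a - 3) * q ^ b % 9 = 1)) || decide (a = 6 ∧ q = 17 ∧ b = 1) ||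
    (cfgs a q b).all fun c => !(c.1) || !(decide (9 * 2 ^ a * q ^ b ≤ 648 * c.2.2)) ||
      !(reach (9 * 2 ^ a * q ^ b) c.2.1 c.2.2 (ents (9 * 2 ^ a * q ^ b) q a b) 8 0 0)

/-- No small divisor. -/
def trial (q : ℕ) : Bool := (List.range 70).all fun d => decide (d < 2) || decide (q < d * d) || decide (q % d ≠ 0)

/-- The verdict on one prime. -/
def okPrime (q : ℕ) : Bool :=
  decide (q % 2 = 0) || decide (q % 3 = 0) || !(trial q) ||
    (List.range 6).all fun b => decide (b = 0 ∧ q ≠ 5) || decide (4700 < q ^ b) ||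
      (List.range' 3 11).all fun a => okTriple a q b

set_option maxRecDepth 100000 in
theorem search_table : ((List.range' 5 4696).all okPrime) = true := by decide +kernel

theorem trial_prime {q : ℕ} (hq : q.Prime) : trial q = true := by
  simp only [trial, List.all_eq_true, List.mem_range, Bool.or_eq_true, decide_eq_true_eq]
  intro d _
  by_contra h
  push Not at h
  have hd := (hq.eq_one_or_self_of_dvd d (Nat.dvd_of_mod_eq_zero h.2)).resolve_left (by omega)
  subst hd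
  nlinarith [h.1.2, hq.two_le]

theorem big_range {a y : ℕ} (ha : 3 ≤ a) (hy : 1 ≤ y)
    (h : 9 * 2 ^ a * y ≤ 648 * (9 + bigW a))
    (hsq : (if a % 2 = 0 then 2 ^ a else 2 ^ (a - 1)) ^ 2 ≤ 9 * 2 ^ a * y) : a ≤ 13 ∧ y ≤ 4700 := by
  have hX : 2 ^ a = 2 * 2 ^ (a - 1) := by rw [← pow_succ']; congr 1; omega
  have h8 : 8 ≤ 2 ^ a := le_trans (by norm_num) (Nat.pow_le_pow_right (show 1 ≤ 2 by norm_num) ha)
  have hpos : 0 < 2 ^ (a - 1) := pow_pos (by norm_num) _
  have key : 2 ^ a ≤ 2 ^ 13 ∧ y ≤ 4700 := by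
    unfold bigW at h
    split_ifs at h hsq with he
    · have h1 : 2 ^ a ≤ 9 * y := Nat.le_of_mul_le_mul_left
        (show 2 ^ a * 2 ^ a ≤ 2 ^ a * (9 * y) by rw [← sq]; linarith) (by omega)
      have h2 : y ≤ 600 := by
        by_contra hh
        have : 9 * 2 ^ a * 601 ≤ 9 * 2 ^ a * y := Nat.mul_le_mul_left _ (by omega)
        omega
      norm_num
      omega
    · have h1 : 2 ^ (a - 1) ≤ 18 * y := Nat.le_of_mul_le_mul_left
        (show 2 ^ (a - 1) * 2 ^ (a - 1) ≤ 2 ^ (a - 1) * (18 * y) by rw [← sq]; rw [hX] at hsq; linarith) hpos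
      rw [hX] at h ⊢
      have h2 : y ≤ 220 := by
        by_contra hh
        have : 9 * (2 * 2 ^ (a - 1)) * 221 ≤ 9 * (2 * 2 ^ (a - 1)) * y := Nat.mul_le_mul_left _ (by omega)
        omega
      norm_num
      omega
  exact ⟨(Nat.pow_le_pow_iff_right (by norm_num)).1 key.1, key.2⟩

theorem qbig_range {a y : ℕ} (ha : 3 ≤ a) (hy : 1 ≤ y)
    (h : 9 * 2 ^ a * y ≤ 648 * (9 + 6 * (y - 1) + bigW a))
    (hsq : (if a % 2 = 0 then 2 ^ a else 2 ^ (a - 1)) ^ 2 ≤ 9 * 2 ^ a * y)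
    (hy2 : (1 * y) ^ 2 ≤ 9 * 2 ^ a * y) : a ≤ 13 ∧ y ≤ 4700 := by
  have hX : 2 ^ a = 2 * 2 ^ (a - 1) := by rw [← pow_succ']; congr 1; omega
  have hpos : 0 < 2 ^ (a - 1) := pow_pos (by norm_num) _
  have hy9 : y ≤ 9 * 2 ^ a := Nat.le_of_mul_le_mul_right
    (show y * y ≤ 9 * 2 ^ a * y by rw [← sq]; simpa using hy2) hy
  have key : 2 ^ a ≤ 2 ^ 13 ∧ y ≤ 4700 := by
    have hy0 : y - 1 ≤ y := Nat.sub_le _ _
    have hm : 9 * 2 ^ a * y ≤ 648 * (9 + 6 * y + bigW a) := by omega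
    unfold bigW at hm
    refine ⟨?_, ?_⟩
    · by_contra hh
      push Not at hh
      have hy6 : y ≤ 700 := by
        by_contra h7
        split_ifs at hm with he <;>
          nlinarith [Nat.sub_le (2 ^ a) 1, Nat.sub_le (2 ^ (a - 1)) 1]
      split_ifs at hsq with he
      · have h1 : 2 ^ a ≤ 9 * y := Nat.le_of_mul_le_mul_left
          (show 2 ^ a * 2 ^ a ≤ 2 ^ a * (9 * y) by rw [← sq]; linarith) (by omega)
        norm_num at hh
        omega
      · rw [if_neg he] at hm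
        have h1 : 2 ^ (a - 1) ≤ 18 * y := Nat.le_of_mul_le_mul_left
          (show 2 ^ (a - 1) * 2 ^ (a - 1) ≤ 2 ^ (a - 1) * (18 * y) by rw [← sq]; rw [hX] at hsq; linarith) hpos
        rw [hX] at hm hh
        have hy3 : y ≤ 200 := by
          by_contra h7
          nlinarith [Nat.sub_le (2 ^ (a - 1)) 1]
        norm_num at hh
        omega
    · by_contra hh
      push Not at hh
      have : 523 ≤ 2 ^ a := by omega
      split_ifs at hm with he <;>
        nlinarith [Nat.sub_le (2 ^ a) 1, Nat.sub_le (2 ^ (a - 1)) 1]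
  exact ⟨(Nat.pow_le_pow_iff_right (by norm_num)).1 key.1, key.2⟩

theorem range_of_cfg {a q b : ℕ} (hq : 5 ≤ q) (ha : 3 ≤ a) {c : Bool × ℕ × ℕ} (hc : c ∈ cfgs a q b)
    (hc1 : c.1 = true) (h : 9 * 2 ^ a * q ^ b ≤ 648 * c.2.2) : a ≤ 13 ∧ q ^ b ≤ 4700 := by
  have hy : 1 ≤ q ^ b := Nat.one_le_pow _ _ (by omega)
  have h8 : 8 ≤ 2 ^ a := le_trans (by norm_num) (Nat.pow_le_pow_right (show 1 ≤ 2 by norm_num) ha)
  have hlog : 2 ^ a ≤ 2 ^ 13 → a ≤ 13 := (Nat.pow_le_pow_iff_right (by norm_num)).1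
  simp only [cfgs, List.mem_cons, List.not_mem_nil, or_false] at hc
  rcases hc with rfl | rfl | rfl | rfl | rfl <;>
    simp only [Bool.and_eq_true, decide_eq_true_eq] at hc1 <;> simp only at h
  · refine ⟨hlog (le_trans ?_ (show 3240 ≤ 2 ^ 13 by norm_num)), ?_⟩
    · nlinarith
    · nlinarith
  · exact big_range ha hy h hc1.2
  · obtain ⟨-, hy2, -⟩ := hc1
    have hy9 : q ^ b ≤ 9 * 2 ^ a := Nat.le_of_mul_le_mul_right
      (show q ^ b * q ^ b ≤ 9 * 2 ^ a * q ^ b by rw [← sq]; simpa using hy2) hy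
    have hy0 := Nat.sub_le (q ^ b) 1
    have hy4 : 4 ≤ q ^ b ∨ q ^ b < 4 := le_or_gt _ _
    refine ⟨hlog (le_trans ?_ (show 4000 ≤ 2 ^ 13 by norm_num)), ?_⟩
    · by_contra hh
      push Not at hh
      nlinarith
    · by_contra hh
      push Not at hh
      have : 523 ≤ 2 ^ a := by omega
      nlinarith
  · exact qbig_range ha hy h hc1.2.2 hc1.1.2.1
  · obtain ⟨-, hy2, -⟩ := hc1
    have hy9 : 16 * q ^ b ≤ 9 * 2 ^ a := Nat.le_of_mul_le_mul_right
      (show 16 * q ^ b * q ^ b ≤ 9 * 2 ^ a * q ^ b by nlinarith) hy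
    have hy0 := Nat.sub_le (4 * q ^ b) 1
    refine ⟨hlog (le_trans ?_ (show 4000 ≤ 2 ^ 13 by norm_num)), ?_⟩
    · by_contra hh
      push Not at hh
      nlinarith
    · by_contra hh
      push Not at hh
      nlinarith

/-- The outcome of the search. -/
theorem search {a q b : ℕ} (hq : q.Prime) (hq5 : 5 ≤ q) (hb0 : b = 0 → q = 5) (ha : 3 ≤ a)
    (hmod : 2 ^ (a - 3) * q ^ b % 9 = 1) {c : Bool × ℕ × ℕ} (hc : c ∈ cfgs a q b) (hc1 : c.1 = true)
    {L : List (ℕ × ℤ)} (g : Good (9 * 2 ^ a * q ^ b) q a b L) (hdvd : ∀ p ∈ L, p.1 ∣ 9 * 2 ^ a * q ^ b)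
    {N : ℕ} (hN : 0 < N) (hlo : c.2.1 ≤ N) (hhi : N ≤ c.2.2)
    (he : (81 * N : ℤ) = ((9 * 2 ^ a * q ^ b : ℕ) : ℤ) + T (9 * 2 ^ a * q ^ b) L) :
    a = 6 ∧ q = 17 ∧ b = 1 := by
  have hn := g.lower hq (by omega) hdvd hN he
  have hn' : 9 * 2 ^ a * q ^ b ≤ 648 * c.2.2 := hn.trans (Nat.mul_le_mul_left _ hhi)
  obtain ⟨ha13, hy⟩ := range_of_cfg hq5 ha hc hc1 hn'
  have hqle : q ≤ 4700 := by
    rcases Nat.eq_zero_or_pos b with e | e
    · rw [hb0 e]; norm_num
    · exact le_trans (Nat.le_self_pow (by omega) q) hy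
  have hb6 : b < 6 := by
    by_contra hh
    have h1 : 5 ^ 6 ≤ q ^ b := le_trans (Nat.pow_le_pow_left hq5 6) (Nat.pow_le_pow_right (by omega) (by omega))
    norm_num at h1
    omega
  have h1 := List.all_eq_true.1 search_table q (List.mem_range'_1.2 ⟨hq5, by omega⟩)
  simp only [okPrime, Bool.or_eq_true, decide_eq_true_eq, Bool.not_eq_true', List.all_eq_true, List.mem_range,
    List.mem_range'_1] at h1
  rcases h1 with ((h2 | h3) | ht) | h1
  · exfalso
    have := (Nat.prime_dvd_prime_iff_eq Nat.prime_two hq).1 (Nat.dvd_of_mod_eq_zero h2); omega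
  · exfalso
    have := (Nat.prime_dvd_prime_iff_eq Nat.prime_three hq).1 (Nat.dvd_of_mod_eq_zero h3); omega
  · rw [trial_prime hq] at ht; exact absurd ht (by decide)
  rcases h1 b hb6 with (⟨e0, e5⟩ | hbig) | h1
  · exact absurd (hb0 e0) e5
  · omega
  have h2 := h1 a ⟨ha, by omega⟩
  simp only [okTriple, Bool.or_eq_true, decide_eq_true_eq, Bool.not_eq_true', decide_eq_false_iff_not,
    List.all_eq_true] at h2
  rcases h2 with (h3 | h3) | h2
  · exact absurd hmod h3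
  · exact h3
  exfalso
  rcases h2 c hc with (h3 | h3) | h3
  · rw [hc1] at h3; exact absurd h3 (by decide)
  · exact h3 hn'
  · have := reach_sound (9 * 2 ^ a * q ^ b) c.2.1 c.2.2 (ents (9 * 2 ^ a * q ^ b) q a b) L 8 0 0
      (fun p hp => mem_ents (g.entry p hp) (g.values hp)) (fun p hp => (g.entry p hp).ne)
      (by exact_mod_cast g.norm) (by rw [zero_add]; exact g.orth)
      (by rw [zero_add, ← he]; exact_mod_cast Nat.mul_le_mul_left 81 hlo)
      (by rw [zero_add, ← he]; exact_mod_cast Nat.mul_le_mul_left 81 hhi)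
    rw [this] at h3
    exact absurd h3 (by decide)

end CfsgLib.KFactNine
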