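import Cfsg.Agent.Lib.KFactNine.Shapes
import Cfsg.Agent.Lib.KFactNine.Order
import Cfsg.Agent.Lib.KFactNine.Search

/-!
No simple group of order `9 * 2 ^ a * q ^ b` has one class of self-centralizing elements of order three with
Sylow three-subgroups of order nine.
-/

set_option autoImplicit false
set_option linter.unusedSectionVars false
set_option linter.style.haveILetI false

namespace CfsgLib.KFactNine

open CfsgLib.SelfCentThree

universe u

variable {G : Type u} [Group G] [Finite G] {x : G} {q a b : ℕ} {L : List (ℕ × ℤ)}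

/-- What the column gives. -/
structure Col (x : G) (q a b : ℕ) (L : List (ℕ × ℤ)) : Prop where
  /-- numeric data -/
  good : Good (Nat.card G) q a b L
  /-- divisors -/
  dvd : ∀ p ∈ L, p.1 ∣ Nat.card G
  /-- count -/
  eq : (81 * cnt x : ℤ) = (Nat.card G : ℤ) + T (Nat.card G) L
  /-- representations -/
  rep : ∀ p ∈ L, ∃ ρ : Representation ℂ G (Fin p.1 → ℂ), ∀ g, ρ g = 1 → g = 1

theorem bigW_le {a : ℕ} (ha : 1 ≤ a) : bigW a + 6 ≤ 6 * 2 ^ a := by
  have h1 : 2 ^ a = 2 * 2 ^ (a - 1) := by rw [← pow_succ']; congr 1; omega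
  have h2 : 1 ≤ 2 ^ (a - 1) := Nat.one_le_pow _ _ (by norm_num)
  unfold bigW
  split_ifs <;> omega

theorem five_pow_mod (j : ℕ) (hj : j < 3) (h : ((5 : ℤ) ^ j - 1) % 9 = 0 ∨ ((5 : ℤ) ^ j + 1) % 9 = 0) : j = 0 := by
  interval_cases j <;> norm_num at h <;> rfl

theorem qbig_bound {a y : ℕ} (ha : 4 ≤ a) (hy : 625 ≤ y) (hy9 : y ≤ 9 * 2 ^ a) :
    81 * (9 + 6 * (y - 1) + bigW a) * 1000 ≤ 450 * (9 * 2 ^ a * y) := by
  rcases Nat.lt_or_ge a 8 with e | e
  · rcases (show a = 4 ∨ a = 5 ∨ a = 6 ∨ a = 7 by omega) with rfl | rfl | rfl | rfl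
    · omega
    · omega
    · omega
    · have : bigW 7 = 189 := rfl
      omega
  · have h256 : 256 ≤ 2 ^ a := le_trans (by norm_num) (Nat.pow_le_pow_right (show 1 ≤ 2 by norm_num) e)
    have hW := bigW_le (show 1 ≤ a by omega)
    have h9 : y - 1 + 1 = y := by omega
    nlinarith [Nat.mul_le_mul h256 hy]

/-- With the exceptional shape the prime is five, with exponent at least three, and the count is large. -/
theorem bad_facts (o : Ord G q a b) (h : P3 x) (hB : ¬ NoB x) (c : Col x q a b L) :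
    q = 5 ∧ 3 ≤ b ∧ ∀ hi, cnt x ≤ hi → 81 * hi * 1000 ≤ 450 * Nat.card G → False := by
  simp only [NoB, not_forall, not_not] at hB
  obtain ⟨D, hD, hD1, hxD, N, hN⟩ := hB
  have h5 := shapeB_five _ hN
  have hq5 : q = 5 := by
    rw [o.card] at h5
    rcases (Nat.Prime.dvd_mul Nat.prime_five).1 h5 with e | e
    · exfalso
      rcases (Nat.Prime.dvd_mul Nat.prime_five).1 e with e | e
      · norm_num at e
      · have := Nat.prime_five.dvd_of_dvd_pow e; norm_num at this
    · exact ((Nat.prime_dvd_prime_iff_eq Nat.prime_five o.prime).1 (Nat.prime_five.dvd_of_dvd_pow e)).symm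
  have hdim : ∀ p ∈ L, 9 ≤ p.1 := fun p hp => by
    obtain ⟨ρ, hρ⟩ := c.rep p hp
    exact nine_le_dim h hxD (three'_bot_two hD) hD1 hN ρ hρ
  subst hq5
  refine ⟨rfl, ?_, fun hi hle hs => ?_⟩
  · by_contra hb
    have hev : ∀ l : List (ℕ × ℤ), (∀ p ∈ l, (2 : ℤ) ∣ p.2 * (p.1 : ℤ)) → (2 : ℤ) ∣ F l := by
      intro l
      induction l with
      | nil => simp [F]
      | cons p t ih =>
        intro hl
        rw [F_cons]
        exact dvd_add (hl p (by simp)) (ih fun r hr => hl r (List.mem_cons_of_mem _ hr))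
    have h2 := hev L fun p hp => by
      rcases c.good.values hp with e | e | e | e
      rotate_left 2
      · rw [e]; exact dvd_mul_right 2 _
      · rw [e]; exact dvd_mul_of_dvd_left (dvd_neg.2 dvd_rfl) _
      all_goals
        obtain ⟨i, j, -, hj, ef⟩ := (c.good.entry p hp).form
        have hcong := (c.good.entry p hp).cong
        have h9 := hdim p hp
        rcases Nat.eq_zero_or_pos i with rfl | hi
        · exfalso
          rw [pow_zero, one_mul] at ef
          rw [ef, e] at hcong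
          push_cast at hcong
          have := five_pow_mod j (by omega) (by omega)
          rw [this, pow_zero] at ef
          omega
        · refine dvd_mul_of_dvd_right ?_ _
          rw [ef]
          push_cast
          exact dvd_mul_of_dvd_left (dvd_pow_self 2 hi.ne') _
    have := c.good.orth
    omega
  · obtain ⟨p, hp, hp8⟩ := c.good.small_degree c.eq
      (le_trans (Nat.mul_le_mul_right _ (Nat.mul_le_mul_left _ hle)) hs) Nat.card_pos
    have := hdim p hp
    omega

theorem block_four_le (h : P3 x) {M : Subgroup G} (hM : Max x M) (hc : Nat.card M = 4) : (block x M).ncard ≤ 18 := by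
  have := block_card_le_six h hM.inv
  rw [hc] at this
  exact this

theorem blocks_le {l : List (Subgroup G)} {c : ℕ} (hl : ∀ M ∈ l, (block x M).ncard ≤ c) :
    (l.map fun M => (block x M).ncard).sum ≤ l.length * c := by
  induction l with
  | nil => simp
  | cons p t ih =>
    rw [List.map_cons, List.sum_cons, List.length_cons, Nat.succ_mul]
    have := hl p (by simp)
    have := ih fun r hr => hl r (List.mem_cons_of_mem _ hr)
    omega

/-- The representatives of the maximal subgroups of order four. -/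
theorem four_reps (h : P3 x) :
    ∃ Rs : List (Subgroup G), Rs.length ≤ 2 ∧ (∀ M ∈ Rs, Max x M ∧ 2 ∣ Nat.card M) ∧
      ∀ M, Max x M → 2 ∣ Nat.card M → ∃ K ∈ Rs, Rel x K M := by
  obtain ⟨Rs, h1, h2, h3⟩ := exists_two_reps (x := x) (fun M => Max x M ∧ 2 ∣ Nat.card M) fun M hM => by
    by_contra hcon
    push Not at hcon
    exact no_three_even h M (fun i => (hM i).1) (fun i => (hM i).2) hcon
  exact ⟨Rs, h1, h2, fun M hM hd => h3 M ⟨hM, hd⟩⟩

/-- A large two-group which is maximal. -/
theorem big_data (o : Ord G q a b) (h : P3 x) {B : Subgroup G} (hB : Max x B) (h16 : 16 ∣ Nat.card B)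
    (hnq : ¬ q ∣ Nat.card B) :
    4 ≤ a ∧ Nat.card B = (if a % 2 = 0 then 2 ^ a else 2 ^ (a - 1)) ∧ (block x B).ncard ≤ bigW a ∧
      (NoB x → BigOK a q b ∧ bigLo a ≤ cnt x) := by
  haveI := Fact.mk Nat.prime_two
  obtain ⟨P, i, hP, hPc, hfac, hi⟩ := two_shape o h hB (dvd_trans (by norm_num) h16)
  have h4 : 4 ≤ (Nat.card B).factorization 2 :=
    (Nat.prime_two.pow_dvd_iff_le_factorization Nat.card_pos.ne').1 (show 2 ^ 4 ∣ Nat.card B from h16)
  obtain ⟨hi4, hie⟩ := hi.resolve_left (by omega)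
  obtain ⟨i', j', hi', -, hc⟩ := o.dvd_form hB.three'
  have hj : j' = 0 := by
    by_contra hj
    exact hnq (hc ▸ dvd_mul_of_dvd_right (dvd_pow_self q hj) _)
  rw [hj, pow_zero, mul_one] at hc
  have hii : i' = i := by
    rw [← hfac, hc, Nat.prime_two.factorization_pow, Finsupp.single_eq_same]
  subst hii
  have hPB : P = B := Subgroup.eq_of_le_of_card_ge hP.le (by rw [hPc, hc])
  subst hPB
  have hcard : Nat.card P = if a % 2 = 0 then 2 ^ a else 2 ^ (a - 1) := by
    rw [hc, hie]; split_ifs <;> rfl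
  have ha4 : 4 ≤ a := le_trans hi4 hi'
  have hblk : (block x P).ncard ≤ bigW a := by
    unfold bigW
    split_ifs with ha
    · have := block_card_le_six h hB.inv
      rwa [hcard, if_pos ha] at this
    · rw [if_neg ha] at hcard
      obtain ⟨T, hT⟩ := hP.pgroup.exists_le_sylow
      have hTc : Nat.card (T : Subgroup G) = 2 * Nat.card P := by
        rw [T.card_eq_multiplicity, o.fact_two, hcard, ← pow_succ']; congr 1; omega
      have hTN := (le_normalizer_of_index_two hT hTc).trans hP.norm.le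
      obtain ⟨s, hs, hsP⟩ : ∃ s ∈ (T : Subgroup G), s ∉ P := SetLike.not_le_iff_exists.1 fun hle => by
        have := Nat.le_of_dvd Nat.card_pos (Subgroup.card_dvd_of_le hle)
        have := Nat.card_pos (α := P)
        omega
      obtain ⟨g, hg, hgx⟩ := hP.nine_fixed_of_outer h hB (hTN hs) hsP (two_elt T.2 hs)
      refine (block_card_le P).trans (le_trans (Nat.mul_le_mul_right _ (orbit_le_three h hB.inv hg hgx)) ?_)
      rw [hcard]
  refine ⟨ha4, hcard, hblk, fun hN => ?_⟩
  have hmeet : ∀ K K', Rel x P K → Rel x P K' → K ⊓ K' ≠ ⊥ → K = K' := fun K K' r r' =>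
    two_meet h hN (r.max h hB) (r'.max h hB) (i := i') (by omega) (r.card.trans hc) (r'.card.trans hc)
  refine ⟨⟨ha4, ?_⟩, ?_⟩
  · rw [← hcard, ← o.card]
    exact sq_le_of_meet h hB hP fun K _ r => hmeet P K (Rel.refl P) r
  · unfold bigLo
    split_ifs with ha
    swap
    · exact h.cnt_pos
    rw [if_pos ha] at hcard
    have hNP : Nat.card (Subgroup.normalizer (P : Set G)) = 3 * Nat.card P := by
      refine hP.card_norm.resolve_right fun e => ?_
      have hd := e ▸ (Subgroup.normalizer (P : Set G)).card_subgroup_dvd_card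
      rw [hcard, show 6 * 2 ^ a = 3 * 2 ^ (a + 1) by ring] at hd
      have h2 : 2 ^ (a + 1) ∣ Nat.card G := (dvd_mul_left _ 3).trans hd
      have := (Nat.prime_two.pow_dvd_iff_le_factorization Nat.card_pos.ne').1 h2
      rw [o.fact_two] at this
      omega
    refine le_trans ?_ (Set.ncard_le_ncard (h.block_sub_prods hB) (Set.toFinite _))
    refine le_trans ?_ (block_card_ge hmeet)
    rw [hcard]
    exact Nat.mul_le_mul_right _ (h.six_le_orbit hB hNP)

/-- A maximal subgroup containing a Sylow subgroup for the odd prime. -/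
theorem odd_data (o : Ord G q a b) (h : P3 x) {M : Subgroup G} (hM : Max x M) (hd : q ∣ Nat.card M) :
    (Nat.card M = 1 * q ^ b ∧ QOK 1 a q b) ∨ (Nat.card M = 4 * q ^ b ∧ QOK 4 a q b) := by
  haveI := Fact.mk o.prime
  obtain ⟨P, hP, hPc, hy3, hsyl⟩ := odd_part o h hM hd
  obtain ⟨i, j, hi, hj, hc⟩ := o.dvd_form hM.three'
  have hjb : j = b := by
    have e := hP.card
    rw [hPc, hc, Nat.factorization_mul (by positivity) (pow_ne_zero _ o.prime.ne_zero), Finsupp.add_apply,
      o.prime.factorization_pow, Finsupp.single_eq_same, Nat.prime_two.factorization_pow,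
      Finsupp.single_eq_of_ne o.ne_two, zero_add] at e
    exact (Nat.pow_right_injective o.prime.two_le e).symm
  subst hjb
  have hsq : Nat.card M ^ 2 ≤ 9 * 2 ^ a * q ^ j := o.card ▸ sq_le_of_meet h hM hP fun K hK r =>
    odd_meet o h hM hK hd (r.card ▸ hd)
  have hi' : i = 0 ∨ i = 2 := by
    rcases Nat.eq_zero_or_pos i with e | e
    · exact Or.inl e
    refine Or.inr ?_
    obtain ⟨P₂, i', -, -, hfac, hi'⟩ := two_shape o h hM (hc ▸ dvd_mul_of_dvd_left (dvd_pow_self 2 e.ne') _)
    have hii : i' = i := by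
      rw [← hfac, hc, Nat.factorization_mul (by positivity) (pow_ne_zero _ o.prime.ne_zero), Finsupp.add_apply,
        o.prime.factorization_pow, Finsupp.single_eq_of_ne o.ne_two.symm, Nat.prime_two.factorization_pow,
        Finsupp.single_eq_same, add_zero]
    subst hii
    refine hi'.resolve_right fun ⟨h4, he⟩ => ?_
    rw [hc] at hsq
    have hb1 : j ≠ 0 := fun e0 => by
      rw [e0, pow_zero, mul_one] at hc
      exact o.ne_two ((Nat.prime_dvd_prime_iff_eq o.prime Nat.prime_two).1 (o.prime.dvd_of_dvd_pow (hc ▸ hd)))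
    have h5 : 5 ≤ q ^ j := le_trans o.five (Nat.le_self_pow hb1 q)
    have hX : 2 ^ a ≤ 2 * 2 ^ i' := by
      rw [← pow_succ']; refine Nat.pow_le_pow_right (by norm_num) ?_
      split_ifs at he <;> omega
    have h16 : 16 ≤ 2 ^ i' := le_trans (by norm_num) (Nat.pow_le_pow_right (show 1 ≤ 2 by norm_num) h4)
    have h80 : 80 ≤ 2 ^ i' * q ^ j := Nat.mul_le_mul h16 h5
    have h18 : 9 * 2 ^ a * q ^ j ≤ 18 * (2 ^ i' * q ^ j) := by
      calc 9 * 2 ^ a * q ^ j ≤ 9 * (2 * 2 ^ i') * q ^ j := by gcongr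
        _ = _ := by ring
    have := Nat.mul_le_mul_right (2 ^ i' * q ^ j) h80
    rw [sq] at hsq
    omega
  have hidx : (Subgroup.normalizer (M : Set G)).index % q = 1 := by
    let S : Sylow q G := Sylow.ofCard P (by rw [hPc, o.fact_q])
    have h1 : Nat.card (Sylow q G) % q = 1 % q := card_sylow_modEq_one q G
    rw [S.card_eq_index_normalizer, Nat.one_mod_eq_one.2 o.prime.ne_one,
      show Subgroup.normalizer (S : Set G) = Subgroup.normalizer (M : Set G) from hP.norm] at h1
    exact h1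
  have hmul := (Subgroup.normalizer (M : Set G)).card_mul_index
  rw [o.card] at hmul
  have hdiv : ∀ k, Nat.card (Subgroup.normalizer (M : Set G)) = k →
      k ∣ 9 * 2 ^ a * q ^ j ∧ 9 * 2 ^ a * q ^ j / k % q = 1 := by
    rintro k rfl
    refine ⟨⟨_, hmul.symm⟩, ?_⟩
    rw [← hmul, Nat.mul_div_cancel_left _ Nat.card_pos]
    exact hidx
  have hQ : ∀ m, Nat.card M = m * q ^ j → QOK m a q j := fun m hm =>
    ⟨hy3, hm ▸ hsq, hP.card_norm.imp (fun e => hdiv _ (by rw [e, hm])) (fun e => hdiv _ (by rw [e, hm]))⟩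
  rcases hi' with rfl | rfl
  · exact Or.inl ⟨by rw [hc, pow_zero], hQ 1 (by rw [hc, pow_zero])⟩
  · exact Or.inr ⟨by rw [hc]; norm_num, hQ 4 (by rw [hc]; norm_num)⟩

/-- The maximal subgroups fit one of the five configurations. -/
theorem exists_cfg (o : Ord G q a b) (h : P3 x) (c : Col x q a b L) :
    ∃ e ∈ cfgs a q b, e.1 = true ∧ e.2.1 ≤ cnt x ∧ cnt x ≤ e.2.2 := by
  classical
  have hcov : ∀ M, Max x M → q ∣ Nat.card M ∨ 2 ∣ Nat.card M := fun M hM => by
    obtain ⟨i, j, -, -, hc⟩ := o.dvd_form hM.three'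
    rcases Nat.eq_zero_or_pos j with e | e
    · rcases Nat.eq_zero_or_pos i with e' | e'
      · exact absurd (Subgroup.card_eq_one.1 (by rw [hc, e, e', pow_zero, pow_zero, mul_one])) hM.ne_bot
      · exact Or.inr (hc ▸ dvd_mul_of_dvd_left (dvd_pow_self 2 e'.ne') _)
    · exact Or.inl (hc ▸ dvd_mul_of_dvd_right (dvd_pow_self q e.ne') _)
  have h4 : ∀ M, Max x M → ¬ q ∣ Nat.card M → ¬ 16 ∣ Nat.card M → Nat.card M = 4 := fun M hM hq h16 => by
    obtain ⟨P, i, hP, hPc, hfac, hi⟩ := two_shape o h hM ((hcov M hM).resolve_left hq)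
    obtain ⟨i', j', -, -, hc⟩ := o.dvd_form hM.three'
    have hj : j' = 0 := by
      by_contra hj
      exact hq (hc ▸ dvd_mul_of_dvd_right (dvd_pow_self q hj) _)
    rw [hj, pow_zero, mul_one] at hc
    rw [hc, Nat.prime_two.factorization_pow, Finsupp.single_eq_same] at hfac
    subst hfac
    rcases hi with e | ⟨e, -⟩
    · rw [hc, e]; norm_num
    · exact absurd (hc ▸ pow_dvd_pow 2 e) h16
  by_cases hQ : ∃ M, Max x M ∧ q ∣ Nat.card M
  swap
  · push Not at hQ
    by_cases hB : ∃ B, Max x B ∧ 16 ∣ Nat.card B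
    · obtain ⟨B, hB, h16⟩ := hB
      obtain ⟨ha4, hcB, hblk, hno⟩ := big_data o h hB h16 (hQ B hB)
      have hle : cnt x ≤ 9 + bigW a := by
        refine (h.cnt_le [B] fun M hM => ⟨B, by simp, big_rel h hB hM h16 ((hcov M hM).resolve_left (hQ M hM))⟩).trans ?_
        simp only [List.map_cons, List.map_nil, List.sum_cons, List.sum_nil]
        omega
      by_cases hN : NoB x
      · refine ⟨_, List.mem_cons_of_mem _ List.mem_cons_self, ?_, (hno hN).2, hle⟩
        simpa using (hno hN).1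
      exfalso
      obtain ⟨rfl, hb, hkill⟩ := bad_facts o h hN c
      refine hkill _ hle ?_
      have hW := bigW_le (show 1 ≤ a by omega)
      have h125 : 125 ≤ 5 ^ b := le_trans (by norm_num) (Nat.pow_le_pow_right (show 1 ≤ 5 by norm_num) hb)
      have h16a : 16 ≤ 2 ^ a := le_trans (by norm_num) (Nat.pow_le_pow_right (show 1 ≤ 2 by norm_num) ha4)
      have := Nat.mul_le_mul_left (9 * 2 ^ a) h125
      rw [o.card]
      omega
    · push Not at hB
      obtain ⟨Rs, hlen, hRs, hRcov⟩ := four_reps h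
      refine ⟨_, List.mem_cons_self, rfl, h.cnt_pos, ?_⟩
      refine (h.cnt_le Rs fun M hM => hRcov M hM ((hcov M hM).resolve_left (hQ M hM))).trans ?_
      have := blocks_le (x := x) (l := Rs) (c := 18) fun M hM =>
        block_four_le h (hRs M hM).1 (h4 M (hRs M hM).1 (hQ M (hRs M hM).1) (hB M (hRs M hM).1))
      have := Nat.mul_le_mul_right 18 hlen
      simp only
      omega
  obtain ⟨M₀, hM₀, hd₀⟩ := hQ
  have hrel : ∀ M, Max x M → q ∣ Nat.card M → Rel x M₀ M := fun M hM hd => odd_rel o h hM₀ hM hd₀ hd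
  have hb0 := block_card_le_six h hM₀.inv
  rcases odd_data o h hM₀ hd₀ with ⟨hc₀, hok⟩ | ⟨hc₀, hok⟩
  · rw [hc₀, one_mul] at hb0
    have hnq : ∀ M, Max x M → 2 ∣ Nat.card M → ¬ q ∣ Nat.card M := fun M hM h2 hd => by
      rw [(hrel M hM hd).card, hc₀, one_mul] at h2
      exact o.ne_two ((Nat.prime_dvd_prime_iff_eq Nat.prime_two o.prime).1 (Nat.prime_two.dvd_of_dvd_pow h2)).symm
    by_cases hB : ∃ B, Max x B ∧ 16 ∣ Nat.card B
    · obtain ⟨B, hB, h16⟩ := hB
      obtain ⟨ha4, hcB, hblk, hno⟩ := big_data o h hB h16 (hnq B hB (dvd_trans (by norm_num) h16))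
      have hle : cnt x ≤ 9 + 6 * (q ^ b - 1) + bigW a := by
        refine (h.cnt_le [M₀, B] fun M hM => ?_).trans ?_
        · rcases hcov M hM with hd | hd
          · exact ⟨M₀, by simp, hrel M hM hd⟩
          · exact ⟨B, by simp, big_rel h hB hM h16 hd⟩
        simp only [List.map_cons, List.map_nil, List.sum_cons, List.sum_nil]
        omega
      by_cases hN : NoB x
      · refine ⟨_, List.mem_cons_of_mem _ (List.mem_cons_of_mem _ (List.mem_cons_of_mem _ List.mem_cons_self)), ?_,
          h.cnt_pos, hle⟩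
        simpa using ⟨hok, (hno hN).1⟩
      exfalso
      obtain ⟨rfl, hb, hkill⟩ := bad_facts o h hN c
      refine hkill _ hle ?_
      obtain ⟨hy3, hy2, -⟩ := hok
      have hb4 : 4 ≤ b := by
        rcases Nat.lt_or_ge b 4 with e | e
        · have : b = 3 := by omega
          subst this; norm_num at hy3
        · exact e
      have h625 : 625 ≤ 5 ^ b := le_trans (by norm_num) (Nat.pow_le_pow_right (show 1 ≤ 5 by norm_num) hb4)
      have hy9 : 5 ^ b ≤ 9 * 2 ^ a := Nat.le_of_mul_le_mul_right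
        (show 5 ^ b * 5 ^ b ≤ 9 * 2 ^ a * 5 ^ b by rw [← sq]; simpa using hy2) (by omega)
      rw [o.card]
      exact qbig_bound ha4 h625 hy9
    · push Not at hB
      obtain ⟨Rs, hlen, hRs, hRcov⟩ := four_reps h
      refine ⟨_, List.mem_cons_of_mem _ (List.mem_cons_of_mem _ List.mem_cons_self), ?_, h.cnt_pos, ?_⟩
      · simpa using hok
      refine (h.cnt_le (M₀ :: Rs) fun M hM => ?_).trans ?_
      · rcases hcov M hM with hd | hd
        · exact ⟨M₀, by simp, hrel M hM hd⟩
        · obtain ⟨K, hK, hr⟩ := hRcov M hM hd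
          exact ⟨K, List.mem_cons_of_mem _ hK, hr⟩
      have := blocks_le (x := x) (l := Rs) (c := 18) fun M hM =>
        block_four_le h (hRs M hM).1 (h4 M (hRs M hM).1 (hnq M (hRs M hM).1 (hRs M hM).2) (hB M (hRs M hM).1))
      have := Nat.mul_le_mul_right 18 hlen
      simp only [List.map_cons, List.sum_cons]
      omega
  · rw [hc₀] at hb0
    have h20 : 2 ∣ Nat.card M₀ := hc₀ ▸ dvd_mul_of_dvd_left (by norm_num) _
    have hno16 : ∀ M, Max x M → ¬ 16 ∣ Nat.card M := fun M hM h16 => by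
      rw [← (big_rel h hM hM₀ h16 h20).card, hc₀] at h16
      have h4' : 4 ∣ q ^ b := Nat.dvd_of_mul_dvd_mul_left (k := 4) (by norm_num) (show 4 * 4 ∣ 4 * q ^ b from h16)
      have h2' : 2 ∣ q ^ b := dvd_trans (by norm_num) h4'
      exact o.ne_two ((Nat.prime_dvd_prime_iff_eq Nat.prime_two o.prime).1 (Nat.prime_two.dvd_of_dvd_pow h2')).symm
    have hle : ∃ Rs : List (Subgroup G), Rs.length ≤ 1 ∧ (∀ M ∈ Rs, Max x M ∧ ¬ q ∣ Nat.card M) ∧
        ∀ M, Max x M → ∃ K ∈ M₀ :: Rs, Rel x K M := by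
      by_cases hA : ∃ A, Max x A ∧ ¬ Rel x M₀ A
      · obtain ⟨A, hA, hnr⟩ := hA
        refine ⟨[A], by simp, fun M hM => ?_, fun M hM => ?_⟩
        · rw [List.mem_singleton] at hM; subst hM; exact ⟨hA, fun hd => hnr (hrel _ hA hd)⟩
        by_cases hr : Rel x M₀ M
        · exact ⟨M₀, by simp, hr⟩
        refine ⟨A, by simp, by_contra fun hr' => ?_⟩
        refine no_three_even h ![M₀, A, M] (fun i => by fin_cases i <;> assumption) (fun i => ?_) ?_
        · fin_cases i
          · exact h20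
          · exact (hcov A hA).resolve_left fun hd => hnr (hrel _ hA hd)
          · exact (hcov M hM).resolve_left fun hd => hr (hrel _ hM hd)
        · intro i j hij
          fin_cases i <;> fin_cases j <;> simp at hij ⊢ <;>
            first | assumption | exact fun e => hnr e.symm | exact fun e => hr e.symm | exact fun e => hr' e.symm
      · push Not at hA
        exact ⟨[], by simp, by simp, fun M hM => ⟨M₀, by simp, hA M hM⟩⟩
    obtain ⟨Rs, hlen, hRs, hRcov⟩ := hle
    refine ⟨_, List.mem_cons_of_mem _ (List.mem_cons_of_mem _ (List.mem_cons_of_mem _ (List.mem_cons_of_mem _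
      List.mem_cons_self))), ?_, h.cnt_pos, (h.cnt_le (M₀ :: Rs) hRcov).trans ?_⟩
    · simpa using hok
    have := blocks_le (x := x) (l := Rs) (c := 18) fun M hM =>
      block_four_le h (hRs M hM).1 (h4 M (hRs M hM).1 (hRs M hM).2 (hno16 M (hRs M hM).1))
    have := Nat.mul_le_mul_right 18 hlen
    simp only [List.map_cons, List.sum_cons]
    omega

theorem P3.impossible (h : P3 x) (hq : q.Prime) (hq5 : 5 ≤ q) (hb0 : b = 0 → q = 5)
    (hcard : Nat.card G = 9 * 2 ^ a * q ^ b) : False := by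
  obtain ⟨ha, hmod⟩ := h.sylow_data hq (by omega) hcard
  obtain ⟨L, g, hdvd, heq, hrep⟩ := h.column hq (by omega) hcard
  obtain ⟨e, he, he1, hlo, hhi⟩ := exists_cfg ⟨hq, hq5, hcard⟩ h ⟨g, hdvd, heq, hrep⟩
  rw [hcard] at g hdvd heq
  obtain ⟨rfl, rfl, rfl⟩ := search hq hq5 hb0 ha hmod he he1 g hdvd h.cnt_pos hlo hhi heq
  exact h.one.not_9792 hcard

end CfsgLib.KFactNine
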