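import Cfsg.Agent.Lib.KFactNine.Basic

/-!
Maximal subgroups of order prime to three normalized by an element of order three, and their conjugates under
the normalizer of the subgroup it generates.
-/

set_option autoImplicit false
set_option linter.unusedSectionVars false

namespace CfsgLib.KFactNine

open CfsgLib.SelfCentThree
open scoped commutatorElement

universe u

variable {G : Type u} [Group G] [Finite G] {x : G}

/-- The part of a maximal subgroup at a prime. -/
theorem exists_part (h : P3 x) {M : Subgroup G} (hM : Max x M) (q : ℕ) [Fact q.Prime] :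
    ∃ P : Subgroup G, P ≤ M ∧ IsPGroup q P ∧ (∀ k ∈ M, (∃ n : ℕ, k ^ q ^ n = 1) → k ∈ P) ∧
      Subgroup.normalizer (M : Set G) ≤ Subgroup.normalizer (P : Set G) ∧
      Nat.card P = q ^ (Nat.card M).factorization q := by
  haveI := h.nilpotent hM.three' hM.inv
  let P₀ : Sylow q M := default
  haveI : (P₀ : Subgroup M).Normal := inferInstance
  haveI := Sylow.unique_of_normal P₀ ‹_›
  have hall : ∀ k : M, (∃ n : ℕ, (k : G) ^ q ^ n = 1) → k ∈ (P₀ : Subgroup M) := by
    rintro k ⟨n, hn⟩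
    have hk : k ^ q ^ n = 1 := Subtype.ext (by simpa using hn)
    have hp : IsPGroup q (Subgroup.zpowers k) := fun w => by
      obtain ⟨i, hi⟩ := Subgroup.mem_zpowers_iff.1 w.2
      refine ⟨n, Subtype.ext ?_⟩
      rw [SubmonoidClass.coe_pow, ← hi, ← zpow_natCast, ← zpow_mul, mul_comm, zpow_mul, zpow_natCast, hk, one_zpow]
      rfl
    obtain ⟨Q, hQ⟩ := hp.exists_le_sylow
    rw [Subsingleton.elim Q P₀] at hQ
    exact hQ (Subgroup.mem_zpowers k)
  refine ⟨(P₀ : Subgroup M).map M.subtype, Subgroup.map_subtype_le _, P₀.2.map _,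
    fun k hk hn => ⟨⟨k, hk⟩, hall ⟨k, hk⟩ hn, rfl⟩, fun g hg => ?_, ?_⟩
  · rw [← inv'_iff_mem_normalizer] at hg ⊢
    refine inv'_of_le fun k hk => ?_
    obtain ⟨k₀, hk₀, rfl⟩ := hk
    have hm : g * (k₀ : G) * g⁻¹ ∈ M := (hg _).1 k₀.2
    obtain ⟨n, hn⟩ := P₀.2 ⟨k₀, hk₀⟩
    have hn' : (k₀ : G) ^ q ^ n = 1 := by simpa using congrArg (fun w : (P₀ : Subgroup M) => ((w : M) : G)) hn
    refine ⟨⟨_, hm⟩, hall ⟨_, hm⟩ ⟨n, ?_⟩, rfl⟩
    rw [conj_pow, hn']; simp
  · rw [Nat.card_congr ((P₀ : Subgroup M).equivMapOfInjective M.subtype M.subtype_injective).symm.toEquiv,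
      P₀.card_eq_multiplicity]

/-- The normalizer of a maximal subgroup. -/
theorem shapeA (h : P3 x) {M P : Subgroup G} (hM : Max x M) (hPM : P ≤ M)
    (hP1 : P ≠ ⊥) (hMP : M ≤ Subgroup.normalizer (P : Set G)) (hxP : Inv' x P) (hP : ¬ IsPGroup 2 M ∨ P = M) :
    (∀ (K : Subgroup G) (y : G), orderOf y = 3 → y ∈ Subgroup.normalizer (P : Set G) → Three' K → Inv' y K →
        K ≤ Subgroup.normalizer (P : Set G) → K ≤ M) ∧
      Subgroup.normalizer (P : Set G) ≤ Subgroup.normalizer (M : Set G) ∧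
      (Nat.card (Subgroup.normalizer (P : Set G)) = 3 * Nat.card M ∨
        Nat.card (Subgroup.normalizer (P : Set G)) = 6 * Nat.card M) := by
  set H := Subgroup.normalizer (P : Set G) with hHdef
  have hP3 : Three' P := three'_mono hPM hM.three'
  have hxH : x ∈ H := inv'_iff_mem_normalizer.1 hxP
  have hs := h.loc' hP3 hxP hP1
  haveI : (P.subgroupOf H).Normal := Subgroup.normal_in_normalizer
  have hsub : ∀ {K : Subgroup G}, K ≤ H → Three' K → Three' (K.subgroupOf H) := fun hK h3 e =>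
    h3 (by rwa [Nat.card_congr (Subgroup.subgroupOfEquivOfLe hK).toEquiv] at e)
  have hP1' : P.subgroupOf H ≠ ⊥ := fun e => hP1 (by
    rw [Subgroup.subgroupOf_eq_bot] at e
    exact le_bot_iff.1 (fun k hk => e.le_bot ⟨hk, Subgroup.le_normalizer hk⟩))
  have hup : ∀ {N : Subgroup H}, N.Normal → Three' N → M.subgroupOf H ≤ N →
      N.map H.subtype = M := by
    intro N hN hN3 hle
    have h1 : M ≤ N.map H.subtype := fun k hk => ⟨⟨k, hMP hk⟩, hle hk, rfl⟩
    refine le_antisymm (hM.max _ (three'_map _ hN3) (inv'_iff_mem_normalizer.2 ?_) h1) h1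
    haveI := hN
    exact Subgroup.le_normalizer_map H.subtype ⟨⟨x, hxH⟩, by rw [Subgroup.normalizer_eq_top N]; trivial, rfl⟩
  have hxM : Inv' (⟨x, hxH⟩ : H) (M.subgroupOf H) := fun k => by
    simp only [Subgroup.mem_subgroupOf, Subgroup.coe_mul, Subgroup.coe_inv]
    exact hM.inv _
  rcases shape_of_tri hs (h.tri hP3 hxP hP1) (P.subgroupOf H) (hsub (Subgroup.le_normalizer) hP3) hP1'
    with ⟨N, hA⟩ | ⟨N, hB⟩
  · have hMN := hA.absorb (M.subgroupOf H) ⟨x, hxH⟩ hs.ord (hsub hMP hM.three') hxM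
    have he := hup hA.normal hA.three' hMN
    have hNe : N = M.subgroupOf H := le_antisymm (fun k hk => by
      rw [Subgroup.mem_subgroupOf, ← he]; exact ⟨k, hk, rfl⟩) hMN
    refine ⟨fun K y hy hyH hK hyK hKH k hk => ?_, fun g hg => ?_, ?_⟩
    · have := hA.absorb (K.subgroupOf H) ⟨y, hyH⟩ (by rw [Subgroup.orderOf_mk, hy]) (hsub hKH hK) (fun k => by
        simp only [Subgroup.mem_subgroupOf, Subgroup.coe_mul, Subgroup.coe_inv]; exact hyK _)
        (show (⟨k, hKH hk⟩ : H) ∈ K.subgroupOf H from hk)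
      rw [hNe] at this
      exact this
    · rw [← he]
      haveI := hA.normal
      exact Subgroup.le_normalizer_map H.subtype ⟨⟨g, hg⟩, by rw [Subgroup.normalizer_eq_top N]; trivial, rfl⟩
    · have h1 := N.card_mul_index
      rw [show Nat.card N = Nat.card M by rw [hNe, Nat.card_congr (Subgroup.subgroupOfEquivOfLe hMP).toEquiv]] at h1
      rcases hA.index with e | e <;> rw [e] at h1
      · left; rw [hHdef]; omega
      · right; rw [hHdef]; omega
  · exfalso
    have hM2' := hB.isPGroup hs (hsub hMP hM.three') hxM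
    have hM2 : IsPGroup 2 M :=
      hM2'.of_equiv (Subgroup.subgroupOfEquivOfLe hMP)
    have hPM' : P = M := hP.resolve_left (fun e => e hM2)
    haveI : (M.subgroupOf H).Normal := hPM' ▸ ‹(P.subgroupOf H).Normal›
    have hle := hB.normal_le hs (M.subgroupOf H) (hsub hMP hM.three')
    have he := hup hB.normal hB.three' hle
    obtain ⟨K, hK, hK3, hxK⟩ := hB.exists_bigger hs
    have h1 : M ≤ K.map H.subtype := he ▸ Subgroup.map_mono hK.le
    have h2 := hM.max _ (three'_map _ hK3) (inv'_map H.subtype hxK) h1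
    have : K.map H.subtype = N.map H.subtype := by rw [he]; exact le_antisymm h2 h1
    exact hK.ne (Subgroup.map_injective H.subtype_injective this).symm

theorem exists_full_part (h : P3 x) {M : Subgroup G} (hM : Max x M) (q : ℕ) [Fact q.Prime]
    (hq : q ∣ Nat.card M) : ∃ P, Part x M P q := by
  obtain ⟨P, hle, hp, hall, hnorm, hcard⟩ := exists_part h hM q
  have hqp : q.Prime := Fact.out
  have hP1 : P ≠ ⊥ := fun e => by
    rw [e, Subgroup.card_bot] at hcard
    have h0 := (hqp.factorization_pos_of_dvd Nat.card_pos.ne' hq)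
    have := Nat.one_lt_pow h0.ne' hqp.one_lt
    omega
  have hxP : Inv' x P := inv'_iff_mem_normalizer.2 (hnorm (inv'_iff_mem_normalizer.1 hM.inv))
  have hd : ¬ IsPGroup 2 M ∨ P = M := by
    by_cases h2 : IsPGroup 2 M
    · refine Or.inr (le_antisymm hle fun k hk => hall k hk ?_)
      obtain ⟨n, hn⟩ := h2 ⟨k, hk⟩
      obtain ⟨a, ha⟩ := IsPGroup.iff_card.1 (haveI := Fact.mk Nat.prime_two; h2)
      have hq2 : q = 2 := (Nat.prime_dvd_prime_iff_eq hqp Nat.prime_two).1 (hqp.dvd_of_dvd_pow (ha ▸ hq))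
      exact ⟨n, by rw [hq2]; exact congrArg Subtype.val hn⟩
    · exact Or.inl h2
  obtain ⟨ha, hb, hc⟩ := shapeA h hM hle hP1 (Subgroup.le_normalizer.trans hnorm) hxP hd
  have heq : Subgroup.normalizer (P : Set G) = Subgroup.normalizer (M : Set G) := le_antisymm hb hnorm
  rw [heq] at ha hc
  exact ⟨P, hle, hp, hall, hxP, heq, hc, ha, hcard, hP1⟩

theorem part_unique {y z : G} (hy : P3 y) (hz : P3 z) {M L P : Subgroup G} {q : ℕ} (hMm : Max y M) (hLm : Max z L)
    (hP : Part y M P q) (hQ : Part z L P q) : M = L := by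
  have hn : Subgroup.normalizer (M : Set G) = Subgroup.normalizer (L : Set G) := hP.norm.symm.trans hQ.norm
  refine le_antisymm (hQ.absorb M y hy.ord ?_ hMm.three' hMm.inv ?_) (hP.absorb L z hz.ord ?_ hLm.three' hLm.inv ?_)
  · rw [← hn]; exact inv'_iff_mem_normalizer.1 hMm.inv
  · rw [← hn]; exact Subgroup.le_normalizer
  · rw [hn]; exact inv'_iff_mem_normalizer.1 hLm.inv
  · rw [hn]; exact Subgroup.le_normalizer

/-- The normalizer of the subgroup generated by `x`. -/
abbrev axis (x : G) : Subgroup G := Subgroup.normalizer (Subgroup.zpowers x : Set G)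

theorem P3.zpowers_cases (h : P3 x) {y : G} (hy : y ∈ Subgroup.zpowers x) : y = 1 ∨ y = x ∨ y = x⁻¹ := by
  obtain ⟨k, rfl⟩ := Subgroup.mem_zpowers_iff.1 hy
  rw [← zpow_mod_orderOf, h.ord]
  have h1 := Int.emod_nonneg k (show ((3 : ℕ) : ℤ) ≠ 0 by norm_num)
  have h2 := Int.emod_lt_of_pos k (show (0 : ℤ) < ((3 : ℕ) : ℤ) by norm_num)
  set r := k % ((3 : ℕ) : ℤ)
  rcases (show r = 0 ∨ r = 1 ∨ r = 2 by omega) with e | e | e <;> rw [e]
  · simp
  · simp
  · right; right
    apply eq_inv_of_mul_eq_one_left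
    rw [show (2 : ℤ) = ((2 : ℕ) : ℤ) from rfl, zpow_natCast, ← pow_succ, h.pow_three]

theorem axis_of_conj {g : G} (hg : g * x * g⁻¹ = x ∨ g * x * g⁻¹ = x⁻¹) : g ∈ axis x :=
  Subgroup.mem_normalizer_iff_map_conj_eq.2 (by
    show (Subgroup.zpowers x).map (MulAut.conj g).toMonoidHom = Subgroup.zpowers x
    rw [MonoidHom.map_zpowers]
    show Subgroup.zpowers (g * x * g⁻¹) = _
    rcases hg with e | e <;> rw [e]
    exact Subgroup.zpowers_inv)

theorem P3.axis_cases (h : P3 x) {g : G} (hg : g ∈ axis x) : g * x * g⁻¹ = x ∨ g * x * g⁻¹ = x⁻¹ := by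
  rcases h.zpowers_cases ((Subgroup.mem_normalizer_iff.1 hg x).1 (Subgroup.mem_zpowers x)) with e | e
  · exact absurd (conj_eq_one_iff.1 e) h.ne_one
  · exact e

theorem P3.card_axis (h : P3 x) : Nat.card (axis x) ≤ 18 := by
  classical
  obtain ⟨t, -, ht⟩ := h.exists_inverting
  set C := Subgroup.centralizer ({x} : Set G)
  have key : ∀ g : axis x, (g : G) * x * (g : G)⁻¹ ≠ x → (g : G) * t ∈ C := fun g hne => by
    refine Subgroup.mem_centralizer_singleton_iff.2 (mul_inv_eq_iff_eq_mul.1 ?_)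
    rw [show (g : G) * t * x * ((g : G) * t)⁻¹ = (g : G) * (t * x * t⁻¹) * (g : G)⁻¹ by group, ht,
      show (g : G) * x⁻¹ * (g : G)⁻¹ = ((g : G) * x * (g : G)⁻¹)⁻¹ by group,
      (h.axis_cases g.2).resolve_left hne, inv_inv]
  have hle := Nat.card_le_card_of_injective (fun g : axis x => if hg : (g : G) * x * (g : G)⁻¹ = x
      then ((⟨g, Subgroup.mem_centralizer_singleton_iff.2 (mul_inv_eq_iff_eq_mul.1 hg)⟩ : C), true)
      else ((⟨(g : G) * t, key g hg⟩ : C), false)) fun a b e => by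
    simp only at e
    split_ifs at e with ha hb
    · exact Subtype.ext (congrArg (fun p : C × Bool => (p.1 : G)) e)
    · exact absurd (congrArg Prod.snd e) (by simp)
    · exact absurd (congrArg Prod.snd e) (by simp)
    · exact Subtype.ext (mul_right_cancel (congrArg (fun p : C × Bool => (p.1 : G)) e))
  rwa [Nat.card_prod, h.card_cent, show Nat.card Bool = 2 by simp] at hle

/-- Two maximal subgroups conjugate under the normalizer of the axis. -/
def Rel (x : G) (M L : Subgroup G) : Prop := ∃ g ∈ axis x, L = M.map (MulAut.conj g).toMonoidHom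

theorem Rel.refl (M : Subgroup G) : Rel x M M := ⟨1, one_mem _, by ext k; simp [mem_map_conj]⟩

theorem Rel.symm {M L : Subgroup G} (h : Rel x M L) : Rel x L M := by
  obtain ⟨g, hg, rfl⟩ := h
  exact ⟨g⁻¹, inv_mem hg, by rw [map_conj_mul, inv_mul_cancel]; ext k; simp [mem_map_conj]⟩

theorem Rel.max (h : P3 x) {M L : Subgroup G} (hr : Rel x M L) (hM : Max x M) : Max x L := by
  obtain ⟨g, hg, rfl⟩ := hr
  have h1 := hM.conj g
  rcases h.axis_cases hg with e | e
  · rwa [e] at h1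
  · rw [e] at h1
    refine ⟨h1.three', by simpa using inv'_inv h1.inv, h1.ne_bot, fun K hK hxK hle => ?_⟩
    exact h1.max K hK (inv'_inv hxK) hle

theorem rel_of_conj (h : P3 x) {M L : Subgroup G} (hL3 : Three' L) (hL1 : L ≠ ⊥) (hM : Inv' x M) (hL : Inv' x L)
    {g : G} (hg : M.map (MulAut.conj g).toMonoidHom = L) : Rel x M L := by
  set H := Subgroup.normalizer (L : Set G)
  have hxH : x ∈ H := inv'_iff_mem_normalizer.1 hL
  have hyH : g * x * g⁻¹ ∈ H := inv'_iff_mem_normalizer.1 (hg ▸ inv'_conj hM)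
  obtain ⟨k, hk⟩ := (h.loc' hL3 hL hL1).conj_zpowers (y := ⟨_, hyH⟩)
    (by rw [Subgroup.orderOf_mk, (h.conj g).ord])
  have hkx : (k.1⁻¹ * g) * x * (k.1⁻¹ * g)⁻¹ = x ∨ (k.1⁻¹ * g) * x * (k.1⁻¹ * g)⁻¹ = x⁻¹ := by
    have e : (k.1⁻¹ * g) * x * (k.1⁻¹ * g)⁻¹ = k.1⁻¹ * (g * x * g⁻¹) * k.1 := by group
    rcases hk with e' | e'
    · left
      have e'' := congrArg Subtype.val e'
      simp only [Subgroup.coe_mul, Subgroup.coe_inv] at e''
      rw [e, e'']; group
    · right
      have e'' := congrArg Subtype.val e'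
      simp only [Subgroup.coe_mul, Subgroup.coe_inv] at e''
      rw [e, e'']; group
  have hkL : L.map (MulAut.conj k.1⁻¹).toMonoidHom = L :=
    inv'_iff_map.1 (inv'_iff_mem_normalizer.2 (inv_mem k.2))
  exact ⟨k.1⁻¹ * g, axis_of_conj hkx, by rw [← map_conj_mul, hg, hkL]⟩

theorem rel_of_part (h : P3 x) {M L P Q : Subgroup G} {q : ℕ} (hMm : Max x M)
    (hLm : Max x L) (hP : Part x M P q) (hQ : Part x L Q q) {g : G}
    (hg : P.map (MulAut.conj g).toMonoidHom = Q) : Rel x M L :=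
  rel_of_conj h hLm.three' hLm.ne_bot hMm.inv hLm.inv
    (part_unique (h.conj g) h (hMm.conj g) hLm (hP.conj g) (hg ▸ hQ))

/-- The number of conjugates under the normalizer of the axis. -/
theorem orbit_bound (h : P3 x) {M : Subgroup G} (hM : Inv' x M) :
    Set.ncard {L | Rel x M L} * Nat.card (axis x ⊓ Subgroup.normalizer (M : Set G) : Subgroup G) ≤ 18 := by
  classical
  refine le_trans ?_ h.card_axis
  choose r hr hrL using fun L : {L : Subgroup G // Rel x M L} => L.2
  rw [← Nat.card_coe_set_eq, ← Nat.card_prod]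
  refine Nat.card_le_card_of_injective (fun p : {L : Subgroup G // Rel x M L} ×
    (axis x ⊓ Subgroup.normalizer (M : Set G) : Subgroup G) =>
      (⟨r p.1 * p.2.1, mul_mem (hr p.1) (Subgroup.mem_inf.1 p.2.2).1⟩ : axis x)) ?_
  rintro ⟨L, s⟩ ⟨L', s'⟩ e
  have e' : r L * s.1 = r L' * s'.1 := congrArg Subtype.val e
  have hs : ∀ s : (axis x ⊓ Subgroup.normalizer (M : Set G) : Subgroup G),
      M.map (MulAut.conj s.1).toMonoidHom = M := fun s =>
    inv'_iff_map.1 (inv'_iff_mem_normalizer.2 (Subgroup.mem_inf.1 s.2).2)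
  have hLL : L = L' := Subtype.ext (calc
    L.1 = M.map (MulAut.conj (r L * s.1)).toMonoidHom := by rw [← map_conj_mul, hs, ← hrL]
    _ = L'.1 := by rw [e', ← map_conj_mul, hs, ← hrL])
  subst hLL
  exact Prod.ext rfl (Subtype.ext (mul_left_cancel e'))

theorem orbit_le_six (h : P3 x) {M : Subgroup G} (hM : Inv' x M) : Set.ncard {L | Rel x M L} ≤ 6 := by
  have h1 := orbit_bound h hM
  have h3 : 3 ≤ Nat.card (axis x ⊓ Subgroup.normalizer (M : Set G) : Subgroup G) := by
    rw [← h.ord, ← Nat.card_zpowers]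
    exact Nat.le_of_dvd Nat.card_pos (Subgroup.card_dvd_of_le (le_inf Subgroup.le_normalizer
      (Subgroup.zpowers_le.2 (inv'_iff_mem_normalizer.1 hM))))
  nlinarith

theorem orbit_le_three (h : P3 x) {M : Subgroup G} (hM : Inv' x M) {g : G}
    (hgM : g ∈ Subgroup.normalizer (M : Set G)) (hg : g * x * g⁻¹ = x⁻¹) : Set.ncard {L | Rel x M L} ≤ 3 := by
  have h1 := orbit_bound h hM
  set S := axis x ⊓ Subgroup.normalizer (M : Set G)
  have hxS : Subgroup.zpowers x ≤ S := le_inf Subgroup.le_normalizer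
      (Subgroup.zpowers_le.2 (inv'_iff_mem_normalizer.1 hM))
  have hgS : g ∈ S := ⟨axis_of_conj (Or.inr hg), hgM⟩
  have hgx : g ∉ Subgroup.zpowers x := fun hgz => by
    obtain ⟨i, rfl⟩ := Subgroup.mem_zpowers_iff.1 hgz
    have e : x = x⁻¹ := by rw [← hg]; group
    have h2 : x ^ 2 = 1 := by rw [pow_two]; nth_rewrite 1 [e]; exact inv_mul_cancel x
    have := orderOf_dvd_of_pow_eq_one h2
    rw [h.ord] at this
    norm_num at this
  obtain ⟨k, hk⟩ := Subgroup.card_dvd_of_le hxS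
  rw [Nat.card_zpowers, h.ord] at hk
  have hlt : 3 < Nat.card S := lt_of_not_ge fun hle => hgx (by
    have e := Subgroup.eq_of_le_of_card_ge hxS (by rw [Nat.card_zpowers, h.ord]; exact hle)
    rw [e]; exact hgS)
  have h6 : 6 ≤ Nat.card S := by omega
  nlinarith

end CfsgLib.KFactNine
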