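import Cfsg.Agent.Lib.KFactNine.Classes

/-!
The possible orders of the maximal subgroups, and products of two of them.
-/

set_option autoImplicit false
set_option linter.unusedSectionVars false
set_option linter.style.haveILetI false

namespace CfsgLib.KFactNine

open CfsgLib.SelfCentThree

universe u

variable {G : Type u} [Group G] [Finite G] {x : G} {q a b : ℕ}

/-- The hypothesis on the order. -/
structure Ord (G : Type u) (q a b : ℕ) : Prop where
  /-- prime -/
  prime : q.Prime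
  /-- odd -/
  five : 5 ≤ q
  /-- the order -/
  card : Nat.card G = 9 * 2 ^ a * q ^ b

theorem Ord.ne_two (o : Ord G q a b) : q ≠ 2 := by have := o.five; omega

theorem Ord.ne_three (o : Ord G q a b) : q ≠ 3 := by have := o.five; omega

theorem Ord.dvd_form (o : Ord G q a b) {M : Subgroup G} (hM : Three' M) :
    ∃ i j, i ≤ a ∧ j ≤ b ∧ Nat.card M = 2 ^ i * q ^ j := by
  have hd : Nat.card M ∣ 9 * (2 ^ a * q ^ b) := by
    rw [← mul_assoc, ← o.card]; exact M.card_subgroup_dvd_card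
  have hco : Nat.Coprime (Nat.card M) 9 := by
    rw [show (9 : ℕ) = 3 ^ 2 by norm_num]
    exact (((Nat.prime_three.coprime_iff_not_dvd).2 hM).symm).pow_right 2
  obtain ⟨f₁, f₂, h1, h2, e⟩ := (Nat.dvd_mul).1 (hco.dvd_of_dvd_mul_left hd)
  obtain ⟨i, hi, rfl⟩ := (Nat.dvd_prime_pow Nat.prime_two).1 h1
  obtain ⟨j, hj, rfl⟩ := (Nat.dvd_prime_pow o.prime).1 h2
  exact ⟨i, j, hi, hj, e.symm⟩

theorem Ord.not_dvd_nine_two (o : Ord G q a b) : ¬ q ∣ 9 * 2 ^ a := fun hd => by
  rcases o.prime.dvd_mul.1 hd with e | e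
  · exact o.ne_three ((Nat.prime_dvd_prime_iff_eq o.prime Nat.prime_three).1
      (o.prime.dvd_of_dvd_pow (show q ∣ 3 ^ 2 from e)))
  · exact o.ne_two ((Nat.prime_dvd_prime_iff_eq o.prime Nat.prime_two).1 (o.prime.dvd_of_dvd_pow e))

theorem Ord.fact_q (o : Ord G q a b) : (Nat.card G).factorization q = b := by
  rw [o.card, Nat.factorization_mul (by positivity) (pow_ne_zero _ o.prime.ne_zero), Finsupp.add_apply,
    Nat.factorization_eq_zero_of_not_dvd o.not_dvd_nine_two, o.prime.factorization_pow, Finsupp.single_eq_same,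
    zero_add]

theorem Ord.fact_two (o : Ord G q a b) : (Nat.card G).factorization 2 = a := by
  rw [o.card, Nat.factorization_mul (by positivity) (pow_ne_zero _ o.prime.ne_zero), Finsupp.add_apply,
    Nat.factorization_mul (by norm_num) (by positivity), Finsupp.add_apply,
    Nat.factorization_eq_zero_of_not_dvd (show ¬ 2 ∣ 9 by norm_num), Nat.prime_two.factorization_pow,
    Finsupp.single_eq_same, o.prime.factorization_pow, Finsupp.single_eq_of_ne o.ne_two.symm]
  omega

/-- The odd part of a maximal subgroup is a Sylow subgroup. -/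
theorem odd_part (o : Ord G q a b) (h : P3 x) {M : Subgroup G} (hM : Max x M) (hd : q ∣ Nat.card M) :
    ∃ P, Part x M P q ∧ Nat.card P = q ^ b ∧ q ^ b % 3 = 1 ∧ (∀ T : Subgroup G, IsPGroup q T → P ≤ T → T = P) := by
  haveI := Fact.mk o.prime
  obtain ⟨P, hP⟩ := exists_full_part h hM q hd
  obtain ⟨T, hT⟩ := hP.pgroup.exists_le_sylow
  have he : (T : Subgroup G) = P := hP.sylow_odd hM o.ne_two T.2 hT
  have hc : Nat.card P = q ^ b := by rw [← he, T.card_eq_multiplicity, o.fact_q]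
  exact ⟨P, hP, hc, hc ▸ h.card_mod_three (three'_mono hP.le hM.three') hP.inv,
    fun S hS hle => hP.sylow_odd hM o.ne_two hS hle⟩

theorem odd_rel (o : Ord G q a b) (h : P3 x) {M L : Subgroup G} (hM : Max x M) (hL : Max x L)
    (hdM : q ∣ Nat.card M) (hdL : q ∣ Nat.card L) : Rel x M L := by
  haveI := Fact.mk o.prime
  obtain ⟨P, hP, hPc, -, -⟩ := odd_part o h hM hdM
  obtain ⟨Q, hQ, hQc, -, -⟩ := odd_part o h hL hdL
  let S : Sylow q G := Sylow.ofCard P (by rw [hPc, o.fact_q])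
  let T : Sylow q G := Sylow.ofCard Q (by rw [hQc, o.fact_q])
  obtain ⟨g, hg⟩ := MulAction.exists_smul_eq G S T
  refine rel_of_part h hM hL hP hQ (g := g) ?_
  have e := congrArg (fun U : Sylow q G => (U : Subgroup G)) hg
  exact e

/-- The exponent of two in a maximal subgroup of even order. -/
theorem two_shape (o : Ord G q a b) (h : P3 x) {M : Subgroup G} (hM : Max x M) (hd : 2 ∣ Nat.card M) :
    ∃ P i, Part x M P 2 ∧ Nat.card P = 2 ^ i ∧ (Nat.card M).factorization 2 = i ∧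
      (i = 2 ∨ (4 ≤ i ∧ i = if a % 2 = 0 then a else a - 1)) := by
  haveI := Fact.mk Nat.prime_two
  obtain ⟨P, hP⟩ := exists_full_part h hM 2 hd
  refine ⟨P, _, hP, hP.card, rfl, ?_⟩
  set i := (Nat.card M).factorization 2 with hi
  have hPc : Nat.card P = 2 ^ i := hP.card
  have hmod := h.card_mod_three (three'_mono hP.le hM.three') hP.inv
  have hev : i % 2 = 0 := by
    rw [hPc, ← Nat.div_add_mod i 2, pow_add, pow_mul, Nat.mul_mod, Nat.pow_mod] at hmod
    rcases Nat.mod_two_eq_zero_or_one i with e | e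
    · exact e
    · rw [e] at hmod; norm_num at hmod
  rcases hP.nine_card_four_pow h hM with e | e
  · left
    rw [hPc, show (4 : ℕ) = 2 ^ 2 from rfl] at e
    exact Nat.pow_right_injective le_rfl e
  right
  rw [hPc, show (16 : ℕ) = 2 ^ 4 from rfl] at e
  have h4 : 4 ≤ i := (Nat.pow_le_pow_iff_right (by norm_num)).1 e
  refine ⟨h4, ?_⟩
  obtain ⟨T, hT⟩ := hP.pgroup.exists_le_sylow
  have hTc : Nat.card (T : Subgroup G) = 2 ^ a := by rw [T.card_eq_multiplicity, o.fact_two]
  have hle : i ≤ a := by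
    have := hTc ▸ hPc ▸ Subgroup.card_dvd_of_le hT
    exact (Nat.pow_dvd_pow_iff_le_right (show 1 < 2 by norm_num)).1 this
  have hge : a ≤ i + 1 := by
    have := sylow_big h hM hP (hPc ▸ e) T.2 hT
    rw [hTc, hPc, ← pow_succ'] at this
    exact (Nat.pow_le_pow_iff_right (by norm_num)).1 this
  split_ifs with ha <;> omega

/-- Two maximal subgroups of even order are related when one part is large. -/
theorem big_rel (h : P3 x) {M L : Subgroup G} (hM : Max x M) (hL : Max x L)
    (h16 : 16 ∣ Nat.card M) (hd : 2 ∣ Nat.card L) : Rel x M L := by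
  by_contra hnr
  haveI := Fact.mk Nat.prime_two
  obtain ⟨P, hP⟩ := exists_full_part h hM 2 (dvd_trans (by norm_num) h16)
  obtain ⟨Q, hQ⟩ := exists_full_part h hL 2 hd
  have h4 := (nonrel_two h hM hL hP hQ hnr).1
  have h5 := (Nat.prime_two.pow_dvd_iff_le_factorization Nat.card_pos.ne').1 (show 2 ^ 4 ∣ Nat.card M from h16)
  have h6 := hP.card
  rw [h4, show (4 : ℕ) = 2 ^ 2 from rfl] at h6
  have := Nat.pow_right_injective le_rfl h6
  omega

/-- No exceptional shape of a two-local subgroup. -/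
def NoB (x : G) : Prop :=
  ∀ D : Subgroup G, IsPGroup 2 D → D ≠ ⊥ → Inv' x D →
    ∀ N : Subgroup (Subgroup.normalizer (D : Set G)), ¬ ShapeB (Subgroup.normalizer (D : Set G)) N

theorem noB_odd (h : P3 x) (hq : q.Prime) (hq2 : q ≠ 2) (hq3 : q ≠ 3) :
    ∀ D : Subgroup G, IsPGroup q D → D ≠ ⊥ → Inv' x D →
      ∀ N : Subgroup (Subgroup.normalizer (D : Set G)), ¬ ShapeB (Subgroup.normalizer (D : Set G)) N :=
  fun _ hD h1 hxD _ hB => shapeB_only_two h hq hq2 hD (three'_of_pgroup hq hq3 hD) hxD h1 hB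

theorem mem_part {M P : Subgroup G} {r : ℕ} (hP : Part x M P r) {k : G} (hk : k ∈ M) (hr : orderOf k = r) : k ∈ P :=
  hP.mem k hk ⟨1, by rw [pow_one, ← hr, pow_orderOf_eq_one]⟩

/-- Maximal subgroups with odd part meet trivially. -/
theorem odd_meet (o : Ord G q a b) (h : P3 x) {M L : Subgroup G} (hM : Max x M) (hL : Max x L)
    (hdM : q ∣ Nat.card M) (hdL : q ∣ Nat.card L) (h1 : M ⊓ L ≠ ⊥) : M = L := by
  haveI := Fact.mk o.prime
  obtain ⟨P, hP⟩ := exists_full_part h hM q hdM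
  obtain ⟨Q, hQ⟩ := exists_full_part h hL q hdL
  have hqTI := part_eq_of_inf h o.ne_three (noB_odd h o.prime o.ne_two o.ne_three)
  obtain ⟨i, j, -, -, hc⟩ := o.dvd_form (three'_mono (inf_le_left : M ⊓ L ≤ M) hM.three')
  by_cases hj : j = 0
  swap
  · obtain ⟨k, hk⟩ := exists_prime_orderOf_dvd_card' (G := (M ⊓ L : Subgroup G)) q
      (hc ▸ dvd_mul_of_dvd_right (dvd_pow_self q hj) _)
    have hk' : orderOf (k : G) = q := by rw [Subgroup.orderOf_coe, hk]
    refine hqTI M L P Q hM hL hP hQ fun e => ?_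
    have hmem : (k : G) ∈ P ⊓ Q := ⟨mem_part hP k.2.1 hk', mem_part hQ k.2.2 hk'⟩
    rw [e, Subgroup.mem_bot] at hmem
    rw [hmem, orderOf_one] at hk'
    exact o.prime.ne_one hk'.symm
  haveI := Fact.mk Nat.prime_two
  set Z := M ⊓ L with hZ
  have hZ2 : IsPGroup 2 Z := IsPGroup.of_card (n := i) (by rw [hc, hj, pow_zero, mul_one])
  have hxZ : Inv' x Z := inv'_inf hM.inv hL.inv
  haveI := h.nilpotent hM.three' hM.inv
  haveI := h.nilpotent hL.three' hL.inv
  have hcent : ∀ {K R : Subgroup G} [Group.IsNilpotent K], Z ≤ K → R ≤ K → IsPGroup q R →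
      R ≤ Subgroup.centralizer (Z : Set G) := by
    intro K R _ hZK hRK hR r hr
    refine Subgroup.mem_centralizer_iff.2 fun z hz => ?_
    obtain ⟨n, hn⟩ := hR ⟨r, hr⟩
    obtain ⟨m, hm⟩ := hZ2 ⟨z, hz⟩
    have hn' : r ^ q ^ n = 1 := congrArg Subtype.val hn
    have hm' : z ^ 2 ^ m = 1 := congrArg Subtype.val hm
    exact (commute_prime_pow o.ne_two.symm (hZK hz) (hRK hr) ⟨m, hm'⟩ ⟨n, hn'⟩).eq
  have hPC := hcent (K := M) inf_le_left hP.le hP.pgroup
  have hQC := hcent (K := L) inf_le_right hQ.le hQ.pgroup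
  obtain ⟨M', hM', hle⟩ := exists_max (three'_centralizer h hZ2 h1) (inv'_centralizer hxZ)
    fun e => hP.ne_bot (le_bot_iff.1 (e ▸ hPC))
  have hd' : q ∣ Nat.card M' := by
    obtain ⟨n, hn⟩ := IsPGroup.iff_card.1 hP.pgroup
    have : n ≠ 0 := fun e => hP.ne_bot (Subgroup.card_eq_one.1 (by rw [hn, e, pow_zero]))
    exact (hn ▸ dvd_pow_self q this).trans (Subgroup.card_dvd_of_le (hPC.trans hle))
  obtain ⟨R, hR⟩ := exists_full_part h hM' q hd'
  have key : ∀ {K S : Subgroup G}, Max x K → Part x K S q → S ≤ Subgroup.centralizer (Z : Set G) → K = M' := by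
    intro K S hK hS hSC
    refine hqTI K M' S R hK hM' hS hR fun e => hS.ne_bot (le_bot_iff.1 (e ▸ le_inf le_rfl fun s hs => ?_))
    exact hR.mem s (hle (hSC hs)) (by
      obtain ⟨n, hn⟩ := hS.pgroup ⟨s, hs⟩
      exact ⟨n, congrArg Subtype.val hn⟩)
  exact (key hM hP hPC).trans (key hL hQ hQC).symm

/-- Maximal two-subgroups meet trivially unless the exceptional shape occurs. -/
theorem two_meet (h : P3 x) (hB : NoB x) {M L : Subgroup G} (hM : Max x M) (hL : Max x L)
    {i : ℕ} (hi : i ≠ 0) (hMc : Nat.card M = 2 ^ i) (hLc : Nat.card L = 2 ^ i) (h1 : M ⊓ L ≠ ⊥) : M = L := by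
  haveI := Fact.mk Nat.prime_two
  have hpart : ∀ {K : Subgroup G}, Max x K → Nat.card K = 2 ^ i → Part x K K 2 := by
    intro K hK hc
    obtain ⟨P, hP⟩ := exists_full_part h hK 2 (hc ▸ dvd_pow_self 2 hi)
    have e : P = K := Subgroup.eq_of_le_of_card_ge hP.le (by
      rw [hP.card, hc, Nat.prime_two.factorization_pow, Finsupp.single_eq_same])
    rwa [e] at hP
  exact part_eq_of_inf h (by norm_num) hB M L M L hM hL (hpart hM hMc) (hpart hL hLc) h1

theorem sq_le_of_meet (h : P3 x) {M P : Subgroup G} {r : ℕ} (hM : Max x M) (hP : Part x M P r)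
    (hti : ∀ L, Max x L → Rel x M L → M ⊓ L ≠ ⊥ → M = L) : Nat.card M ^ 2 ≤ Nat.card G := by
  obtain ⟨L, hL, hr, hne⟩ := h.exists_other hM hP
  exact sq_le_of_trivial hr.card (by_contra fun h1 => hne (hti L hL hr h1).symm)

end CfsgLib.KFactNine
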