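import Cfsg.Agent.Lib.KFactNine.Two

/-!
Parts of different maximal subgroups meet trivially, and a small faithful representation excludes the
exceptional shape of a two-local subgroup.
-/

set_option autoImplicit false
set_option linter.unusedSectionVars false

namespace CfsgLib.KFactNine

open CfsgLib.SelfCentThree
open scoped commutatorElement

universe u

variable {G : Type u} [Group G] [Finite G] {x : G}

theorem three'_of_pgroup {q : ℕ} (hq : q.Prime) (hq3 : q ≠ 3) {D : Subgroup G} (hD : IsPGroup q D) : Three' D :=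
  fun h3 => by
    haveI := Fact.mk hq
    obtain ⟨n, hn⟩ := IsPGroup.iff_card.1 hD
    exact hq3 ((Nat.prime_dvd_prime_iff_eq Nat.prime_three hq).1 (Nat.prime_three.dvd_of_dvd_pow (hn ▸ h3))).symm

theorem shapeB_five (H : Subgroup G) {N : Subgroup H} (hB : ShapeB H N) : 5 ∣ Nat.card G := by
  haveI := hB.normal
  obtain ⟨e⟩ := hB.quot
  have h60 : Nat.card (alternatingGroup (Fin 5)) = 60 := by rw [Nat.card_eq_fintype_card]; decide +kernel
  refine (show 5 ∣ 60 by norm_num).trans ((?_ : 60 ∣ Nat.card H).trans H.card_subgroup_dvd_card)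
  rw [← h60, ← Nat.card_congr e.toEquiv]
  exact Subgroup.card_quotient_dvd_card N

/-- The exceptional shape needs the prime two and a factor five. -/
theorem shapeB_only_two (h : P3 x) {q : ℕ} (hq : q.Prime) (hq2 : q ≠ 2) {D : Subgroup G} (hD : IsPGroup q D)
    (hD3 : Three' D) (hxD : Inv' x D) (hD1 : D ≠ ⊥) {N : Subgroup (Subgroup.normalizer (D : Set G))}
    (hB : ShapeB (Subgroup.normalizer (D : Set G)) N) : False := by
  haveI : (D.subgroupOf (Subgroup.normalizer (D : Set G))).Normal := Subgroup.normal_in_normalizer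
  have hle := hB.normal_le (h.loc' hD3 hxD hD1) (D.subgroupOf (Subgroup.normalizer (D : Set G))) (fun e => hD3
    (by rwa [Nat.card_congr (Subgroup.subgroupOfEquivOfLe Subgroup.le_normalizer).toEquiv] at e))
  refine hD1 ((Subgroup.eq_bot_iff_forall D).2 fun d hd => ?_)
  have h2 := hB.sq _ (hle (show (⟨d, Subgroup.le_normalizer hd⟩ : Subgroup.normalizer (D : Set G)) ∈
    D.subgroupOf _ from hd))
  obtain ⟨n, hn⟩ := hD ⟨d, hd⟩
  have hn' : d ^ q ^ n = 1 := congrArg Subtype.val hn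
  have h2' : d ^ 2 = 1 := congrArg Subtype.val h2
  have hg := Nat.dvd_gcd (orderOf_dvd_of_pow_eq_one hn') (orderOf_dvd_of_pow_eq_one h2')
  rw [(Nat.Coprime.pow_left n ((Nat.coprime_primes hq Nat.prime_two).2 hq2)).gcd_eq_one] at hg
  exact orderOf_eq_one_iff.1 (Nat.dvd_one.1 hg)

/-- Parts of unequal maximal subgroups meet trivially. -/
theorem part_eq_of_inf (h : P3 x) {q : ℕ} [Fact q.Prime] (hq3 : q ≠ 3)
    (hB : ∀ D : Subgroup G, IsPGroup q D → D ≠ ⊥ → Inv' x D →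
      ∀ N : Subgroup (Subgroup.normalizer (D : Set G)), ¬ ShapeB (Subgroup.normalizer (D : Set G)) N) :
    ∀ (M L P Q : Subgroup G), Max x M → Max x L → Part x M P q → Part x L Q q → P ⊓ Q ≠ ⊥ → M = L := by
  suffices main : ∀ k (M L P Q : Subgroup G), Nat.card G - Nat.card (P ⊓ Q : Subgroup G) = k → Max x M → Max x L →
      Part x M P q → Part x L Q q → P ⊓ Q ≠ ⊥ → M = L from fun M L P Q => main _ M L P Q rfl
  intro k
  induction k using Nat.strong_induction_on with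
  | _ k ih =>
  intro M L P Q hk hM hL hP hQ h1
  subst hk
  have hqp : q.Prime := Fact.out
  set D := P ⊓ Q with hD
  have hDp : IsPGroup q D := hP.pgroup.to_le inf_le_left
  have hD3 := three'_of_pgroup hqp hq3 hDp
  have hxD : Inv' x D := inv'_inf hP.inv hQ.inv
  set H := Subgroup.normalizer (D : Set G) with hH
  have hxH : x ∈ H := inv'_iff_mem_normalizer.1 hxD
  have hs := h.loc' hD3 hxD h1
  -- the degenerate case
  have degen : ∀ {M' L' P' Q' : Subgroup G}, Max x M' → Max x L' → Part x M' P' q → Part x L' Q' q →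
      P' ≤ Q' → M' = L' := by
    intro M' L' P' Q' hM' hL' hP' hQ' hle
    rcases hle.eq_or_lt with e | hlt
    · subst e; exact part_unique h h hM' hL' hP' hQ'
    exfalso
    have h2 := normalizer_grows hQ'.pgroup hlt
    have h3 := hP'.absorb (Q' ⊓ Subgroup.normalizer (P' : Set G)) x h.ord (inv'_iff_mem_normalizer.1 hM'.inv)
      (three'_of_pgroup hqp hq3 (hQ'.pgroup.to_le inf_le_left)) (inv'_inf hQ'.inv (inv'_normalizer hP'.inv))
      (inf_le_right.trans hP'.norm.le)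
    exact h2.not_ge fun k hk => hP'.mem k (h3 hk) (by
      obtain ⟨n, hn⟩ := hQ'.pgroup ⟨k, (Subgroup.mem_inf.1 hk).1⟩
      exact ⟨n, congrArg Subtype.val hn⟩)
  rcases (inf_le_left : D ≤ P).eq_or_lt with e | hPlt
  · exact degen hM hL hP hQ (e ▸ inf_le_right)
  rcases (inf_le_right : D ≤ Q).eq_or_lt with e | hQlt
  · exact (degen hL hM hQ hP (e ▸ inf_le_left)).symm
  -- both grow inside the normalizer of the intersection
  haveI : (D.subgroupOf H).Normal := Subgroup.normal_in_normalizer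
  have hD3' : Three' (D.subgroupOf H) := fun e => hD3
    (by rwa [Nat.card_congr (Subgroup.subgroupOfEquivOfLe Subgroup.le_normalizer).toEquiv] at e)
  have hD1' : D.subgroupOf H ≠ ⊥ := fun e => h1 (by
    rw [Subgroup.subgroupOf_eq_bot] at e
    exact le_bot_iff.1 fun k hk => e.le_bot ⟨hk, Subgroup.le_normalizer hk⟩)
  obtain ⟨N, hA⟩ := (shape_of_tri hs (h.tri hD3 hxD h1) (D.subgroupOf H) hD3' hD1').resolve_right
    fun ⟨N, hN⟩ => hB D hDp h1 hxD N hN
  have hgr : ∀ {P' : Subgroup G}, IsPGroup q P' → Inv' x P' → P' ⊓ H ≤ N.map H.subtype := by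
    intro P' hP' hxP' w hw
    refine ⟨⟨w, (Subgroup.mem_inf.1 hw).2⟩, ?_, rfl⟩
    refine hA.absorb ((P' ⊓ H).subgroupOf H) ⟨x, hxH⟩ hs.ord (fun e => ?_) (fun k => ?_) (Subgroup.mem_subgroupOf.2 hw)
    · rw [Nat.card_congr (Subgroup.subgroupOfEquivOfLe inf_le_right).toEquiv] at e
      exact three'_of_pgroup hqp hq3 (hP'.to_le inf_le_left) e
    · simp only [Subgroup.mem_subgroupOf, Subgroup.coe_mul, Subgroup.coe_inv]
      exact inv'_inf hxP' (inv'_normalizer hxD) _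
  have hN3 : Three' (N.map H.subtype) := three'_map _ hA.three'
  have hxN : Inv' x (N.map H.subtype) := inv'_iff_mem_normalizer.2 (by
    haveI := hA.normal
    exact Subgroup.le_normalizer_map H.subtype ⟨⟨x, hxH⟩, by rw [Subgroup.normalizer_eq_top N]; trivial, rfl⟩)
  have hPN := hgr hP.pgroup hP.inv
  have hDN : D ≤ N.map H.subtype := fun d hd => hPN ⟨(Subgroup.mem_inf.1 hd).1, Subgroup.le_normalizer hd⟩
  obtain ⟨M', hM', hle⟩ := exists_max hN3 hxN fun e => h1 (le_bot_iff.1 (e ▸ hDN))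
  have hqM' : q ∣ Nat.card M' := by
    obtain ⟨n, hn⟩ := IsPGroup.iff_card.1 hDp
    have : n ≠ 0 := fun e => h1 (Subgroup.card_eq_one.1 (by rw [hn, e, pow_zero]))
    exact (hn ▸ dvd_pow_self q this).trans (Subgroup.card_dvd_of_le (hDN.trans hle))
  obtain ⟨R, hR⟩ := exists_full_part h hM' q hqM'
  have key : ∀ {L' Q' : Subgroup G}, Max x L' → Part x L' Q' q → D < Q' → L' = M' := by
    intro L' Q' hL' hQ' hlt
    have hgrow := normalizer_grows hQ'.pgroup hlt
    have hle' : Q' ⊓ H ≤ Q' ⊓ R := le_inf inf_le_left fun w hw =>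
      hR.mem w (hle (hgr hQ'.pgroup hQ'.inv hw)) (by
        obtain ⟨n, hn⟩ := hQ'.pgroup ⟨w, (Subgroup.mem_inf.1 hw).1⟩
        exact ⟨n, congrArg Subtype.val hn⟩)
    have hlt' : D < Q' ⊓ R := lt_of_lt_of_le hgrow hle'
    have hc : Nat.card D < Nat.card (Q' ⊓ R : Subgroup G) := lt_of_not_ge fun e =>
      hlt'.ne (Subgroup.eq_of_le_of_card_ge hlt'.le e)
    have hG := (Q' ⊓ R).card_le_card_group
    refine ih _ ?_ L' M' Q' R rfl hL' hM' hQ' hR fun e => h1 (le_bot_iff.1 (e ▸ hlt'.le))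
    omega
  exact (key hM hP hPlt).trans (key hL hQ hQlt).symm

set_option maxRecDepth 100000 in
theorem a5_product : ∀ σ : alternatingGroup (Fin 5), σ ^ 4 = 1 → σ ≠ 1 →
    ∃ g : alternatingGroup (Fin 5), (σ * (g * σ * g⁻¹)) ^ 3 = 1 ∧ σ * (g * σ * g⁻¹) ≠ 1 := by
  decide +kernel

/-- Vectors with pairwise distinct systems of eigenvalues are independent. -/
theorem eigen_indep {V : Type*} [AddCommGroup V] [Module ℂ V] {ι κ : Type*} [Fintype ι] (A : κ → Module.End ℂ V)
    (e : ι → V) (c : ι → κ → ℂ) (he : ∀ i, e i ≠ 0) (hA : ∀ i k, A k (e i) = c i k • e i)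
    (hc : ∀ i j, i ≠ j → ∃ k, c i k ≠ c j k) : LinearIndependent ℂ e := by
  classical
  rw [linearIndependent_iff']
  intro s
  induction s using Finset.induction_on with
  | empty => simp
  | insert j s hj ih =>
    intro r hr
    rw [Finset.sum_insert hj] at hr
    have hs : ∀ i ∈ s, r i = 0 := by
      intro i hi
      obtain ⟨k, hk⟩ := hc i j fun e => hj (e ▸ hi)
      have h1 := congrArg (A k) hr
      rw [map_add, map_zero, map_smul, hA, map_sum, smul_smul] at h1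
      have h2 : ∑ l ∈ s, (r l * (c l k - c j k)) • e l = 0 := by
        have h3 := congrArg (c j k • ·) hr
        simp only [smul_add, smul_zero, smul_smul, Finset.smul_sum] at h3
        rw [mul_comm (c j k) (r j)] at h3
        calc ∑ l ∈ s, (r l * (c l k - c j k)) • e l
            = ∑ l ∈ s, A k (r l • e l) - ∑ l ∈ s, (c j k * r l) • e l := by
              rw [← Finset.sum_sub_distrib]
              refine Finset.sum_congr rfl fun l _ => ?_
              rw [map_smul, hA, smul_smul, ← sub_smul]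
              congr 1; ring
          _ = ((r j * c j k) • e j + ∑ l ∈ s, A k (r l • e l)) - ((r j * c j k) • e j + ∑ l ∈ s, (c j k * r l) • e l) := by
              abel
          _ = 0 := by rw [h1, h3, sub_zero]
      exact (mul_eq_zero.1 (ih _ h2 i hi)).resolve_right (sub_ne_zero.2 hk)
    intro i hi
    rcases Finset.mem_insert.1 hi with rfl | hi
    · rw [Finset.sum_eq_zero fun l hl => by rw [hs l hl, zero_smul], add_zero] at hr
      exact (smul_eq_zero.1 hr).resolve_right (he _)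
    · exact hs i hi

/-- Commuting involutions have a common eigenvector. -/
theorem common_sign {V : Type*} [AddCommGroup V] [Module ℂ V] {κ : Type*} (A : κ → Module.End ℂ V)
    (h2 : ∀ k v, A k (A k v) = v) (hc : ∀ k l v, A k (A l v) = A l (A k v)) {v₀ : V} (hv₀ : v₀ ≠ 0) {k₀ : κ}
    (hk₀ : A k₀ v₀ = -v₀) (s : Finset κ) :
    ∃ v, v ≠ 0 ∧ A k₀ v = -v ∧ ∀ k ∈ s, ∃ c : ℂ, A k v = c • v := by
  classical
  induction s using Finset.induction_on with
  | empty => exact ⟨v₀, hv₀, hk₀, by simp⟩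
  | insert j s hj ih =>
    obtain ⟨v, hv, hk, hs⟩ := ih
    by_cases h0 : v + A j v = 0
    · refine ⟨v, hv, hk, fun k hk' => ?_⟩
      rcases Finset.mem_insert.1 hk' with rfl | hk'
      · exact ⟨-1, by rw [neg_one_smul]; exact eq_neg_of_add_eq_zero_right h0⟩
      · exact hs k hk'
    · refine ⟨v + A j v, h0, by rw [map_add, hc, hk, map_neg]; abel, fun k hk' => ?_⟩
      rcases Finset.mem_insert.1 hk' with rfl | hk'
      · exact ⟨1, by rw [map_add, h2, one_smul, add_comm]⟩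
      · obtain ⟨c, hcv⟩ := hs k hk'
        exact ⟨c, by rw [map_add, hc, hcv, map_smul, smul_add]⟩

/-- A faithful representation in the presence of the exceptional shape has degree at least nine. -/
theorem nine_le_dim (h : P3 x) {D : Subgroup G} (hxD : Inv' x D) (hD3 : Three' D) (hD1 : D ≠ ⊥)
    {N₁ : Subgroup (Subgroup.normalizer (D : Set G))} (hB₁ : ShapeB (Subgroup.normalizer (D : Set G)) N₁)
    {d : ℕ} (ρ : Representation ℂ G (Fin d → ℂ)) (hf : ∀ g, ρ g = 1 → g = 1) : 9 ≤ d := by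
  classical
  obtain ⟨H, hH, N₀, hB⟩ : ∃ H : Subgroup G, H = Subgroup.normalizer (D : Set G) ∧ ∃ N : Subgroup H, ShapeB H N :=
    ⟨_, rfl, N₁, hB₁⟩
  have hxH : x ∈ H := hH.symm ▸ inv'_iff_mem_normalizer.1 hxD
  have hs := h.loc hD3 hD1 hH.le hxH
  haveI := hB.normal
  obtain ⟨e⟩ := hB.quot
  set f : H →* alternatingGroup (Fin 5) := e.toMonoidHom.comp (QuotientGroup.mk' N₀) with hfdef
  have hker : ∀ g, f g = 1 → g ∈ N₀ := fun g hg => by
    rw [← QuotientGroup.eq_one_iff]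
    exact e.injective (by simpa [f] using hg)
  have hker' : ∀ g ∈ N₀, f g = 1 := fun g hg => by
    simp [f, (QuotientGroup.eq_one_iff g).2 hg]
  have hsurj : Function.Surjective f := e.surjective.comp (QuotientGroup.mk'_surjective N₀)
  obtain ⟨K, hK, hK3, hxK⟩ := hB.exists_bigger hs
  set N := N₀.map H.subtype with hN
  set U := K.map H.subtype with hU
  have hU2 : IsPGroup 2 U := (hB.isPGroup hs hK3 hxK).map _
  have hN3 : Three' N := three'_map _ hB.three'
  have hxN : Inv' x N := inv'_iff_mem_normalizer.2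
    (Subgroup.le_normalizer_map H.subtype ⟨⟨x, hxH⟩, by rw [Subgroup.normalizer_eq_top N₀]; trivial, rfl⟩)
  have hxU : Inv' x U := inv'_map H.subtype hxK
  have hNU : N ≤ U := Subgroup.map_mono hK.le
  have hNsq : ∀ n ∈ N, n * n = 1 := by
    rintro _ ⟨n, hn, rfl⟩
    have := congrArg Subtype.val (hB.sq n hn)
    rw [← pow_two]; simpa using this
  have hNinv : ∀ n ∈ N, n⁻¹ = n := fun n hn => inv_eq_of_mul_eq_one_right (hNsq n hn)
  have hNcomm : ∀ n ∈ N, ∀ m ∈ N, n * m = m * n := fun n hn m hm => by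
    have := hNinv _ (mul_mem hn hm)
    rwa [mul_inv_rev, hNinv n hn, hNinv m hm, eq_comm] at this
  have hnormN : ∀ g : H, ∀ n ∈ N, (g : G) * n * (g : G)⁻¹ ∈ N := by
    rintro g _ ⟨n, hn, rfl⟩
    exact ⟨g * n * g⁻¹, hB.normal.conj_mem n hn g, by simp⟩
  set L := N ⊓ Subgroup.centralizer (U : Set G) with hL
  have hcomL : ∀ n ∈ N, ∀ w ∈ U, ⁅n, w⁆ ∈ L := by
    intro n hn w hw
    obtain ⟨w₀, -, rfl⟩ := id hw
    refine ⟨?_, Subgroup.mem_centralizer_iff.2 fun c hc => (h.class_two hU2 hxU (hNU hn) hw hc).eq⟩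
    rw [commutatorElement_def, show n * H.subtype w₀ * n⁻¹ * (H.subtype w₀)⁻¹ =
      n * (H.subtype w₀ * n⁻¹ * (H.subtype w₀)⁻¹) by group]
    exact mul_mem hn (hnormN w₀ _ (inv_mem hn))
  -- the commutator with an element outside the kernel is onto
  have hsur : ∀ w ∈ U, w ∉ N → ∀ l ∈ L, ∃ n ∈ N, ⁅n, w⁆ = l := by
    intro w hw hwN
    obtain ⟨w₀, hw₀, rfl⟩ := id hw
    have hσ1 : f w₀ ≠ 1 := fun e1 => hwN ⟨w₀, hker _ e1, rfl⟩
    have hσ4 : f w₀ ^ 4 = 1 := by
      obtain ⟨n, hn⟩ := two_elt hU2 hw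
      have h1 : f w₀ ^ 2 ^ n = 1 := by rw [← map_pow, show w₀ ^ 2 ^ n = 1 from Subtype.ext (by simpa using hn), map_one]
      have h60 : Nat.card (alternatingGroup (Fin 5)) = 60 := by rw [Nat.card_eq_fintype_card]; decide +kernel
      have hd := Nat.dvd_gcd (orderOf_dvd_of_pow_eq_one h1) (h60 ▸ orderOf_dvd_natCard (f w₀))
      refine orderOf_dvd_iff_pow_eq_one.1 (hd.trans ?_)
      obtain ⟨j, hj, hj'⟩ := (Nat.dvd_prime_pow Nat.prime_two).1 (Nat.gcd_dvd_left (2 ^ n) 60)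
      rw [hj']
      have h60' : 2 ^ j ∣ 60 := hj' ▸ Nat.gcd_dvd_right (2 ^ n) 60
      have hj2 : j ≤ 2 := by
        by_contra h3
        have := (pow_dvd_pow 2 (show 3 ≤ j by omega)).trans h60'
        norm_num at this
      exact pow_dvd_pow 2 hj2
    obtain ⟨g₁, hg3, hg1⟩ := a5_product _ hσ4 hσ1
    obtain ⟨g₀, rfl⟩ := hsurj g₁
    set w₁ := g₀ * w₀ * g₀⁻¹ with hw₁
    set dd := w₀ * w₁ with hdd
    have hfd : f dd = f w₀ * (f g₀ * f w₀ * (f g₀)⁻¹) := by simp [hdd, hw₁]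
    have hd6 : (((dd ^ 2) ^ 3 : H) : G) = 1 := by
      have h3 := hB.sq _ (hker (dd ^ 3) (by rw [map_pow, hfd, hg3]))
      rw [← pow_mul, show 2 * 3 = 3 * 2 from rfl, pow_mul, h3]; rfl
    have hd1 : ((dd ^ 2 : H) : G) ≠ 1 := fun e1 => hg1 (by
      have e2 : dd ^ 2 = 1 := Subtype.ext e1
      have e3 : f dd ^ 2 = 1 := by rw [← map_pow, e2, map_one]
      rw [hfd] at e3
      rw [pow_succ, e3, one_mul] at hg3
      exact hg3)
    have hp3 := h.of_three (k := ((dd ^ 2 : H) : G)) (by simpa using hd6) hd1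
    set C := N ⊓ Subgroup.centralizer ({(w₀ : G)} : Set G) with hC
    set C' := C.map (MulAut.conj (g₀ : G)).toMonoidHom with hC'
    have hC'N : C' ≤ N := by
      rintro _ ⟨c, hc, rfl⟩
      exact hnormN g₀ c (Subgroup.mem_inf.1 hc).1
    have hint : ∀ c ∈ C, c ∈ C' → c = 1 := by
      intro c hc hc'
      obtain ⟨hcN, hcw⟩ := Subgroup.mem_inf.1 hc
      have hc0 : Commute c (w₀ : G) := Subgroup.mem_centralizer_singleton_iff.1 hcw
      have hc1 : Commute c (w₁ : G) := by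
        obtain ⟨c', hc'', rfl⟩ := hc'
        have : Commute c' (w₀ : G) := Subgroup.mem_centralizer_singleton_iff.1 (Subgroup.mem_inf.1 hc'').2
        have := this.map (MulAut.conj (g₀ : G)).toMonoidHom
        simpa [hw₁] using this
      refine hp3.fpf hN3 c hcN ?_
      rw [SubmonoidClass.coe_pow, hdd, Subgroup.coe_mul]
      exact ((hc0.mul_right hc1).pow_right 2).symm
    have hsq : Nat.card C * Nat.card C ≤ Nat.card N := by
      have := Nat.card_le_card_of_injective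
        (fun p : C × C' => (⟨p.1.1 * p.2.1, mul_mem (Subgroup.mem_inf.1 p.1.2).1 (hC'N p.2.2)⟩ : N)) (by
        rintro ⟨a, b⟩ ⟨a', b'⟩ e'
        have e1 : a.1 * b.1 = a'.1 * b'.1 := congrArg Subtype.val e'
        have e2 : a'.1⁻¹ * a.1 = b'.1 * b.1⁻¹ := by
          rw [inv_mul_eq_iff_eq_mul, ← mul_assoc, ← e1, mul_inv_cancel_right]
        have h1 := hint _ (mul_mem (inv_mem a'.2) a.2) (e2 ▸ mul_mem b'.2 (inv_mem b.2))
        rw [Prod.mk.injEq]
        refine ⟨Subtype.ext (inv_mul_eq_one.1 h1).symm, Subtype.ext ?_⟩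
        rw [e2, mul_inv_eq_one] at h1
        exact h1.symm)
      rwa [Nat.card_prod, show Nat.card C' = Nat.card C from map_conj_card _ C] at this
    let φ : N →* L :=
      { toFun := fun n => ⟨⁅(n : G), H.subtype w₀⁆, hcomL n n.2 _ hw⟩
        map_one' := Subtype.ext (commutatorElement_one_left _)
        map_mul' := fun n m => Subtype.ext (by
          show ⁅(n : G) * (m : G), H.subtype w₀⁆ = ⁅(n : G), H.subtype w₀⁆ * ⁅(m : G), H.subtype w₀⁆
          rw [show ⁅(n : G) * (m : G), H.subtype w₀⁆ = (n : G) * ⁅(m : G), H.subtype w₀⁆ * (n : G)⁻¹ * ⁅(n : G), H.subtype w₀⁆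
            by simp only [commutatorElement_def]; group,
            hNcomm _ n.2 _ (Subgroup.mem_inf.1 (hcomL _ m.2 _ hw)).1, mul_inv_cancel_right]
          exact hNcomm _ (Subgroup.mem_inf.1 (hcomL _ m.2 _ hw)).1 _ (Subgroup.mem_inf.1 (hcomL _ n.2 _ hw)).1) }
    have hk : Nat.card φ.ker ≤ Nat.card C := Nat.card_le_card_of_injective
      (fun k => (⟨(k.1 : G), k.1.2, Subgroup.mem_centralizer_singleton_iff.2
        (commutatorElement_eq_one_iff_commute.1 (congrArg Subtype.val (MonoidHom.mem_ker.1 k.2))).eq⟩ : C))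
      fun a b e' => Subtype.ext (Subtype.ext (congrArg (fun c : C => (c : G)) e'))
    have hLC : Nat.card L ≤ Nat.card C := Nat.card_le_card_of_injective _ (Subgroup.inclusion_injective
      (show L ≤ C from fun l hl => ⟨(Subgroup.mem_inf.1 hl).1, Subgroup.mem_centralizer_singleton_iff.2
        (Subgroup.mem_centralizer_iff.1 (Subgroup.mem_inf.1 hl).2 _ hw).symm⟩))
    have hrange : φ.range = ⊤ := by
      refine Subgroup.eq_top_of_le_card _ ?_
      have h1 := φ.ker.card_mul_index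
      rw [Subgroup.index_ker] at h1
      have h2 : 0 < Nat.card C := Nat.card_pos
      have h3 : Nat.card C * Nat.card C ≤ Nat.card C * Nat.card φ.range :=
        le_trans hsq (by rw [← h1]; exact Nat.mul_le_mul_right _ hk)
      exact hLC.trans (Nat.le_of_mul_le_mul_left h3 h2)
    intro l hl
    obtain ⟨n, hn⟩ := MonoidHom.range_eq_top.1 hrange ⟨l, hl⟩
    exact ⟨n, n.2, congrArg Subtype.val hn⟩
  obtain ⟨u, hu, huN⟩ : ∃ u ∈ U, u ∉ N := SetLike.not_le_iff_exists.1 fun hle => hK.not_ge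
    ((Subgroup.map_le_map_iff_of_injective H.subtype_injective).1 hle)
  set u' := x * u * x⁻¹ with hu'
  have hu'U : u' ∈ U := (hxU u).1 hu
  have hu'N : u' ∉ N := fun hh => huN ((hxN u).2 hh)
  have huu' : u⁻¹ * u' ∉ N := by
    intro hh
    obtain ⟨n, hn, en⟩ := h.preimage hN3 hxN hh
    have hc : Commute x (u * n⁻¹) := by
      have e3 : u' = u * (n⁻¹ * (x * n * x⁻¹)) := by rw [en, mul_inv_cancel_left]
      calc x * (u * n⁻¹) = u' * (x * n⁻¹ * x⁻¹) * x := by rw [hu']; group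
        _ = u * n⁻¹ * x := by rw [e3]; group
    have h1 := h.fpf (three'_bot_two hU2) _ (mul_mem hu (inv_mem (hNU hn))) hc
    exact huN (by rw [mul_inv_eq_one.1 h1]; exact hn)
  -- an element of L and a common eigenvector
  have hL3 : Three' L := three'_mono inf_le_left hN3
  have hxL : Inv' x L := inv'_inf hxN (inv'_centralizer hxU)
  obtain ⟨l₀, hl₀, hl₀1⟩ : ∃ l ∈ L, l ≠ 1 := by
    by_contra hno
    push Not at hno
    have hN1 : N ≠ ⊥ := fun e1 => hB.ne_bot ((Subgroup.map_eq_bot_iff_of_injective _ H.subtype_injective).1 e1)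
    refine hN1 ((Subgroup.eq_bot_iff_forall N).2 fun n hn => by_contra fun hn1 => hn1 (hno n ?_))
    refine ⟨hn, Subgroup.mem_centralizer_iff.2 fun w hw => ?_⟩
    exact (commutatorElement_eq_one_iff_commute.1 (hno _ (hcomL n hn w hw))).eq.symm
  have hρ2 : ∀ (n : N) (v : Fin d → ℂ), ρ (n : G) (ρ (n : G) v) = v := fun n v => by
    rw [← Module.End.mul_apply, ← map_mul, hNsq _ n.2, map_one]; rfl
  obtain ⟨v₁, hv₁⟩ : ∃ v, ρ l₀ v ≠ v := by
    by_contra hno
    push Not at hno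
    exact hl₀1 (hf l₀ (LinearMap.ext hno))
  haveI := Fintype.ofFinite N
  obtain ⟨v, hv0, hvl, hvev⟩ := common_sign (fun n : N => ρ (n : G)) hρ2
    (fun k l v => by
      rw [← Module.End.mul_apply, ← map_mul, hNcomm _ k.2 _ l.2, map_mul, Module.End.mul_apply])
    (v₀ := v₁ - ρ l₀ v₁) (sub_ne_zero.2 (Ne.symm hv₁)) (k₀ := ⟨l₀, (Subgroup.mem_inf.1 hl₀).1⟩)
    (by rw [map_sub, hρ2 ⟨l₀, (Subgroup.mem_inf.1 hl₀).1⟩, neg_sub]) Finset.univ
  choose γ hγ using fun n : N => hvev n (Finset.mem_univ n)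
  have hmul : ∀ n m : N, γ (n * m) = γ n * γ m := fun n m => by
    apply smul_left_injective ℂ hv0
    show γ (n * m) • v = (γ n * γ m) • v
    rw [← hγ, Subgroup.coe_mul, map_mul, Module.End.mul_apply, hγ m, map_smul, hγ n, smul_smul, mul_comm]
  have hne0 : ∀ n : N, γ n ≠ 0 := fun n e0 => hv0 (by
    have := hρ2 n v
    rwa [hγ n, e0, zero_smul, map_zero, eq_comm] at this)
  -- the nine vectors
  let w : Fin 3 → G := ![1, u, u']
  have hwU : ∀ j, w j ∈ U := by
    intro j; fin_cases j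
    exacts [one_mem U, hu, hu'U]
  have hwd : ∀ j k, j ≠ k → (w j)⁻¹ * w k ∉ N := by
    intro j k hjk
    have hs' : u'⁻¹ * u ∉ N := fun hh => huu' (by simpa using inv_mem hh)
    fin_cases j <;> fin_cases k <;> first | exact absurd rfl hjk | skip
    all_goals simp [w, huN, hu'N, huu', hs']
  have hxpow : ∀ (i : ℕ) (n : G), n ∈ N → (x ^ i)⁻¹ * n * x ^ i ∈ N := by
    intro i n hn
    have := (Subgroup.mem_normalizer_iff.1 (inv_mem (pow_mem (inv'_iff_mem_normalizer.1 hxN) i)) n).1 hn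
    simpa using this
  have hUN : ∀ (j : Fin 3) (n : G), n ∈ N → (w j)⁻¹ * n * w j ∈ N := by
    intro j n hn
    obtain ⟨g, -, hg⟩ := hwU j
    have := hnormN g⁻¹ n hn
    rw [← hg]; simpa using this
  let gg : Fin 3 × Fin 3 → G := fun p => x ^ (p.1 : ℕ) * w p.2
  have hgN : ∀ p (n : N), (gg p)⁻¹ * (n : G) * gg p ∈ N := fun p n => by
    have := hUN p.2 _ (hxpow p.1 _ n.2)
    simpa [gg, mul_assoc] using this
  let c : Fin 3 × Fin 3 → N → ℂ := fun p n => γ ⟨_, hgN p n⟩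
  have hind := eigen_indep (fun n : N => ρ (n : G)) (fun p => ρ (gg p) v) c
    (fun p e0 => hv0 (by
      have := congrArg (ρ (gg p)⁻¹) e0
      rwa [← Module.End.mul_apply, ← map_mul, inv_mul_cancel, map_one, map_zero] at this))
    (fun p n => by
      show ρ (n : G) (ρ (gg p) v) = c p n • ρ (gg p) v
      rw [← map_smul, ← hγ ⟨_, hgN p n⟩, ← Module.End.mul_apply, ← map_mul, ← Module.End.mul_apply, ← map_mul]
      congr 2
      group)
    ?_
  · have := hind.fintype_card_le_finrank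
    simpa using this
  rintro ⟨i, j⟩ ⟨k, l⟩ hne
  by_contra hall
  push Not at hall
  have hγl : γ ⟨l₀, (Subgroup.mem_inf.1 hl₀).1⟩ = -1 := by
    apply smul_left_injective ℂ hv0
    show γ _ • v = (-1 : ℂ) • v
    rw [← hγ, neg_one_smul]; exact hvl
  have hnontriv : ¬ ∀ (z : G) (hz : z ∈ L), γ ⟨z, (Subgroup.mem_inf.1 hz).1⟩ = 1 := fun hh => by
    have := hh l₀ hl₀
    rw [hγl] at this
    norm_num at this
  have hik : i = k := by
    by_contra hik
    apply hnontriv
    -- a power of `x` fixes the eigenvalue on `L`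
    have hstep : ∀ (m : ℕ) (z : G) (hz : z ∈ L), (x ^ m)⁻¹ * z * x ^ m ∈ L := fun m z hz => by
      have := (Subgroup.mem_normalizer_iff.1 (inv_mem (pow_mem (inv'_iff_mem_normalizer.1 hxL) m)) z).1 hz
      simpa using this
    have hpull : ∀ (i : ℕ) (j : Fin 3) (z : G), z ∈ L →
        (x ^ i * w j)⁻¹ * z * (x ^ i * w j) = (x ^ i)⁻¹ * z * x ^ i := fun i j z hz => by
      have hc := Subgroup.mem_centralizer_iff.1 (Subgroup.mem_inf.1 (hstep i z hz)).2 _ (hwU j)
      rw [mul_inv_rev, show (w j)⁻¹ * (x ^ i)⁻¹ * z * (x ^ i * w j) = (w j)⁻¹ * ((x ^ i)⁻¹ * z * x ^ i * w j) by group,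
        ← hc, inv_mul_cancel_left]
    have heq : ∀ (z : G) (hz : z ∈ L), γ ⟨_, (Subgroup.mem_inf.1 (hstep i z hz)).1⟩ =
        γ ⟨_, (Subgroup.mem_inf.1 (hstep k z hz)).1⟩ := fun z hz => by
      have := hall ⟨z, (Subgroup.mem_inf.1 hz).1⟩
      simp only [c, gg] at this
      convert this using 3
      · exact (hpull i j z hz).symm
      · exact (hpull k l z hz).symm
    have hx1 : ∀ (z : G) (hz : z ∈ L), γ ⟨z, (Subgroup.mem_inf.1 hz).1⟩ =
        γ ⟨_, (Subgroup.mem_inf.1 (hstep 1 z hz)).1⟩ := by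
      have hd : ∀ m, (∀ (z : G) (hz : z ∈ L), γ ⟨z, (Subgroup.mem_inf.1 hz).1⟩ =
          γ ⟨_, (Subgroup.mem_inf.1 (hstep m z hz)).1⟩) → ∀ (z : G) (hz : z ∈ L),
          γ ⟨z, (Subgroup.mem_inf.1 hz).1⟩ = γ ⟨_, (Subgroup.mem_inf.1 (hstep (m + m) z hz)).1⟩ := by
        intro m hm z hz
        rw [hm z hz, hm _ (hstep m z hz)]
        congr 2
        rw [pow_add]; group
      have hshift : ∀ (p r : ℕ), p ≤ 2 → p + r = 3 → ∀ (z : G) (hz : z ∈ L),
          (x ^ p)⁻¹ * ((x ^ r)⁻¹ * z * x ^ r) * x ^ p = z := fun p r _ hpr z _ => by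
        have : x ^ r * x ^ p = 1 := by rw [← pow_add, add_comm, hpr, h.pow_three]
        rw [show (x ^ p)⁻¹ * ((x ^ r)⁻¹ * z * x ^ r) * x ^ p = (x ^ r * x ^ p)⁻¹ * z * (x ^ r * x ^ p) by group, this]
        simp
      obtain ⟨m, hm0, hm2, hm⟩ : ∃ m : ℕ, 1 ≤ m ∧ m ≤ 2 ∧ ∀ (z : G) (hz : z ∈ L),
          γ ⟨z, (Subgroup.mem_inf.1 hz).1⟩ = γ ⟨_, (Subgroup.mem_inf.1 (hstep m z hz)).1⟩ := by
        refine ⟨((k : ℕ) + 3 - i) % 3, by omega, by omega, fun z hz => ?_⟩
        have h1 := heq _ (hstep (3 - i) z hz)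
        convert h1 using 3
        · exact (hshift i (3 - i) (by omega) (by omega) z hz).symm
        · rw [show (x ^ (k : ℕ))⁻¹ * ((x ^ (3 - (i : ℕ)))⁻¹ * z * x ^ (3 - (i : ℕ))) * x ^ (k : ℕ) =
            (x ^ (3 - (i : ℕ)) * x ^ (k : ℕ))⁻¹ * z * (x ^ (3 - (i : ℕ)) * x ^ (k : ℕ)) by group,
            ← pow_add, pow_eq_pow_mod (3 - (i : ℕ) + k) h.pow_three,
            show (3 - (i : ℕ) + k) % 3 = ((k : ℕ) + 3 - i) % 3 by congr 1; omega]
      rcases (show m = 1 ∨ m = 2 by omega) with rfl | rfl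
      · exact hm
      · intro z hz
        rw [hd 2 hm z hz]
        congr 2
        rw [show 2 + 2 = 3 + 1 from rfl, pow_succ, h.pow_three, one_mul, pow_one]
    intro z hz
    obtain ⟨n, hn, en⟩ := h.preimage hL3 hxL hz
    have hn' : x * n * x⁻¹ ∈ L := (hxL n).1 hn
    have h1 := hx1 _ hn'
    have e1 : (⟨(x ^ 1)⁻¹ * (x * n * x⁻¹) * x ^ 1, (Subgroup.mem_inf.1 (hstep 1 _ hn')).1⟩ : N) =
        ⟨n, (Subgroup.mem_inf.1 hn).1⟩ := Subtype.ext (by simp [mul_assoc])
    rw [e1] at h1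
    have e2 : (⟨z, (Subgroup.mem_inf.1 hz).1⟩ : N) =
        ⟨n, (Subgroup.mem_inf.1 hn).1⟩ * ⟨x * n * x⁻¹, (Subgroup.mem_inf.1 hn').1⟩ := Subtype.ext (by
      show z = n * (x * n * x⁻¹)
      rw [← en, hNinv n (Subgroup.mem_inf.1 hn).1])
    have e3 : (⟨n, (Subgroup.mem_inf.1 hn).1⟩ : N) * ⟨n, (Subgroup.mem_inf.1 hn).1⟩ = 1 :=
      Subtype.ext (hNsq n (Subgroup.mem_inf.1 hn).1)
    rw [e2, hmul, h1, ← hmul, e3]
    apply smul_left_injective ℂ hv0
    show γ 1 • v = (1 : ℂ) • v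
    rw [← hγ, one_smul, Subgroup.coe_one, map_one]; rfl
  subst hik
  have hjl : j ≠ l := fun e' => hne (by rw [e'])
  apply hnontriv
  intro z hz
  obtain ⟨m, hm, em⟩ := hsur _ (mul_mem (inv_mem (hwU j)) (hwU l)) (hwd j l hjl) z hz
  obtain ⟨gl, -, hgl⟩ := hwU l
  have hml : w l * m * (w l)⁻¹ ∈ N := by rw [← hgl]; exact hnormN gl m hm
  have hxm : x ^ (i : ℕ) * (w l * m * (w l)⁻¹) * (x ^ (i : ℕ))⁻¹ ∈ N :=
    (Subgroup.mem_normalizer_iff.1 (pow_mem (inv'_iff_mem_normalizer.1 hxN) _) _).1 hml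
  have h1 := hall ⟨_, hxm⟩
  simp only [c, gg] at h1
  set W := (w j)⁻¹ * w l with hW
  have hWm : W * m * W⁻¹ ∈ N := by
    obtain ⟨gw, -, hgw⟩ := mul_mem (inv_mem (hwU j)) (hwU l)
    rw [hW, ← hgw]; exact hnormN gw m hm
  have h2 : γ ⟨W * m * W⁻¹, hWm⟩ = γ ⟨m, hm⟩ := by
    convert h1 using 3
    · rw [hW]; group
    · group
  have e2 : (⟨z, (Subgroup.mem_inf.1 hz).1⟩ : N) * ⟨W * m * W⁻¹, hWm⟩ = ⟨m, hm⟩ := Subtype.ext (by
    show z * (W * m * W⁻¹) = m
    rw [← em, commutatorElement_def]; group)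
  have h3 := hmul ⟨z, (Subgroup.mem_inf.1 hz).1⟩ ⟨W * m * W⁻¹, hWm⟩
  rw [e2, h2] at h3
  exact mul_right_cancel₀ (hne0 ⟨m, hm⟩) (h3.symm.trans (one_mul _).symm)

end CfsgLib.KFactNine
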