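import Cfsg.Agent.Lib.KFactNine.Max

/-!
The parts at the prime two.
-/

set_option autoImplicit false
set_option linter.unusedSectionVars false

namespace CfsgLib.KFactNine

open CfsgLib.SelfCentThree
open scoped commutatorElement

universe u

variable {G : Type u} [Group G] [Finite G] {x : G}

theorem three'_bot_two {Z : Subgroup G} (hZ : IsPGroup 2 Z) : Three' Z := fun h3 => by
  haveI : Fact (Nat.Prime 2) := ⟨Nat.prime_two⟩
  obtain ⟨n, hn⟩ := IsPGroup.iff_card.1 hZ
  have := Nat.prime_three.dvd_of_dvd_pow (hn ▸ h3)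
  norm_num at this

theorem _root_.CfsgLib.SelfCentThree.Part.nine_card_four_pow {M P : Subgroup G} (h : P3 x) (hP : Part x M P 2)
    (hM : Max x M) : Nat.card P = 4 ∨ 16 ≤ Nat.card P := by
  have h1 := h.card_mod_three (three'_mono hP.le hM.three') hP.inv
  obtain ⟨n, hn⟩ : ∃ n, Nat.card P = 2 ^ n := ⟨_, hP.card⟩
  rw [hn] at h1 ⊢
  rcases (show n = 0 ∨ n = 1 ∨ n = 2 ∨ n = 3 ∨ 4 ≤ n by omega) with e | e | e | e | e
  · exact absurd (Subgroup.card_eq_one.1 (by rw [hn, e, pow_zero])) hP.ne_bot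
  · subst e; norm_num at h1
  · subst e; exact Or.inl rfl
  · subst e; norm_num at h1
  · exact Or.inr (le_trans (by norm_num) (Nat.pow_le_pow_right (show 1 ≤ 2 by norm_num) e))

/-- An element of two-power order of the normalizer, outside the maximal subgroup, gives an element of order three. -/
theorem _root_.CfsgLib.SelfCentThree.Part.nine_order_three {M P : Subgroup G} {q : ℕ} (h : P3 x) (hM : Max x M) (hP : Part x M P q) {s : G}
    (hs : s ∈ Subgroup.normalizer (M : Set G)) (hsM : s ∉ M) (hs2 : ∃ n : ℕ, s ^ 2 ^ n = 1) :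
    ∀ d : G, d = x * s * x⁻¹ * s⁻¹ ∨ d = s * (x * s * x⁻¹)⁻¹ → ∃ m : ℕ, orderOf (d ^ m) = 3 := by
  set H := Subgroup.normalizer (M : Set G) with hH
  have hxH : x ∈ H := inv'_iff_mem_normalizer.1 hM.inv
  haveI : (M.subgroupOf H).Normal := Subgroup.normal_in_normalizer
  have hM3 : Three' (M.subgroupOf H) := fun e =>
    hM.three' (by rwa [Nat.card_congr (Subgroup.subgroupOfEquivOfLe Subgroup.le_normalizer).toEquiv] at e)
  set f := QuotientGroup.mk' (M.subgroupOf H)
  set X : H := ⟨x, hxH⟩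
  set S : H := ⟨s, hs⟩
  have hX : SC3 (f X) := (h.loc' hM.three' hM.inv hM.ne_bot).quot _ hM3
  have hnc : ¬ Commute (f X) (f S) := by
    intro hc
    let K : Subgroup G := ((Subgroup.zpowers (f S)).comap f).map H.subtype
    have hK : Three' K := three'_of_no_elt fun k hk hk3 => by
      obtain ⟨w, hw, rfl⟩ := hk
      obtain ⟨i, hi⟩ := Subgroup.mem_zpowers_iff.1 (show f w ∈ Subgroup.zpowers (f S) from hw)
      obtain ⟨n, hn⟩ := hs2
      have hS1 : S ^ 2 ^ n = 1 := Subtype.ext (by simpa [S] using hn)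
      have h1 : f (w ^ 2 ^ n) = 1 := by
        rw [map_pow, ← hi, ← zpow_natCast, ← zpow_mul, mul_comm, zpow_mul, zpow_natCast, ← map_pow, hS1, map_one, one_zpow]
      have h2 : (w : G) ^ 2 ^ n ∈ M := by
        have := (QuotientGroup.eq_one_iff _).1 h1
        simpa [Subgroup.mem_subgroupOf] using this
      have h3 : orderOf (w : G) ∣ 2 ^ n * Nat.card M := orderOf_dvd_of_pow_eq_one (by
        rw [pow_mul]
        exact congrArg Subtype.val (pow_card_eq_one' (x := (⟨_, h2⟩ : M))))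
      rw [show (H.subtype w) = (w : G) from rfl] at hk3
      rw [hk3] at h3
      rcases (Nat.Prime.dvd_mul Nat.prime_three).1 h3 with e | e
      · have := Nat.prime_three.dvd_of_dvd_pow e; norm_num at this
      · exact hM.three' e
    have hxK : Inv' x K := inv'_of_le fun k hk => by
      obtain ⟨w, hw, rfl⟩ := hk
      refine ⟨X * w * X⁻¹, ?_, rfl⟩
      obtain ⟨i, hi⟩ := Subgroup.mem_zpowers_iff.1 (show f w ∈ Subgroup.zpowers (f S) from hw)
      show f (X * w * X⁻¹) ∈ Subgroup.zpowers (f S)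
      rw [map_mul, map_mul, map_inv, ← hi, (hc.zpow_right i).eq, mul_inv_cancel_right]
      exact Subgroup.zpow_mem_zpowers _ _
    exact hsM (hP.absorb K x h.ord hxH hK hxK (Subgroup.map_subtype_le _) ⟨S, Subgroup.mem_zpowers _, rfl⟩)
  have hcard : Nat.card (H ⧸ M.subgroupOf H) = 3 ∨ Nat.card (H ⧸ M.subgroupOf H) = 6 := by
    have h1 := Subgroup.card_eq_card_quotient_mul_card_subgroup (M.subgroupOf H)
    rw [Nat.card_congr (Subgroup.subgroupOfEquivOfLe (Subgroup.le_normalizer (H := M))).toEquiv] at h1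
    have h0 : 0 < Nat.card M := Nat.card_pos
    rcases hP.card_norm with e | e <;> rw [e] at h1
    · exact Or.inl (Nat.eq_of_mul_eq_mul_right h0 h1.symm)
    · exact Or.inr (Nat.eq_of_mul_eq_mul_right h0 h1.symm)
  have hidx : (Subgroup.zpowers (f X)).index = 1 ∨ (Subgroup.zpowers (f X)).index = 2 := by
    have := (Subgroup.zpowers (f X)).card_mul_index
    rw [hX.card_zpowers] at this
    omega
  haveI hn : (Subgroup.zpowers (f X)).Normal := by
    rcases hidx with e | e
    · rw [Subgroup.index_eq_one.1 e]; infer_instance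
    · exact Subgroup.normal_of_index_eq_two e
  have hd : ∀ d : H, (f d ∈ Subgroup.zpowers (f X)) → f d ≠ 1 → ∃ m : ℕ, orderOf ((d : G) ^ m) = 3 := by
    intro d hd hd1
    refine ⟨Nat.card M, ?_⟩
    have hd3 : f d ^ 3 = 1 := by
      obtain ⟨i, hi⟩ := Subgroup.mem_zpowers_iff.1 hd
      rw [← hi, ← zpow_natCast, ← zpow_mul, mul_comm, zpow_mul, zpow_natCast, hX.pow_three, one_zpow]
    haveI := Fact.mk Nat.prime_three
    refine orderOf_eq_prime ?_ fun e => ?_
    · have h2 : (d : G) ^ 3 ∈ M := by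
        have := (QuotientGroup.eq_one_iff _).1 (show f (d ^ 3) = 1 by rw [map_pow, hd3])
        simpa [Subgroup.mem_subgroupOf] using this
      rw [← pow_mul, mul_comm, pow_mul]
      exact congrArg Subtype.val (pow_card_eq_one' (x := (⟨_, h2⟩ : M)))
    · have h3 : f d ^ Nat.card M = 1 := by
        rw [← map_pow]
        have : d ^ Nat.card M = 1 := Subtype.ext (by simpa using e)
        rw [this, map_one]
      have h4 : orderOf (f d) = 3 := orderOf_eq_prime hd3 hd1
      exact hM.three' (h4 ▸ orderOf_dvd_of_pow_eq_one h3)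
  rintro d (rfl | rfl)
  · refine hd (X * S * X⁻¹ * S⁻¹) ?_ fun e => hnc ?_
    · simp only [map_mul, map_inv]
      rw [show f X * f S * (f X)⁻¹ * (f S)⁻¹ = f X * (f S * (f X)⁻¹ * (f S)⁻¹) by group]
      exact mul_mem (Subgroup.mem_zpowers _) (hn.conj_mem _ (inv_mem (Subgroup.mem_zpowers _)) _)
    · rwa [map_mul, map_mul, map_mul, map_inv, map_inv, ← commutatorElement_def,
        commutatorElement_eq_one_iff_commute] at e
  · refine hd (S * (X * S * X⁻¹)⁻¹) ?_ fun e => hnc ?_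
    · simp only [map_mul, map_inv]
      rw [show f S * (f X * f S * (f X)⁻¹)⁻¹ = (f S * f X * (f S)⁻¹) * (f X)⁻¹ by group]
      exact mul_mem (hn.conj_mem _ (Subgroup.mem_zpowers _) _) (inv_mem (Subgroup.mem_zpowers _))
    · simp only [map_mul, map_inv, mul_inv_eq_one] at e
      exact (eq_mul_inv_iff_mul_eq.1 e).symm

/-- Subgroups of the part centralized by an outer element are small. -/
theorem _root_.CfsgLib.SelfCentThree.Part.nine_invert_small {M P : Subgroup G} {q : ℕ} (h : P3 x) (hM : Max x M) (hP : Part x M P q) {s : G}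
    (hs : s ∈ Subgroup.normalizer (M : Set G)) (hsM : s ∉ M) (hs2 : ∃ n : ℕ, s ^ 2 ^ n = 1) {C : Subgroup G}
    (hC : C ≤ P) (hcs : ∀ c ∈ C, Commute c s) : Nat.card C * Nat.card C ≤ Nat.card P := by
  set C' := C.map (MulAut.conj x).toMonoidHom
  obtain ⟨m, hm⟩ := hP.nine_order_three h hM hs hsM hs2 _ (Or.inl rfl)
  have hint : ∀ c ∈ C, c ∈ C' → c = 1 := by
    intro c hc hc'
    have h1 : Commute (x⁻¹ * c * x) s := hcs _ (mem_map_conj.1 hc')
    have h2 : Commute c (x * s * x⁻¹) := by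
      have := h1.map (MulAut.conj x).toMonoidHom
      simpa [mul_assoc] using this
    have h3 : Commute ((x * s * x⁻¹ * s⁻¹) ^ m) c := ((h2.mul_right (hcs c hc).inv_right).pow_right m).symm
    have hs3 := h.of_order hm
    exact hs3.fpf (three'_mono (hC.trans hP.le) hM.three') c hc h3
  have hC' : C' ≤ P := fun k hk => by
    have := hC (mem_map_conj.1 hk)
    have h2 := (hP.inv _).1 this
    simpa [mul_assoc] using h2
  have hinj : Function.Injective (fun p : C × C' => (⟨p.1.1 * p.2.1, mul_mem (hC p.1.2) (hC' p.2.2)⟩ : P)) := by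
    rintro ⟨a, b⟩ ⟨a', b'⟩ e
    have e' : a.1 * b.1 = a'.1 * b'.1 := congrArg Subtype.val e
    have e1 : a'.1⁻¹ * a.1 = b'.1 * b.1⁻¹ := by
      rw [inv_mul_eq_iff_eq_mul, ← mul_assoc, ← e', mul_inv_cancel_right]
    have h1 := hint _ (mul_mem (inv_mem a'.2) a.2) (e1 ▸ mul_mem b'.2 (inv_mem b.2))
    rw [Prod.mk.injEq]
    refine ⟨Subtype.ext (inv_mul_eq_one.1 h1).symm, Subtype.ext ?_⟩
    rw [e1, mul_inv_eq_one] at h1
    exact h1.symm
  have := Nat.card_le_card_of_injective _ hinj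
  rwa [Nat.card_prod, show Nat.card C' = Nat.card C from map_conj_card x C] at this

/-- An outer involution with few fixed points forces a small part. -/
theorem _root_.CfsgLib.SelfCentThree.Part.nine_involution_bound {M P : Subgroup G} {q : ℕ} (h : P3 x) (hM : Max x M) (hP : Part x M P q) {s : G}
    (hs : s ∈ Subgroup.normalizer (M : Set G)) (hsM : s ∉ M) (hs2 : s ^ 2 = 1) :
    Nat.card P ≤ Nat.card (P ⊓ Subgroup.centralizer ({s} : Set G) : Subgroup G) ^ 2 := by
  classical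
  set C := P ⊓ Subgroup.centralizer ({s} : Set G)
  have hsN : s ∈ Subgroup.normalizer (P : Set G) := hP.norm.ge hs
  have hxN : x ∈ Subgroup.normalizer (P : Set G) := inv'_iff_mem_normalizer.1 hP.inv
  have hsinv : s⁻¹ = s := inv_eq_of_mul_eq_one_right (by rw [← pow_two, hs2])
  let A := {u : P // ((u : G) * s) ^ 2 = 1}
  obtain ⟨m, hm⟩ := hP.nine_order_three h hM hs hsM ⟨1, by rw [pow_one, hs2]⟩ _ (Or.inr rfl)
  set e0 := s * (x * s * x⁻¹)⁻¹ with he0
  have hsq : A → A → G := fun a b => (a.1 : G) * s * (x * ((b.1 : G) * s) * x⁻¹)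
  have hmemP : ∀ a b : A, (a.1 : G) * s * (x * ((b.1 : G) * s) * x⁻¹) * e0⁻¹ ∈ P := by
    intro a b
    have h1 : x * (b.1 : G) * x⁻¹ ∈ P := (hP.inv _).1 b.1.2
    have h2 := (Subgroup.mem_normalizer_iff.1 hsN _).1 h1
    have : (a.1 : G) * s * (x * ((b.1 : G) * s) * x⁻¹) * e0⁻¹ = (a.1 : G) * (s * (x * (b.1 : G) * x⁻¹) * s⁻¹) := by
      have hxs : (x * s * x⁻¹) * (x * s * x⁻¹) = 1 := by
        rw [show x * s * x⁻¹ * (x * s * x⁻¹) = x * (s * s) * x⁻¹ by group, ← pow_two, hs2]; group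
      rw [he0, mul_inv_rev, inv_inv]
      calc (a.1 : G) * s * (x * ((b.1 : G) * s) * x⁻¹) * (x * s * x⁻¹ * s⁻¹)
          = (a.1 : G) * s * (x * (b.1 : G) * x⁻¹) * ((x * s * x⁻¹) * (x * s * x⁻¹)) * s⁻¹ := by group
        _ = _ := by rw [hxs]; group
    rw [this]
    exact mul_mem a.1.2 h2
  have hinv : ∀ w : G, w ^ 2 = 1 → w⁻¹ = w := fun w hw => inv_eq_of_mul_eq_one_right (by rw [← pow_two, hw])
  have hAA : Nat.card A * Nat.card A ≤ Nat.card P := by
    rw [← Nat.card_prod]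
    refine Nat.card_le_card_of_injective (fun p => (⟨_, hmemP p.1 p.2⟩ : P)) ?_
    rintro ⟨a, b⟩ ⟨a', b'⟩ e
    have e' := mul_right_cancel (congrArg Subtype.val e)
    set α := (a.1 : G) * s with hα
    set α' := (a'.1 : G) * s with hα'
    set β := x * ((b.1 : G) * s) * x⁻¹ with hβ
    set β' := x * ((b'.1 : G) * s) * x⁻¹ with hβ'
    have hαi := hinv α a.2
    have hα'i := hinv α' a'.2
    have hβi : β⁻¹ = β := hinv β (by rw [hβ, conj_pow, b.2]; group)
    have hβ'i : β'⁻¹ = β' := hinv β' (by rw [hβ', conj_pow, b'.2]; group)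
    set W := α * β with hW
    have e'' : W = α' * β' := e'
    have hWP : W * e0⁻¹ ∈ P := hmemP a b
    have aa : α * α = 1 := by rw [← pow_two]; exact a.2
    have aa' : α' * α' = 1 := by rw [← pow_two]; exact a'.2
    clear_value α α' β β' W
    have hc : Commute (α' * α) W := by
      have i1 : α * W * α = W⁻¹ := by
        rw [hW, mul_inv_rev, hαi, hβi, ← mul_assoc, aa, one_mul]
      have i2 : α' * W * α' = W⁻¹ := by
        rw [e'', mul_inv_rev, hα'i, hβ'i, ← mul_assoc, aa', one_mul]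
      show α' * α * W = W * (α' * α)
      have j1 : α * W = W⁻¹ * α := by rw [← i1, mul_assoc (α * W), aa, mul_one]
      have j2 : α' * W⁻¹ = W * α' := by
        rw [← i2, ← mul_assoc, ← mul_assoc, aa', one_mul]
      rw [mul_assoc, j1, ← mul_assoc, j2, mul_assoc]
    have hk : α' * α ∈ P := by
      rw [show α' * α = (a'.1 : G) * (s * (a.1 : G) * s⁻¹) * (s * s) by rw [hα, hα']; group, ← pow_two, hs2, mul_one]
      exact mul_mem a'.1.2 ((Subgroup.mem_normalizer_iff.1 hsN _).1 a.1.2)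
    have hWd : ∃ j : ℕ, orderOf (W ^ j) = 3 := by
      refine ⟨Nat.card M, ?_⟩
      haveI := Fact.mk Nat.prime_three
      set H := Subgroup.normalizer (M : Set G)
      haveI : (M.subgroupOf H).Normal := Subgroup.normal_in_normalizer
      have he0H : e0 ∈ H := mul_mem hs (inv_mem (mul_mem (mul_mem (inv'_iff_mem_normalizer.1 hM.inv) hs)
        (inv_mem (inv'_iff_mem_normalizer.1 hM.inv))))
      have hWH : W ∈ H := by
        have := mul_mem (Subgroup.le_normalizer (hP.le hWP)) he0H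
        simpa using this
      have hq : QuotientGroup.mk' (M.subgroupOf H) ⟨W, hWH⟩ = QuotientGroup.mk' (M.subgroupOf H) ⟨e0, he0H⟩ := by
        rw [← div_eq_one, ← map_div, QuotientGroup.mk'_apply, QuotientGroup.eq_one_iff]
        simpa [Subgroup.mem_subgroupOf, div_eq_mul_inv] using hP.le hWP
      have hM3 : Three' (M.subgroupOf H) := fun e => hM.three'
        (by rwa [Nat.card_congr (Subgroup.subgroupOfEquivOfLe Subgroup.le_normalizer).toEquiv] at e)
      have hem : orderOf (QuotientGroup.mk' (M.subgroupOf H) ⟨e0, he0H⟩) = 3 := by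
        have hQ3 := ((h.loc' hM.three' hM.inv hM.ne_bot).quot _ hM3).ord
        have hcard : Nat.card (H ⧸ M.subgroupOf H) ∣ 6 := by
          have h1 := Subgroup.card_eq_card_quotient_mul_card_subgroup (M.subgroupOf H)
          rw [Nat.card_congr (Subgroup.subgroupOfEquivOfLe (Subgroup.le_normalizer (H := M))).toEquiv] at h1
          have h2 := hP.card_dvd_six
          rw [h1] at h2
          exact Nat.dvd_of_mul_dvd_mul_right Nat.card_pos h2
        set E := QuotientGroup.mk' (M.subgroupOf H) ⟨e0, he0H⟩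
        have hdiv : orderOf E ∣ 6 := (orderOf_dvd_natCard E).trans hcard
        have hE3 : orderOf (E ^ m) = 3 := by
          refine orderOf_eq_prime ?_ fun hc1 => ?_
          · rw [← map_pow, ← map_pow, show ((⟨e0, he0H⟩ : H) ^ m) ^ 3 = 1 from
              Subtype.ext (by simpa using orderOf_dvd_iff_pow_eq_one.1 hm.dvd), map_one]
          · rw [← map_pow] at hc1
            have := (QuotientGroup.eq_one_iff _).1 hc1
            rw [Subgroup.mem_subgroupOf] at this
            exact hM.three' (hm ▸ (by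
              have h1 := orderOf_dvd_natCard (⟨_, this⟩ : M)
              rwa [Subgroup.orderOf_mk] at h1))
        have h3 : 3 ∣ orderOf E := hE3 ▸ orderOf_pow_dvd m
        rcases (show orderOf E = 3 ∨ orderOf E = 6 by
          have := Nat.le_of_dvd (by norm_num) hdiv
          obtain ⟨j, hj⟩ := h3
          have : 0 < orderOf E := orderOf_pos E
          omega) with e | e
        · exact e
        · exfalso
          have hc6 : Nat.card (H ⧸ M.subgroupOf H) = 6 :=
            Nat.dvd_antisymm hcard (e ▸ orderOf_dvd_natCard E)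
          set X := QuotientGroup.mk' (M.subgroupOf H) ⟨x, inv'_iff_mem_normalizer.1 hM.inv⟩
          have hX := (h.loc' hM.three' hM.inv hM.ne_bot).quot _ hM3
          have hgen : Subgroup.zpowers E = ⊤ := Subgroup.eq_top_of_card_eq _ (by rw [Nat.card_zpowers, e, hc6])
          obtain ⟨i, hi⟩ := Subgroup.mem_zpowers_iff.1 (hgen ▸ Subgroup.mem_top X : X ∈ Subgroup.zpowers E)
          have hcom : Commute X E := by rw [← hi]; exact (Commute.refl E).zpow_left i
          have := Nat.le_of_dvd (by norm_num) (hX.card_zpowers ▸ e ▸ (Nat.card_zpowers E ▸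
            Subgroup.card_dvd_of_le (Subgroup.zpowers_le.2 (hX.cent E hcom))))
          omega
      set E := QuotientGroup.mk' (M.subgroupOf H) ⟨W, hWH⟩
      rw [← hq] at hem
      refine orderOf_eq_prime ?_ fun hc1 => ?_
      · have h1 : (QuotientGroup.mk' (M.subgroupOf H) ((⟨W, hWH⟩ : H) ^ 3)) = 1 := by
          rw [map_pow]; exact orderOf_dvd_iff_pow_eq_one.1 hem.dvd
        have h2 := (QuotientGroup.eq_one_iff _).1 h1
        rw [Subgroup.mem_subgroupOf] at h2
        rw [← pow_mul, mul_comm, pow_mul]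
        exact congrArg Subtype.val (pow_card_eq_one' (x := (⟨_, h2⟩ : M)))
      · have h1 : E ^ Nat.card M = 1 := by
          rw [← map_pow, show (⟨W, hWH⟩ : H) ^ Nat.card M = 1 from Subtype.ext (by simpa using hc1), map_one]
        exact hM.three' (hem ▸ orderOf_dvd_of_pow_eq_one h1)
    obtain ⟨j, hj⟩ := hWd
    have hs3 := h.of_order hj
    have hk1 : α' * α = 1 := by
      exact hs3.fpf (three'_mono hP.le hM.three') _ hk (hc.pow_right j).symm
    have hab : α = α' := by rw [← inv_eq_of_mul_eq_one_right hk1, hα'i]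
    have hbb : β = β' := by
      have := e''
      rw [hW, ← hab] at this
      exact mul_left_cancel this
    rw [Prod.mk.injEq]
    exact ⟨Subtype.ext (Subtype.ext (mul_right_cancel (hα ▸ hα' ▸ hab))),
      Subtype.ext (Subtype.ext (mul_right_cancel (mul_left_cancel (mul_right_cancel (hβ ▸ hβ' ▸ hbb)))))⟩
  have horb : Nat.card P ≤ Nat.card A * Nat.card C := by
    let f : P → A := fun v => ⟨⟨(v : G) * (s * (v : G)⁻¹ * s⁻¹),
      mul_mem v.2 ((Subgroup.mem_normalizer_iff.1 hsN _).1 (inv_mem v.2))⟩, by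
        show ((v : G) * (s * (v : G)⁻¹ * s⁻¹) * s) ^ 2 = 1
        rw [show (v : G) * (s * (v : G)⁻¹ * s⁻¹) * s = (v : G) * s * (v : G)⁻¹ by group, conj_pow, hs2]; group⟩
    haveI := Fintype.ofFinite P
    haveI := Fintype.ofFinite A
    rw [Nat.card_eq_fintype_card, Nat.card_eq_fintype_card (α := A), mul_comm]
    refine Finset.card_le_mul_card_image_of_maps_to (s := Finset.univ) (t := Finset.univ) (f := f)
      (fun _ _ => Finset.mem_univ _) (Nat.card C) fun a _ => ?_
    rcases (Finset.univ.filter fun v => f v = a).eq_empty_or_nonempty with e | ⟨v₀, hv₀⟩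
    · rw [e]; simp
    rw [← Fintype.card_subtype, ← Nat.card_eq_fintype_card]
    refine Nat.card_le_card_of_injective (fun v => (⟨(v₀ : G)⁻¹ * (v.1 : G), ?_, ?_⟩ : C)) fun v w e => ?_
    · exact P.mul_mem (P.inv_mem v₀.2) v.1.2
    · have h1 : f v₀ = f v.1 := (Finset.mem_filter.1 hv₀).2.trans v.2.symm
      have h2 : (v₀ : G) * (s * (v₀ : G)⁻¹ * s⁻¹) = (v.1 : G) * (s * (v.1 : G)⁻¹ * s⁻¹) :=
        congrArg (fun w : A => (w.1 : G)) h1
      refine Subgroup.mem_centralizer_singleton_iff.2 ?_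
      calc (v₀ : G)⁻¹ * (v.1 : G) * s
          = (v₀ : G)⁻¹ * ((v.1 : G) * (s * (v.1 : G)⁻¹ * s⁻¹)) * s * (v.1 : G) := by group
        _ = s * ((v₀ : G)⁻¹ * (v.1 : G)) := by rw [← h2]; group
    · have := congrArg (fun w : C => (w : G)) e
      exact Subtype.ext (Subtype.ext (mul_left_cancel this))
  nlinarith [Nat.card_pos (α := P)]

/-- In a two-group normalized without fixed points no element has a centralizer of index two. -/
theorem index_two_central (h : P3 x) {P : Subgroup G} (hP : IsPGroup 2 P) (hxP : Inv' x P) {a : G} (ha : a ∈ P)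
    {D : Subgroup G} (hD : ∀ v ∈ D, Commute a v) (hDP : ∀ u ∈ P, ∀ v ∈ P, u ∉ D → v ∉ D → u * v ∈ D) :
    ∀ v ∈ P, Commute a v := by
  haveI := Fact.mk Nat.prime_two
  have hP3 : Three' P := fun h3 => by
    obtain ⟨n, hn⟩ := IsPGroup.iff_card.1 hP
    have := Nat.prime_three.dvd_of_dvd_pow (hn ▸ h3)
    norm_num at this
  by_contra hne
  push Not at hne
  obtain ⟨u₀, hu₀, hu₀c⟩ := hne
  have hC : ∀ u ∈ P, ∀ v ∈ P, ¬ Commute a u → ¬ Commute a v → Commute a (u * v) := fun u hu v hv h1 h2 =>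
    hD _ (hDP u hu v hv (fun e => h1 (hD u e)) (fun e => h2 (hD v e)))
  -- a commuting element moved out
  obtain ⟨v, hv, hvc, hvx⟩ : ∃ v ∈ P, Commute a v ∧ ¬ Commute a (x * v * x⁻¹) := by
    by_contra hall
    push Not at hall
    obtain ⟨n, hn, e⟩ := h.preimage hP3 hxP hu₀
    apply hu₀c
    rw [← e]
    by_cases hnc : Commute a n
    · exact hnc.inv_right.mul_right (hall n hn hnc)
    · have hxn : x * n * x⁻¹ ∈ P := (hxP n).1 hn
      refine hC _ (inv_mem hn) _ hxn (fun e1 => hnc (by simpa using e1.inv_right)) fun e1 => hnc ?_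
      have h2 := hall _ hxn e1
      have h3 := hall _ ((hxP _).1 hxn) h2
      rw [show x * (x * (x * n * x⁻¹) * x⁻¹) * x⁻¹ = x ^ 3 * n * (x ^ 3)⁻¹ by rw [pow_three]; group, h.pow_three] at h3
      simpa using h3
  set ax := x * a * x⁻¹ with hax
  set vx := x * v * x⁻¹ with hvxd
  have haxP : ax ∈ P := (hxP a).1 ha
  have hvxP : vx ∈ P := (hxP v).1 hv
  set w := ⁅a, vx⁆ with hw
  have hcen : ∀ p ∈ P, ∀ r ∈ P, ∀ c ∈ P, Commute c ⁅p, r⁆ := fun p hp r hr c hc => h.class_two hP hxP hp hr hc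
  have bil_left : ∀ p ∈ P, ∀ p' ∈ P, ∀ r ∈ P, ⁅p * p', r⁆ = ⁅p, r⁆ * ⁅p', r⁆ := by
    intro p hp p' hp' r hr
    rw [show ⁅p * p', r⁆ = p * ⁅p', r⁆ * p⁻¹ * ⁅p, r⁆ by simp only [commutatorElement_def]; group,
      (hcen p' hp' r hr p hp).eq, mul_inv_cancel_right]
    exact (hcen p hp r hr _ (by
      simp only [commutatorElement_def]
      exact mul_mem (mul_mem (mul_mem hp' hr) (inv_mem hp')) (inv_mem hr))).eq
  have bil_right : ∀ p ∈ P, ∀ r ∈ P, ∀ r' ∈ P, ⁅p, r * r'⁆ = ⁅p, r⁆ * ⁅p, r'⁆ := by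
    intro p hp r hr r' hr'
    rw [show ⁅p, r * r'⁆ = ⁅p, r⁆ * (r * ⁅p, r'⁆ * r⁻¹) by simp only [commutatorElement_def]; group,
      (hcen p hp r' hr' r hr).eq, mul_inv_cancel_right]
  have z1 : ⁅a, ax⁆ = 1 := commutatorElement_eq_one_iff_commute.2 (h.comm_orbit hP3 hxP ha)
  have z2 : ⁅v, vx⁆ = 1 := commutatorElement_eq_one_iff_commute.2 (h.comm_orbit hP3 hxP hv)
  have z3 : ⁅a, v⁆ = 1 := commutatorElement_eq_one_iff_commute.2 hvc
  have z4 : ⁅a * v, ax * vx⁆ = 1 := by
    refine commutatorElement_eq_one_iff_commute.2 ?_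
    have := h.comm_orbit hP3 hxP (mul_mem ha hv)
    rwa [show x * (a * v) * x⁻¹ = ax * vx by rw [hax, hvxd]; group] at this
  rw [bil_left a ha v hv _ (mul_mem haxP hvxP), bil_right a ha ax haxP vx hvxP, bil_right v hv ax haxP vx hvxP,
    z1, z2, one_mul, mul_one] at z4
  have z5 : ⁅ax, v⁆ = w := by
    rw [← commutatorElement_inv v ax, ← eq_inv_of_mul_eq_one_left z4]
  -- apply x
  have hxw : x * w * x⁻¹ = w⁻¹ := by
    have h1 : x * w * x⁻¹ = ⁅ax, x * vx * x⁻¹⁆ := by
      rw [hw, hax, show x * ⁅a, vx⁆ * x⁻¹ = ⁅x * a * x⁻¹, x * vx * x⁻¹⁆ by simp only [commutatorElement_def]; group]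
    have h2 : x * vx * x⁻¹ = (v * vx)⁻¹ := by
      have := h.orbit_prod hP3 hxP hv
      rw [hvxd]
      rw [show x * x * v * (x * x)⁻¹ = x * (x * v * x⁻¹) * x⁻¹ by group] at this
      exact eq_inv_of_mul_eq_one_right this
    have h3 : ⁅ax, v * vx⁆ = w := by
      rw [bil_right ax haxP v hv vx hvxP, z5]
      have : ⁅ax, vx⁆ = 1 := by
        rw [hax, hvxd, show ⁅x * a * x⁻¹, x * v * x⁻¹⁆ = x * ⁅a, v⁆ * x⁻¹ by simp only [commutatorElement_def]; group,
          z3]; group
      rw [this, mul_one]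
    have h4 : ⁅ax, v * vx⁆ * ⁅ax, (v * vx)⁻¹⁆ = 1 := by
      rw [← bil_right ax haxP _ (mul_mem hv hvxP) _ (inv_mem (mul_mem hv hvxP)), mul_inv_cancel,
        commutatorElement_one_right]
    rw [h1, h2, eq_inv_of_mul_eq_one_right h4, h3]
  have hwP : w ∈ P := by
    rw [hw, commutatorElement_def]
    exact mul_mem (mul_mem (mul_mem ha hvxP) (inv_mem ha)) (inv_mem hvxP)
  have hw2 : w = w⁻¹ := by
    have h2 : x * (x * w * x⁻¹) * x⁻¹ = w := by
      rw [hxw, show x * w⁻¹ * x⁻¹ = (x * w * x⁻¹)⁻¹ by group, hxw, inv_inv]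
    have h3 : x * (x * (x * w * x⁻¹) * x⁻¹) * x⁻¹ = w⁻¹ := by rw [h2, hxw]
    rwa [show x * (x * (x * w * x⁻¹) * x⁻¹) * x⁻¹ = x ^ 3 * w * (x ^ 3)⁻¹ by rw [pow_three]; group, h.pow_three,
      one_mul, inv_one, mul_one] at h3
  have hfix : Commute x w := mul_inv_eq_iff_eq_mul.1 (hxw.trans hw2.symm)
  exact hvx (commutatorElement_eq_one_iff_commute.1 (h.fpf hP3 w hwP hfix))

/-- Two large parts of the same order in one two-group share their centres. -/
theorem center_le {y z : G} (hy : P3 y) {M L P Q T : Subgroup G} (hMm : Max y M)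
    (hP : Part y M P 2) (_hQ : Part z L Q 2) (hPT : P ≤ T) (hQT : Q ≤ T) (hT : IsPGroup 2 T)
    (hTP : Nat.card T = 2 * Nat.card P) (hTQ : Nat.card T = 2 * Nat.card Q) (h16 : 16 ≤ Nat.card P) (hne : P ≠ Q) :
    Q ⊓ Subgroup.centralizer (Q : Set G) ≤ P ⊓ Subgroup.centralizer (P : Set G) := by
  classical
  intro w hw
  obtain ⟨hwQ, hwC⟩ := Subgroup.mem_inf.1 hw
  have hcw : ∀ q ∈ Q, Commute w q := fun q hq => (Subgroup.mem_centralizer_iff.1 hwC q hq).symm
  obtain ⟨u₀, hu₀, hu₀Q⟩ : ∃ u ∈ P, u ∉ Q :=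
    SetLike.not_le_iff_exists.1 fun hle => hne (Subgroup.eq_of_le_of_card_ge hle (by omega))
  have hwP : w ∈ P := by
    by_contra hwP
    have hwN : w ∈ Subgroup.normalizer (M : Set G) :=
      hP.norm.le (le_normalizer_of_index_two hPT hTP (hQT hwQ))
    have h2 := two_elt hT (hQT hwQ)
    have hb := hP.nine_invert_small hy hMm hwN (hP.notMem h2 hwP) h2 (C := P ⊓ Q) inf_le_left
      (fun c hc => (hcw c hc.2).symm)
    have hinj : Nat.card P ≤ Nat.card ((P ⊓ Q : Subgroup G) × Bool) := by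
      refine Nat.card_le_card_of_injective (fun v : P => if hv : (v : G) ∈ Q then (⟨v, v.2, hv⟩, true) else
        (⟨u₀⁻¹ * v, P.mul_mem (P.inv_mem hu₀) v.2, mul_mem_of_index_two hQT hTQ (hPT (inv_mem hu₀)) (hPT v.2)
          (fun e => hu₀Q (by simpa using inv_mem e)) hv⟩, false)) fun a b e => ?_
      simp only at e
      split_ifs at e with ha hb
      · exact Subtype.ext (congrArg (fun p : (P ⊓ Q : Subgroup G) × Bool => (p.1 : G)) e)
      · exact absurd (congrArg Prod.snd e) (by simp)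
      · exact absurd (congrArg Prod.snd e) (by simp)
      · exact Subtype.ext (mul_left_cancel (congrArg (fun p : (P ⊓ Q : Subgroup G) × Bool => (p.1 : G)) e))
    rw [Nat.card_prod, show Nat.card Bool = 2 by simp] at hinj
    nlinarith
  refine ⟨hwP, Subgroup.mem_centralizer_iff.2 fun v hv => ?_⟩
  refine (index_two_central hy hP.pgroup hP.inv hwP (D := P ⊓ Q) (fun v hv => hcw v hv.2) ?_ v hv).eq.symm
  intro u hu v hv hu' hv'
  exact ⟨mul_mem hu hv, mul_mem_of_index_two hQT hTQ (hPT hu) (hPT hv) (fun e => hu' ⟨hu, e⟩) (fun e => hv' ⟨hv, e⟩)⟩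

theorem three'_centralizer (h : P3 x) {Z : Subgroup G} (hZ : IsPGroup 2 Z) (h1 : Z ≠ ⊥) :
    Three' (Subgroup.centralizer (Z : Set G)) :=
  three'_of_no_elt fun k hk hk3 => h1 <| (Subgroup.eq_bot_iff_forall Z).2 fun w hw => by
    have hs := h.of_order hk3
    exact hs.fpf (fun h3 => three'_bot_two hZ h3) w hw (Subgroup.mem_centralizer_iff.1 hk w hw).symm

/-- Two large parts in one small two-group coincide. -/
theorem big_eq {y z : G} (hy : P3 y) (hz : P3 z) {M L P Q T : Subgroup G} (hMm : Max y M)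
    (hLm : Max z L) (hP : Part y M P 2) (hQ : Part z L Q 2) (hPT : P ≤ T) (hQT : Q ≤ T) (hT : IsPGroup 2 T)
    (hTP : Nat.card T ≤ 2 * Nat.card P) (hTQ : Nat.card T ≤ 2 * Nat.card Q) (hP16 : 16 ≤ Nat.card P)
    (hQ16 : 16 ≤ Nat.card Q) : P = Q := by
  by_contra hne
  haveI := Fact.mk Nat.prime_two
  obtain ⟨a, ha⟩ := IsPGroup.iff_card.1 hP.pgroup
  obtain ⟨b, hb⟩ := IsPGroup.iff_card.1 hQ.pgroup
  obtain ⟨c, hc⟩ := IsPGroup.iff_card.1 hT
  have hl : ∀ {i j : ℕ}, 2 ^ i ≤ 2 ^ j → i ≤ j := fun h => (Nat.pow_le_pow_iff_right (by norm_num)).1 h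
  have h1 : a ≤ c := hl (ha ▸ hc ▸ Nat.card_le_card_of_injective _ (Subgroup.inclusion_injective hPT))
  have h2 : b ≤ c := hl (hb ▸ hc ▸ Nat.card_le_card_of_injective _ (Subgroup.inclusion_injective hQT))
  have h3 : c ≤ a + 1 := hl (by rw [pow_succ, mul_comm, ← ha, ← hc]; exact hTP)
  have h4 : c ≤ b + 1 := hl (by rw [pow_succ, mul_comm, ← hb, ← hc]; exact hTQ)
  have hmod : ∀ n : ℕ, 2 ^ n % 3 = if n % 2 = 0 then 1 else 2 := by
    intro n
    induction n with
    | zero => rfl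
    | succ n ih =>
      rw [pow_succ, Nat.mul_mod, ih]
      rcases Nat.mod_two_eq_zero_or_one n with e | e <;> simp [e, Nat.add_mod]
  have ma := hy.card_mod_three (three'_mono hP.le hMm.three') hP.inv
  have mb := hz.card_mod_three (three'_mono hQ.le hLm.three') hQ.inv
  rw [ha, hmod] at ma
  rw [hb, hmod] at mb
  have pa : a % 2 = 0 := by by_contra e; simp [e] at ma
  have pb : b % 2 = 0 := by by_contra e; simp [e] at mb
  have hca : c = a + 1 ∧ c = b + 1 := by
    rcases (show c = a ∨ c = a + 1 by omega) with e | e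
    · exfalso
      have hPe : P = T := Subgroup.eq_of_le_of_card_ge hPT (by rw [ha, hc, e])
      have : b = a := by omega
      exact hne (hPe.trans (Subgroup.eq_of_le_of_card_ge hQT (by rw [hb, hc, e, this])).symm)
    · omega
  have eP : Nat.card T = 2 * Nat.card P := by rw [hc, ha, hca.1, pow_succ, mul_comm]
  have eQ : Nat.card T = 2 * Nat.card Q := by rw [hc, hb, hca.2, pow_succ, mul_comm]
  have hZ : P ⊓ Subgroup.centralizer (P : Set G) = Q ⊓ Subgroup.centralizer (Q : Set G) :=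
    le_antisymm (center_le hz hLm hQ hP hQT hPT hT eQ eP hQ16 (Ne.symm hne))
      (center_le hy hMm hP hQ hPT hQT hT eP eQ hP16 hne)
  set Z := P ⊓ Subgroup.centralizer (P : Set G)
  have hC3 := three'_centralizer hy (hP.pgroup.to_le (inf_le_left : Z ≤ P)) (center_ne_bot hP.pgroup hP.ne_bot)
  have hPC : P ≤ Subgroup.centralizer (Z : Set G) := fun p hp => Subgroup.mem_centralizer_iff.2 fun w hw =>
    (Subgroup.mem_centralizer_iff.1 (Subgroup.mem_inf.1 hw).2 p hp).symm
  have hQC : Q ≤ Subgroup.centralizer (Z : Set G) := fun p hp => Subgroup.mem_centralizer_iff.2 fun w hw =>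
    (Subgroup.mem_centralizer_iff.1 (Subgroup.mem_inf.1 (hZ ▸ hw)).2 p hp).symm
  have hyC : Inv' y (Subgroup.centralizer (Z : Set G)) :=
    inv'_centralizer (inv'_inf hP.inv (inv'_centralizer hP.inv))
  obtain ⟨L', hL', hCL⟩ := exists_max hC3 hyC fun e => hP.ne_bot (le_bot_iff.1 (e ▸ hPC))
  obtain ⟨P', hP'⟩ := exists_full_part hy hL' 2 (two_dvd_of_part hP.pgroup hP.ne_bot (hPC.trans hCL))
  have hPP' : P ≤ P' := fun k hk => hP'.mem k (hCL (hPC hk)) (two_elt hP.pgroup hk)
  have hQP' : Q ≤ P' := fun k hk => hP'.mem k (hCL (hQC hk)) (two_elt hQ.pgroup hk)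
  have he : P' = P := by
    rcases hPP'.eq_or_lt with e | hlt
    · exact e.symm
    exfalso
    have hg := normalizer_grows hP'.pgroup hlt
    have hK := hP.absorb (P' ⊓ Subgroup.normalizer (P : Set G)) y hy.ord (inv'_iff_mem_normalizer.1 hMm.inv)
      (three'_mono (inf_le_left.trans hP'.le) hL'.three') (inv'_inf hP'.inv (inv'_normalizer hP.inv))
      (inf_le_right.trans hP.norm.le)
    exact hg.not_ge fun k hk => hP.mem k (hK hk) (two_elt hP'.pgroup (Subgroup.mem_inf.1 hk).1)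
  exact hne (Subgroup.eq_of_le_of_card_ge (he ▸ hQP') (by omega)).symm

/-- A large part has index at most two in any two-group. -/
theorem sylow_big (h : P3 x) {M P T : Subgroup G} (hMm : Max x M) (hP : Part x M P 2)
    (hP16 : 16 ≤ Nat.card P) (hT : IsPGroup 2 T) (hPT : P ≤ T) : Nat.card T ≤ 2 * Nat.card P := by
  haveI := Fact.mk Nat.prime_two
  set T₀ := T ⊓ Subgroup.normalizer (P : Set G) with hT₀
  have h2 : IsPGroup 2 T₀ := hT.to_le inf_le_left
  have hb := hP.card_normalizer_two h2 inf_le_right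
  rcases (inf_le_left : T₀ ≤ T).eq_or_lt with e | hlt
  · rw [← e]; exact hb
  exfalso
  obtain ⟨g, hg, hg0⟩ := SetLike.exists_of_lt (normalizer_grows hT hlt)
  have hP0 : P ≤ T₀ := le_inf hPT Subgroup.le_normalizer
  have hmap : P.map (MulAut.conj g).toMonoidHom ≤ T₀ :=
    (Subgroup.map_mono hP0).trans (inv'_iff_map.1 (inv'_iff_mem_normalizer.2 (Subgroup.mem_inf.1 hg).2)).le
  have he := big_eq h (h.conj g) hMm (hMm.conj g) hP (hP.conj g) hP0 hmap h2 hb
    (by rw [map_conj_card]; exact hb) hP16 (by rw [map_conj_card]; exact hP16)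
  exact hg0 ⟨(Subgroup.mem_inf.1 hg).1, inv'_iff_mem_normalizer.1 (inv'_iff_map.2 he.symm)⟩

/-- A part of order four is elementary. -/
theorem _root_.CfsgLib.SelfCentThree.Part.nine_four_sq (h : P3 x) {M V : Subgroup G} (hMm : Max x M) (hV : Part x M V 2) (h4 : Nat.card V = 4) :
    (∀ a ∈ V, ∀ b ∈ V, Commute a b) ∧ ∀ v ∈ V, v ^ 2 = 1 := by
  haveI := Fact.mk Nat.prime_two
  have hc : ∀ a ∈ V, ∀ b ∈ V, Commute a b := fun a ha b hb => congrArg Subtype.val
    (IsPGroup.commutative_of_card_eq_prime_sq (p := 2) (G := V) (by rw [h4]; rfl) ⟨a, ha⟩ ⟨b, hb⟩)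
  refine ⟨hc, fun v hv => ?_⟩
  set K := Subgroup.closure {w : G | w ∈ V ∧ w ^ 2 = 1}
  have hKV : K ≤ V := (Subgroup.closure_le _).2 fun w hw => hw.1
  have hK2 : ∀ k ∈ K, k ^ 2 = 1 := closure_pow (fun a ha b hb => hc a ha.1 b hb.1) (fun a ha => ha.2)
  have hxK : Inv' x K := inv'_of_le fun k hk => Subgroup.subset_closure
    ⟨(hV.inv k).1 (hKV hk), by rw [conj_pow, hK2 k hk]; group⟩
  obtain ⟨w, hw⟩ := exists_prime_orderOf_dvd_card' (G := V) 2 (h4 ▸ ⟨2, rfl⟩)
  have hwK : (w : G) ∈ K := Subgroup.subset_closure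
    ⟨w.2, orderOf_dvd_iff_pow_eq_one.1 (by rw [Subgroup.orderOf_coe, hw])⟩
  have hK1 : Nat.card K ≠ 1 := fun e => by
    rw [Subgroup.card_eq_one.1 e, Subgroup.mem_bot] at hwK
    rw [← Subgroup.orderOf_coe, hwK, orderOf_one] at hw
    norm_num at hw
  have hm := h.card_mod_three (three'_mono (hKV.trans hV.le) hMm.three') hxK
  have hd := h4 ▸ Subgroup.card_dvd_of_le hKV
  have hle := Nat.le_of_dvd (by norm_num) hd
  have hK4 : Nat.card V ≤ Nat.card K := by omega
  rw [← Subgroup.eq_of_le_of_card_ge hKV hK4] at hv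
  exact hK2 v hv

/-- A part of order four contains the two-elements centralizing it. -/
theorem _root_.CfsgLib.SelfCentThree.Part.nine_four_cent (h : P3 x) {M V : Subgroup G} (hMm : Max x M) (hV : Part x M V 2) (h4 : Nat.card V = 4)
    {s : G} (h2 : ∃ n : ℕ, s ^ 2 ^ n = 1) (hc : ∀ v ∈ V, Commute v s) : s ∈ V := by
  by_contra hsV
  have hsN : s ∈ Subgroup.normalizer (V : Set G) := Subgroup.mem_normalizer_iff.2 fun v => by
    constructor
    · intro hv; rwa [show s * v * s⁻¹ = v by rw [← (hc v hv).eq]; group]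
    · intro hv
      have := hc _ hv
      have e : v = s * v * s⁻¹ := by
        have e' := this.eq
        calc v = s⁻¹ * ((s * v * s⁻¹) * s) := by group
          _ = _ := by rw [e']; group
      rwa [e]
  have := hV.nine_invert_small h hMm (hV.norm.le hsN) (hV.notMem h2 hsV) h2 le_rfl hc
  rw [h4] at this
  omega

/-- A large part and a part of order four do not lie in one two-group. -/
theorem not_coexist {y z : G} (hy : P3 y) (hz : P3 z) {M L P V T : Subgroup G}
    (hMm : Max y M) (hLm : Max z L) (hP : Part y M P 2) (hV : Part z L V 2) (hP16 : 16 ≤ Nat.card P)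
    (h4 : Nat.card V = 4) (hT : IsPGroup 2 T) (hPT : P ≤ T) (hVT : V ≤ T) : False := by
  haveI := Fact.mk Nat.prime_two
  obtain ⟨z₀, hz₀T, hz₀1, hz₀c⟩ := exists_central hT fun e => hP.ne_bot (le_bot_iff.1 (e ▸ hPT))
  have hz₀V : z₀ ∈ V := hV.nine_four_cent hz hLm h4 (two_elt hT hz₀T) fun v hv => (hz₀c v (hVT hv)).symm
  obtain ⟨hVc, hV2⟩ := hV.nine_four_sq hz hLm h4
  obtain ⟨s, hsV, hsP⟩ : ∃ s ∈ V, s ∉ P := SetLike.not_le_iff_exists.1 fun hVP => by
    have hzp : P ⊓ Subgroup.centralizer (P : Set G) ≤ V := fun w hw => hV.nine_four_cent hz hLm h4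
      (two_elt hP.pgroup (Subgroup.mem_inf.1 hw).1)
      fun v hv => Subgroup.mem_centralizer_iff.1 (Subgroup.mem_inf.1 hw).2 v (hVP hv)
    have hzn := center_ne_bot hP.pgroup hP.ne_bot
    have hm := hy.card_mod_three (three'_mono (inf_le_left.trans hP.le) hMm.three')
      (inv'_inf hP.inv (inv'_centralizer hP.inv))
    have hd := h4 ▸ Subgroup.card_dvd_of_le hzp
    have hle := Nat.le_of_dvd (by norm_num) hd
    have h1 : Nat.card (P ⊓ Subgroup.centralizer (P : Set G) : Subgroup G) ≠ 1 :=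
      fun e => hzn (Subgroup.card_eq_one.1 e)
    have he := Subgroup.eq_of_le_of_card_ge hzp (by omega)
    have hPV : P ≤ V := fun p hp => hV.nine_four_cent hz hLm h4 (two_elt hP.pgroup hp) fun v hv => by
      rw [← he] at hv
      exact (Subgroup.mem_centralizer_iff.1 (Subgroup.mem_inf.1 hv).2 p hp).symm
    have := Nat.card_le_card_of_injective _ (Subgroup.inclusion_injective hPV)
    omega
  have hTP : Nat.card T = 2 * Nat.card P := by
    refine le_antisymm (sylow_big hy hMm hP hP16 hT hPT) ?_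
    obtain ⟨a, ha⟩ := IsPGroup.iff_card.1 hP.pgroup
    obtain ⟨c, hc⟩ := IsPGroup.iff_card.1 hT
    have hlt : Nat.card P < Nat.card T := lt_of_not_ge fun e =>
      hsP (Subgroup.eq_of_le_of_card_ge hPT e ▸ hVT hsV)
    rw [ha, hc] at hlt ⊢
    rw [← pow_succ']
    exact Nat.pow_le_pow_right (by norm_num) ((Nat.pow_lt_pow_iff_right (by norm_num)).1 hlt)
  have hTN := (le_normalizer_of_index_two hPT hTP).trans hP.norm.le
  have hzP : z₀ ∈ P := by
    by_contra hzP
    have h2 := two_elt hT hz₀T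
    have := hP.nine_invert_small hy hMm (hTN hz₀T) (hP.notMem h2 hzP) h2 le_rfl fun c hc => (hz₀c c (hPT hc)).symm
    nlinarith
  have hbd := hP.nine_involution_bound hy hMm (hTN (hVT hsV)) (hP.notMem (two_elt hT (hVT hsV)) hsP) (hV2 s hsV)
  have hsub : P ⊓ Subgroup.centralizer ({s} : Set G) ≤ P ⊓ V := fun c hc => by
    obtain ⟨hcP, hcs⟩ := Subgroup.mem_inf.1 hc
    refine ⟨hcP, hV.nine_four_cent hz hLm h4 (two_elt hP.pgroup hcP) ?_⟩
    have hK : V ⊓ Subgroup.centralizer ({c} : Set G) = V := four_gen h4 inf_le_left (a := z₀) (b := s)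
      ⟨hz₀V, Subgroup.mem_centralizer_singleton_iff.2 (hz₀c c (hPT hcP)).eq⟩
      ⟨hsV, Subgroup.mem_centralizer_singleton_iff.2 (Subgroup.mem_centralizer_singleton_iff.1 hcs).symm⟩
      hz₀1 (fun e => hsP (e ▸ one_mem P)) (fun e => hsP (e ▸ hzP))
    intro v hv
    rw [← hK] at hv
    exact Subgroup.mem_centralizer_singleton_iff.1 (Subgroup.mem_inf.1 hv).2
  have hd := h4 ▸ Subgroup.card_dvd_of_le (inf_le_right : P ⊓ V ≤ V)
  have h3 : Nat.card (P ⊓ V : Subgroup G) ≤ 2 := by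
    by_contra hgt
    have hle := Nat.le_of_dvd (by norm_num) hd
    rcases (show Nat.card (P ⊓ V : Subgroup G) = 3 ∨ Nat.card (P ⊓ V : Subgroup G) = 4 by omega) with e | e
    · rw [e] at hd; norm_num at hd
    · rw [← Subgroup.eq_of_le_of_card_ge (inf_le_right : P ⊓ V ≤ V) (by omega)] at hsV
      exact hsP hsV.1
  have h5 := Nat.card_le_card_of_injective _ (Subgroup.inclusion_injective hsub)
  nlinarith

/-- An outer two-element of the normalizer makes the maximal subgroup meet the inverting elements. -/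
theorem _root_.CfsgLib.SelfCentThree.Part.nine_fixed_of_outer (h : P3 x) {M P : Subgroup G} {q : ℕ} (hMm : Max x M)
    (hP : Part x M P q) {s : G} (hsN : s ∈ Subgroup.normalizer (M : Set G)) (hsM : s ∉ M)
    (h2 : ∃ n : ℕ, s ^ 2 ^ n = 1) : ∃ g ∈ Subgroup.normalizer (M : Set G), g * x * g⁻¹ = x⁻¹ := by
  set H := Subgroup.normalizer (M : Set G) with hH
  have hxH : x ∈ H := inv'_iff_mem_normalizer.1 hMm.inv
  haveI : (M.subgroupOf H).Normal := Subgroup.normal_in_normalizer
  have hM3 : Three' (M.subgroupOf H) := fun e => hMm.three'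
    (by rwa [Nat.card_congr (Subgroup.subgroupOfEquivOfLe Subgroup.le_normalizer).toEquiv] at e)
  set f := QuotientGroup.mk' (M.subgroupOf H) with hf
  have hs := (h.loc' hMm.three' hMm.inv hMm.ne_bot).quot (M.subgroupOf H) hM3
  set X := f ⟨x, hxH⟩
  haveI : (Subgroup.zpowers X).Normal := by
    have hidx : (M.subgroupOf H).index = 3 ∨ (M.subgroupOf H).index = 6 := by
      have h1 := (M.subgroupOf H).card_mul_index
      rw [Nat.card_congr (Subgroup.subgroupOfEquivOfLe Subgroup.le_normalizer).toEquiv] at h1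
      have := Nat.card_pos (α := M)
      rcases hP.card_norm with e | e
      · left; rw [e, mul_comm 3] at h1; exact Nat.eq_of_mul_eq_mul_left this h1
      · right; rw [e, mul_comm 6] at h1; exact Nat.eq_of_mul_eq_mul_left this h1
    have h1 := (Subgroup.zpowers X).card_mul_index
    rw [hs.card_zpowers, ← Subgroup.index_eq_card] at h1
    rcases hidx with e | e <;> rw [e] at h1
    · have : (Subgroup.zpowers X).index = 1 := by omega
      rw [Subgroup.index_eq_one.1 this]; infer_instance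
    · exact Subgroup.normal_of_index_eq_two (by omega)
  set σ := f ⟨s, hsN⟩
  have hσ : σ ≠ 1 := fun e => hsM ((QuotientGroup.eq_one_iff (N := M.subgroupOf H) ⟨s, hsN⟩).1 e)
  have hinv : σ * X * σ⁻¹ = X⁻¹ := by
    rcases hs.mem_cases (Subgroup.Normal.conj_mem ‹_› X (Subgroup.mem_zpowers X) σ) with e | e | e
    · exact absurd (conj_eq_one_iff.1 e) hs.ne_one
    · exfalso
      obtain ⟨i, hi⟩ := Subgroup.mem_zpowers_iff.1 (hs.cent σ (mul_inv_eq_iff_eq_mul.1 e).symm)
      refine hσ (eq_one_of_pow_two_three ?_ ?_)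
      · obtain ⟨n, hn⟩ := h2
        exact ⟨n, by rw [← map_pow, show (⟨s, hsN⟩ : H) ^ 2 ^ n = 1 from Subtype.ext hn, map_one]⟩
      · rw [← hi, ← zpow_natCast, ← zpow_mul, mul_comm, zpow_mul, zpow_natCast, hs.pow_three, one_zpow]
    · exact e
  have hv : s * x * s⁻¹ * x ∈ M := by
    have h1 : f (⟨s, hsN⟩ * ⟨x, hxH⟩ * ⟨s, hsN⟩⁻¹ * ⟨x, hxH⟩) = 1 := by
      rw [map_mul, map_mul, map_mul, map_inv, hinv, inv_mul_cancel]
    exact (QuotientGroup.eq_one_iff (N := M.subgroupOf H) ((⟨s, hsN⟩ : H) * (⟨x, hxH⟩ : H) * (⟨s, hsN⟩ : H)⁻¹ *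
      (⟨x, hxH⟩ : H))).1 h1
  obtain ⟨n, hn, e⟩ := h.inv.coset_conj hMm.three' (inv'_inv hMm.inv) hv
  rw [mul_inv_cancel_right] at e
  set g := n⁻¹ * s with hg
  have hgN : g ∈ H := mul_mem (inv_mem (Subgroup.le_normalizer hn)) hsN
  have hgx : g * x * g⁻¹ = x⁻¹ := by
    rw [hg, show n⁻¹ * s * x * (n⁻¹ * s)⁻¹ = n⁻¹ * (s * x * s⁻¹) * n by group, ← e]; group
  exact ⟨g, hgN, hgx⟩

/-- What two unrelated maximal subgroups of even order look like. -/
theorem nonrel_two (h : P3 x)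
    {M L P Q : Subgroup G} (hMm : Max x M) (hLm : Max x L) (hP : Part x M P 2) (hQ : Part x L Q 2)
    (hnr : ¬ Rel x M L) :
    Nat.card P = 4 ∧ 8 ∣ Nat.card G := by
  haveI := Fact.mk Nat.prime_two
  obtain ⟨T, hPT⟩ := hP.pgroup.exists_le_sylow
  obtain ⟨g, hQT⟩ := exists_conj_le hQ.pgroup T
  have hgc := map_conj_card g Q
  rcases hP.nine_card_four_pow h hMm with p4 | p16
  swap
  · exfalso
    rcases hQ.nine_card_four_pow h hLm with q4 | q16
    · exact not_coexist h (h.conj g) hMm (hLm.conj g) hP (hQ.conj g) p16 (hgc.trans q4) T.2 hPT hQT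
    · exact hnr ((rel_of_part h hLm hMm hQ hP (g := g) (big_eq h (h.conj g) hMm (hLm.conj g) hP (hQ.conj g)
        hPT hQT T.2 (sylow_big h hMm hP p16 T.2 hPT)
        (sylow_big (h.conj g) (hLm.conj g) (hQ.conj g) (hgc ▸ q16) T.2 hQT) p16 (hgc ▸ q16)).symm).symm)
  rcases hQ.nine_card_four_pow h hLm with q4 | q16
  swap
  · exact (not_coexist (h.conj g) h (hLm.conj g) hMm (hQ.conj g) hP (hgc ▸ q16) p4 T.2 hQT hPT).elim
  have hlt : P < (T : Subgroup G) := by
    refine lt_of_le_of_ne hPT fun e => hnr ((rel_of_part h hLm hMm hQ hP (g := g)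
      (Subgroup.eq_of_le_of_card_ge (e ▸ hQT) (by rw [hgc, q4, p4]))).symm)
  obtain ⟨s, hs, hsP⟩ := SetLike.exists_of_lt (normalizer_grows T.2 hlt)
  have hs2 := two_elt T.2 (Subgroup.mem_inf.1 hs).1
  refine ⟨p4, ?_⟩
  obtain ⟨n, hn⟩ := IsPGroup.iff_card.1 T.2
  have h4 : Nat.card P < Nat.card (T : Subgroup G) := lt_of_not_ge fun e =>
    hlt.ne (Subgroup.eq_of_le_of_card_ge hPT e)
  rw [p4, hn, show (4 : ℕ) = 2 ^ 2 from rfl, Nat.pow_lt_pow_iff_right (by norm_num)] at h4
  exact ((pow_dvd_pow 2 h4).trans hn.symm.dvd).trans (T : Subgroup G).card_subgroup_dvd_card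

/-- No three pairwise unrelated maximal subgroups have even order. -/
theorem no_three_even (h : P3 x)
    (M : Fin 3 → Subgroup G) (hMm : ∀ i, Max x (M i)) (he : ∀ i, 2 ∣ Nat.card (M i))
    (hnr : ∀ i j, i ≠ j → ¬ Rel x (M i) (M j)) : False := by
  haveI := Fact.mk Nat.prime_two
  choose P hP using fun i => exists_full_part h (hMm i) 2 (he i)
  have h4 : ∀ i, Nat.card (P i) = 4 ∧ 8 ∣ Nat.card G := fun i => by
    obtain ⟨j, hij⟩ := exists_ne i
    have := nonrel_two h (hMm i) (hMm j) (hP i) (hP j) (hnr i j hij.symm)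
    exact this
  let T : Sylow 2 G := default
  have hT8 : 4 < Nat.card (T : Subgroup G) := by
    have h8 := T.pow_dvd_card_of_pow_dvd_card (n := 3) (h4 0).2
    have := Nat.le_of_dvd Nat.card_pos h8
    omega
  choose g hg using fun i => exists_conj_le (hP i).pgroup T
  set Q := fun i => (P i).map (MulAut.conj (g i)).toMonoidHom with hQ
  have hQ4 : ∀ i, Nat.card (Q i) = 4 := fun i => (map_conj_card _ _).trans (h4 i).1
  have hQm := fun i => (hMm i).conj (g i)
  have hQP : ∀ i, Part _ _ (Q i) 2 := fun i => (hP i).conj (g i)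
  have hQT : ∀ i, Q i ≤ (T : Subgroup G) := hg
  obtain ⟨z₀, hz₀T, hz₀1, hz₀c⟩ := exists_central T.2 fun e => by
    rw [e, Subgroup.card_bot] at hT8; omega
  have hz₀Q : ∀ i, z₀ ∈ Q i := fun i => (hQP i).nine_four_cent (h.conj _) (hQm i) (hQ4 i) (two_elt T.2 hz₀T)
    fun v hv => (hz₀c v (hQT i hv)).symm
  have hex : ∀ i, ∃ v ∈ Q i, v ≠ 1 ∧ v ≠ z₀ := fun i => by
    by_contra hh
    push Not at hh
    have : Nat.card (Q i) ≤ Nat.card Bool := Nat.card_le_card_of_injective
      (fun v : Q i => @decide ((v : G) = 1) (Classical.propDecidable _)) fun a b e => by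
        have e' : (a : G) = 1 ↔ (b : G) = 1 := by simpa using e
        by_cases ha : (a : G) = 1
        · exact Subtype.ext (ha.trans (e'.1 ha).symm)
        · exact Subtype.ext ((hh _ a.2 ha).trans (hh _ b.2 (fun eb => ha (e'.2 eb))).symm)
    rw [hQ4 i] at this
    simp at this
  choose v hvQ hv1 hvz using hex
  refine two_classes (T := (T : Subgroup G)) T.2 hT8 (fun i => ⟨v i, hQT i (hvQ i)⟩) (fun i => ?_) (fun i => ?_) ?_
  · exact Subtype.ext (((hQP i).nine_four_sq (h.conj _) (hQm i) (hQ4 i)).2 _ (hvQ i))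
  · rw [← hQ4 i, ← Nat.card_congr (Subgroup.subgroupOfEquivOfLe (hQT i)).toEquiv]
    congr 2
    ext a
    rw [Subgroup.mem_centralizer_singleton_iff, Subgroup.mem_subgroupOf]
    constructor
    · intro ha
      have ha' : (a : G) * v i = v i * a := congrArg Subtype.val ha
      refine (hQP i).nine_four_cent (h.conj _) (hQm i) (hQ4 i) (two_elt T.2 a.2) ?_
      have hK : Q i ⊓ Subgroup.centralizer ({(a : G)} : Set G) = Q i := four_gen (hQ4 i) inf_le_left
        (a := z₀) (b := v i) ⟨hz₀Q i, Subgroup.mem_centralizer_singleton_iff.2 (hz₀c a a.2).eq⟩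
        ⟨hvQ i, Subgroup.mem_centralizer_singleton_iff.2 ha'.symm⟩ hz₀1 (hv1 i) (Ne.symm (hvz i))
      intro w hw
      rw [← hK] at hw
      exact Subgroup.mem_centralizer_singleton_iff.1 (Subgroup.mem_inf.1 hw).2
    · intro ha
      exact Subtype.ext (((hQP i).nine_four_sq (h.conj _) (hQm i) (hQ4 i)).1 _ ha _ (hvQ i)).eq
  · intro i j hc
    by_contra hij
    obtain ⟨c, hc⟩ := isConj_iff.1 hc
    have hc' : (c : G) * v i * (c : G)⁻¹ = v j := congrArg Subtype.val hc
    set K := (Q i).map (MulAut.conj (c : G)).toMonoidHom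
    have hKe : Q j ⊓ K = Q j := four_gen (hQ4 j) inf_le_left (a := z₀) (b := v j)
      ⟨hz₀Q j, z₀, hz₀Q i, by simp [← (hz₀c c c.2).eq]⟩ ⟨hvQ j, v i, hvQ i, hc'⟩ hz₀1 (hv1 j) (Ne.symm (hvz j))
    have he' : K = Q j := (Subgroup.eq_of_le_of_card_ge (inf_eq_left.1 hKe)
      (by rw [map_conj_card, hQ4, hQ4])).symm
    refine hnr i j hij (rel_of_part h (hMm i) (hMm j) (hP i) (hP j) (g := (g j)⁻¹ * ((c : G) * g i)) ?_)
    rw [← map_conj_mul, ← map_conj_mul]
    show K.map _ = _
    rw [he']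
    show ((P j).map _).map _ = _
    rw [map_conj_mul, inv_mul_cancel]
    ext k; simp [mem_map_conj]

end CfsgLib.KFactNine
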